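import Groth.Agent.W4c1limliniiii.K808.LC
import Mathlib.RingTheory.Spectrum.Prime.FreeLocus
import Mathlib.RingTheory.Valuation.ValuationSubring

/-!
Submodules of `A^d` with locally free quotient of given rank.
-/

set_option autoImplicit false

universe u

namespace K808.LN

open K808.LC

section Nice

variable {A : Type*} [CommRing A] {d : ℕ}

/-- The quotient by `N` is locally free of rank `k`. -/
structure Nice (k : ℕ) (N : Submodule A (Fin d → A)) : Prop where
  fin : Module.Finite A ((Fin d → A) ⧸ N)
  proj : Module.Projective A ((Fin d → A) ⧸ N)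
  rank : ∀ p, Module.rankAtStalk (R := A) ((Fin d → A) ⧸ N) p = k

/-- A family of vectors on which some functionals have invertible determinant spans a summand. -/
theorem nice_of_det {ι : Type*} [Fintype ι] [DecidableEq ι] {r : ℕ} (hι : Fintype.card ι = r)
    (x : ι → Fin d → A) (L : (Fin d → A) →ₗ[A] (ι → A))
    (h : IsUnit (Matrix.of fun i j => L (x j) i).det) :
    Nice (d - r) (Submodule.span A (Set.range x)) := by
  set M : Matrix ι ι A := Matrix.of fun i j => L (x j) i with hM
  set Q : (ι → A) →ₗ[A] (Fin d → A) := Fintype.linearCombination A x with hQ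
  have hLQ : L.comp Q = M.mulVecLin := by
    refine LinearMap.ext fun c => ?_
    ext i
    rw [LinearMap.comp_apply, hQ, Fintype.linearCombination_apply, map_sum, Finset.sum_apply,
      Matrix.mulVecLin_apply, Matrix.mulVec, dotProduct]
    refine Finset.sum_congr rfl fun j _ => ?_
    rw [map_smul, Pi.smul_apply, smul_eq_mul, hM, Matrix.of_apply, mul_comm]
  set L' : (Fin d → A) →ₗ[A] (ι → A) := (M⁻¹).mulVecLin.comp L with hL'
  have hL'Q : L'.comp Q = LinearMap.id := by
    rw [hL', LinearMap.comp_assoc, hLQ, ← Matrix.mulVecLin_mul, Matrix.nonsing_inv_mul _ h,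
      Matrix.mulVecLin_one]
  have hL'Q' : ∀ c, L' (Q c) = c := fun c => LinearMap.congr_fun hL'Q c
  have hN : Submodule.span A (Set.range x) = LinearMap.range Q := by
    rw [hQ, Fintype.range_linearCombination]
  rw [hN]
  -- the section of the quotient map
  let i : ((Fin d → A) ⧸ LinearMap.range Q) →ₗ[A] (Fin d → A) :=
    (LinearMap.range Q).liftQ (LinearMap.id - Q.comp L') (by
      rintro _ ⟨c, rfl⟩
      rw [LinearMap.mem_ker, LinearMap.sub_apply, LinearMap.id_apply, LinearMap.comp_apply,
        hL'Q', sub_self])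
  have hi : ∀ y, i ((LinearMap.range Q).mkQ y) = y - Q (L' y) := fun y => rfl
  have hsplit : (LinearMap.range Q).mkQ.comp i = LinearMap.id := by
    apply Submodule.linearMap_qext
    refine LinearMap.ext fun y => ?_
    have h0 : (LinearMap.range Q).mkQ (Q (L' y)) = 0 :=
      (Submodule.Quotient.mk_eq_zero _).2 ⟨_, rfl⟩
    change (LinearMap.range Q).mkQ (i ((LinearMap.range Q).mkQ y)) = (LinearMap.range Q).mkQ y
    rw [hi, map_sub, h0, sub_zero]
  have hproj : Module.Projective A ((Fin d → A) ⧸ LinearMap.range Q) :=
    Module.Projective.of_split i _ hsplit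
  refine ⟨inferInstance, hproj, fun p => ?_⟩
  have hnt : Nontrivial A := p.nontrivial
  have hmk : ∀ c, (LinearMap.range Q).mkQ (Q c) = 0 := fun c =>
    (Submodule.Quotient.mk_eq_zero _).2 ⟨_, rfl⟩
  have hLi : ∀ q, L' (i q) = 0 := by
    intro q
    obtain ⟨y, rfl⟩ := Submodule.mkQ_surjective _ q
    rw [hi, map_sub, hL'Q', sub_self]
  have hmi : ∀ q, (LinearMap.range Q).mkQ (i q) = q := fun q => LinearMap.congr_fun hsplit q
  let e : (Fin d → A) ≃ₗ[A] (ι → A) × ((Fin d → A) ⧸ LinearMap.range Q) :=
    { toFun := fun y => (L' y, (LinearMap.range Q).mkQ y)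
      map_add' := fun x y => by rw [map_add, map_add]; rfl
      map_smul' := fun a x => by rw [map_smul, map_smul]; rfl
      invFun := fun z => Q z.1 + i z.2
      left_inv := fun y => by
        change Q (L' y) + i ((LinearMap.range Q).mkQ y) = y
        rw [hi]; abel
      right_inv := fun z => by
        refine Prod.ext ?_ ?_
        · change L' (Q z.1 + i z.2) = z.1
          rw [map_add, hL'Q', hLi, add_zero]
        · change (LinearMap.range Q).mkQ (Q z.1 + i z.2) = z.2
          rw [map_add, hmk, hmi, zero_add] }
  have h1 := Module.rankAtStalk_eq_of_equiv e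
  rw [Module.rankAtStalk_prod] at h1
  have h2 := congrFun h1 p
  rw [Pi.add_apply, Module.rankAtStalk_eq_finrank_of_free, Module.rankAtStalk_eq_finrank_of_free,
    Pi.natCast_apply, Pi.natCast_apply, Module.finrank_pi, Module.finrank_pi, Fintype.card_fin,
    hι, Nat.cast_id, Nat.cast_id] at h2
  omega

/-- Nested summands of the same rank are equal. -/
theorem Nice.eq_of_le {k : ℕ} {N V : Submodule A (Fin d → A)} (hN : Nice k N) (hV : Nice k V)
    (h : N ≤ V) : N = V := by
  have := hN.fin
  have := hN.proj
  have := hV.fin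
  have := hV.proj
  let π : ((Fin d → A) ⧸ N) →ₗ[A] ((Fin d → A) ⧸ V) := Submodule.factor h
  have hπ : Function.Surjective π := Submodule.factor_surjective h
  obtain ⟨σ, hσ⟩ := Module.projective_lifting_property π LinearMap.id hπ
  have hσ' : ∀ y, π (σ y) = y := fun y => LinearMap.congr_fun hσ y
  let j : ((Fin d → A) ⧸ N) →ₗ[A] LinearMap.ker π :=
    (LinearMap.id - σ.comp π).codRestrict _ (by
      intro y
      rw [LinearMap.mem_ker, LinearMap.sub_apply, map_sub, LinearMap.comp_apply, hσ',
        LinearMap.id_apply, sub_self])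
  have hj : ∀ z : LinearMap.ker π, j z = z := by
    intro z
    apply Subtype.ext
    change (z : (Fin d → A) ⧸ N) - σ (π z) = z
    rw [LinearMap.mem_ker.1 z.2, map_zero, sub_zero]
  have hfin : Module.Finite A (LinearMap.ker π) :=
    Module.Finite.of_surjective j fun z => ⟨z, hj z⟩
  have hproj : Module.Projective A (LinearMap.ker π) :=
    Module.Projective.of_split (LinearMap.ker π).subtype j (LinearMap.ext hj)
  let e : ((Fin d → A) ⧸ N) ≃ₗ[A] (LinearMap.ker π) × ((Fin d → A) ⧸ V) :=
    { toFun := fun y => (j y, π y)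
      map_add' := fun x y => by rw [map_add, map_add]; rfl
      map_smul' := fun a x => by rw [map_smul, map_smul]; rfl
      invFun := fun z => (z.1 : (Fin d → A) ⧸ N) + σ z.2
      left_inv := fun y => by
        change y - σ (π y) + σ (π y) = y
        abel
      right_inv := fun z => by
        refine Prod.ext ?_ ?_
        · change j (z.1 + σ z.2) = z.1
          rw [map_add, hj]
          have : j (σ z.2) = 0 := by
            apply Subtype.ext
            change σ z.2 - σ (π (σ z.2)) = 0
            rw [hσ', sub_self]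
          rw [this, add_zero]
        · change π (z.1 + σ z.2) = z.2
          rw [map_add, hσ', LinearMap.mem_ker.1 z.1.2, zero_add] }
  have h1 := Module.rankAtStalk_eq_of_equiv e
  rw [Module.rankAtStalk_prod] at h1
  have h2 : Module.rankAtStalk (R := A) (LinearMap.ker π) = 0 := by
    ext p
    have h3 := congrFun h1 p
    rw [Pi.add_apply, hN.rank, hV.rank] at h3
    rw [Pi.zero_apply]
    omega
  have h4 := Module.rankAtStalk_eq_zero_iff_subsingleton.1 h2
  refine le_antisymm h fun x hx => ?_
  have h5 : N.mkQ x ∈ LinearMap.ker π := by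
    rw [LinearMap.mem_ker]
    change V.mkQ x = 0
    exact (Submodule.Quotient.mk_eq_zero _).2 hx
  have h6 : (⟨N.mkQ x, h5⟩ : LinearMap.ker π) = 0 := Subsingleton.elim _ _
  have h7 : N.mkQ x = 0 := congrArg Subtype.val h6
  exact (Submodule.Quotient.mk_eq_zero _).1 h7

end Nice

section Field

variable {K : Type*} [Field K] {d : ℕ}

theorem nice_iff_finrank {r : ℕ} (hr : r ≤ d) (N : Submodule K (Fin d → K)) :
    Nice (d - r) N ↔ Module.finrank K N = r := by
  have h1 := Submodule.finrank_quotient_add_finrank N
  rw [Module.finrank_fin_fun] at h1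
  constructor
  · intro h
    have h2 := h.rank ⟨⊥, Ideal.isPrime_bot⟩
    rw [Module.rankAtStalk_eq_finrank_of_free, Pi.natCast_apply] at h2
    simp only [Nat.cast_id] at h2
    omega
  · intro h
    refine ⟨inferInstance, inferInstance, fun p => ?_⟩
    rw [Module.rankAtStalk_eq_finrank_of_free, Pi.natCast_apply]
    simp only [Nat.cast_id]
    omega

end Field

section Minor

/-- A family with a left inverse has a non-vanishing minor. -/
theorem exists_minor {ι : Type*} [Fintype ι] [DecidableEq ι] {A : Type*} [CommRing A]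
    [Nontrivial A] {d : ℕ} (x : ι → Fin d → A) (l : (Fin d → A) →ₗ[A] (ι → A))
    (hl : ∀ i, l (x i) = Pi.single i 1) :
    ∃ J : ι → Fin d, (Matrix.of fun a b => x a (J b)).det ≠ 0 := by
  by_contra hcon
  push Not at hcon
  have hx : ∀ a b, l (x a) b = ∑ c, l (Pi.single c 1) b * x a c := by
    intro a b
    conv_lhs => rw [pi_eq_sum_univ' (x a), map_sum, Finset.sum_apply]
    refine Finset.sum_congr rfl fun c _ => ?_
    rw [map_smul, Pi.smul_apply, smul_eq_mul, mul_comm]
  have h1 : (1 : Matrix ι ι A) =
      Matrix.of fun b => ∑ c, fun a => l (Pi.single c 1) b * x a c := by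
    ext b a
    rw [Matrix.of_apply, Finset.sum_apply, ← hx, hl, Matrix.one_apply, Pi.single_apply]
  have h2 : (1 : Matrix ι ι A).det = 0 := by
    rw [h1]
    change Matrix.detRowAlternating.toMultilinearMap (fun b => ∑ c, fun a =>
      l (Pi.single c 1) b * x a c) = 0
    rw [MultilinearMap.map_sum]
    refine Finset.sum_eq_zero fun J _ => ?_
    have h3 := Matrix.det_mul_column (fun b => l (Pi.single (J b) 1) b)
      (Matrix.of fun b a => x a (J b))
    have h4 : (Matrix.of fun b a => x a (J b)).det = 0 := by
      rw [← Matrix.det_transpose]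
      exact hcon J
    rw [h4, mul_zero] at h3
    exact h3
  rw [Matrix.det_one] at h2
  exact one_ne_zero h2

end Minor

section Val

variable {K : Type*} [Field K] {d : ℕ}

/-- A subspace has a basis in reduced form with entries in a given valuation ring. -/
theorem exists_reduced (O : ValuationSubring K) {r : ℕ} (V : Submodule K (Fin d → K))
    (hV : Module.finrank K V = r) :
    ∃ (x : Fin r → Fin d → O) (J : Fin r → Fin d),
      (∀ a b, x a (J b) = if a = b then 1 else 0) ∧
      Submodule.span K (Set.range fun a => sc O.subtype (x a)) = V := by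
  subst hV
  obtain ⟨y, hy, hVy⟩ := exists_basis_span V
  obtain ⟨l, hl⟩ := exists_functional hy
  obtain ⟨J0, hJ0⟩ := exists_minor y l hl
  have hne : Nonempty (Fin (Module.finrank K V) → Fin d) := ⟨J0⟩
  obtain ⟨J, hJ⟩ := Finite.exists_max fun J : Fin (Module.finrank K V) → Fin d =>
    O.valuation (Matrix.of fun a b => y a (J b)).det
  set D : Matrix (Fin (Module.finrank K V)) (Fin (Module.finrank K V)) K :=
    Matrix.of fun a b => y a (J b) with hD
  have hDne : D.det ≠ 0 := by
    intro h0
    have h1 := hJ J0
    rw [h0, map_zero, le_zero_iff, map_eq_zero] at h1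
    exact hJ0 h1
  have hDu : IsUnit D.det := isUnit_iff_ne_zero.2 hDne
  -- the reduced basis
  let M : Matrix (Fin (Module.finrank K V)) (Fin d) K := Matrix.of y
  let X : Matrix (Fin (Module.finrank K V)) (Fin d) K := D⁻¹ * M
  have hX1 : D * X = M := by
    change D * (D⁻¹ * M) = M
    rw [← Matrix.mul_assoc, Matrix.mul_nonsing_inv _ hDu, Matrix.one_mul]
  have hXc : ∀ c, (fun a => X a c) = D.det⁻¹ • Matrix.cramer D (fun a => M a c) := by
    intro c
    rw [Matrix.cramer_eq_adjugate_mulVec]
    ext a
    change (D⁻¹ * M) a c = _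
    rw [Matrix.inv_def, Ring.inverse_eq_inv', Matrix.smul_mul, Matrix.smul_apply, Pi.smul_apply]
    rfl
  have hXO : ∀ a c, X a c ∈ O := by
    intro a c
    have h1 := congrFun (hXc c) a
    change X a c = _ at h1
    rw [Pi.smul_apply, Matrix.cramer_apply, smul_eq_mul] at h1
    rw [h1, ← ValuationSubring.valuation_le_one_iff, map_mul, map_inv₀, mul_comm]
    have h2 : D.updateCol a (fun a => M a c) =
        Matrix.of fun i b => y i (Function.update J a c b) := by
      ext i b
      rw [Matrix.updateCol_apply, Matrix.of_apply, Function.update_apply]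
      split_ifs <;> rfl
    rw [h2]
    have h3 := hJ (Function.update J a c)
    have h4 : O.valuation D.det ≠ 0 := by
      rw [Ne, map_eq_zero]; exact hDne
    rw [← div_eq_mul_inv]
    exact (div_le_one₀ (zero_lt_iff.2 h4)).2 h3
  refine ⟨fun a c => ⟨X a c, hXO a c⟩, J, ?_, ?_⟩
  · intro a b
    apply Subtype.ext
    change X a (J b) = _
    have h1 : X a (J b) = (D⁻¹ * D) a b := by
      change (D⁻¹ * M) a (J b) = _
      rw [Matrix.mul_apply, Matrix.mul_apply]
      rfl
    rw [h1, Matrix.nonsing_inv_mul _ hDu, Matrix.one_apply]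
    split_ifs <;> rfl
  · have hsX : ∀ a, X a ∈ V := by
      intro a
      have h1 : X a = ∑ b, D⁻¹ a b • y b := by
        ext c
        change (D⁻¹ * M) a c = _
        rw [Matrix.mul_apply, Finset.sum_apply]
        rfl
      rw [h1]
      exact Submodule.sum_mem _ fun b _ => Submodule.smul_mem _ _
        (by rw [hVy]; exact Submodule.subset_span ⟨b, rfl⟩)
    apply le_antisymm
    · rw [Submodule.span_le]
      rintro _ ⟨a, rfl⟩
      exact hsX a
    · conv_lhs => rw [hVy]
      rw [Submodule.span_le]
      rintro _ ⟨a, rfl⟩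
      have h1 : y a = ∑ b, D a b • X b := by
        ext c
        have h2 : (D * X) a c = M a c := by rw [hX1]
        rw [Matrix.mul_apply] at h2
        rw [Finset.sum_apply]
        exact h2.symm
      rw [h1]
      exact Submodule.sum_mem _ fun b _ => Submodule.smul_mem _ _ (Submodule.subset_span ⟨b, rfl⟩)

/-- Vectors in a subspace with coordinates in the ring are combinations of the reduced basis. -/
theorem mem_of_reduced {A : Type*} [CommRing A] {φ : A →+* K} (hφ : Function.Injective φ) {r : ℕ}
    {x : Fin r → Fin d → A} {J : Fin r → Fin d} (hx : ∀ a b, x a (J b) = if a = b then 1 else 0)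
    {y : Fin d → A} (hy : sc φ y ∈ Submodule.span K (Set.range fun a => sc φ (x a))) :
    y ∈ Submodule.span A (Set.range x) := by
  obtain ⟨c, hc⟩ := (Submodule.mem_span_range_iff_exists_fun K).1 hy
  have h1 : ∀ b, c b = φ (y (J b)) := by
    intro b
    have h2 := congrFun hc (J b)
    rw [Finset.sum_apply] at h2
    simp only [Pi.smul_apply, sc_apply, hx, smul_eq_mul] at h2
    rw [← h2]
    simp
  have h3 : y = ∑ b, y (J b) • x b := by
    apply sc_injective hφ
    rw [← hc, sc_sum]
    refine Finset.sum_congr rfl fun b _ => ?_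
    rw [sc_smul, h1]
  rw [h3]
  exact Submodule.sum_mem _ fun b _ => Submodule.smul_mem _ _ (Submodule.subset_span ⟨b, rfl⟩)

/-- Reduced families span summands. -/
theorem nice_of_reduced {A : Type*} [CommRing A] {r : ℕ}
    {x : Fin r → Fin d → A} {J : Fin r → Fin d} (hx : ∀ a b, x a (J b) = if a = b then 1 else 0) :
    Nice (d - r) (Submodule.span A (Set.range x)) := by
  refine nice_of_det (Fintype.card_fin r) x (LinearMap.funLeft A A J) ?_
  have : (Matrix.of fun i j => LinearMap.funLeft A A J (x j) i) = (1 : Matrix (Fin r) (Fin r) A) := by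
    ext i j
    rw [Matrix.of_apply, LinearMap.funLeft_apply, hx, Matrix.one_apply]
    simp only [eq_comm]
  rw [this, Matrix.det_one]
  exact isUnit_one

end Val

end K808.LN
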