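import Groth.Agent.W4c1limliniiii.K808.Ram
import Mathlib.Algebra.Polynomial.Expand
import Mathlib.Algebra.CharP.Lemmas
import Mathlib.LinearAlgebra.LinearIndependent.Lemmas

/-!
Polynomials in `X ^ p` over a ring of characteristic `p` as constants of the derivation, and the
behaviour of Wronskians and of vanishing orders under matrices of such polynomials.
-/

set_option autoImplicit false

namespace K808.RamB

open Polynomial W4c1limliniiii K808.Ram

section Ring

variable {R : Type*} [CommRing R] (p : ℕ)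

/-- `m` is a polynomial in `X ^ p`. -/
def Con (m : R[X]) : Prop := ∃ f : R[X], expand R p f = m

variable {p}

theorem Con.C (r : R) : Con p (C r) := ⟨Polynomial.C r, expand_C p r⟩

theorem Con.zero : Con p (0 : R[X]) := ⟨0, map_zero _⟩

theorem Con.one : Con p (1 : R[X]) := ⟨1, map_one _⟩

theorem Con.add {m n : R[X]} (hm : Con p m) (hn : Con p n) : Con p (m + n) := by
  obtain ⟨f, rfl⟩ := hm; obtain ⟨g, rfl⟩ := hn; exact ⟨f + g, map_add _ _ _⟩

theorem Con.sub {m n : R[X]} (hm : Con p m) (hn : Con p n) : Con p (m - n) := by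
  obtain ⟨f, rfl⟩ := hm; obtain ⟨g, rfl⟩ := hn; exact ⟨f - g, map_sub _ _ _⟩

theorem Con.neg {m : R[X]} (hm : Con p m) : Con p (-m) := by
  obtain ⟨f, rfl⟩ := hm; exact ⟨-f, map_neg _ _⟩

theorem Con.mul {m n : R[X]} (hm : Con p m) (hn : Con p n) : Con p (m * n) := by
  obtain ⟨f, rfl⟩ := hm; obtain ⟨g, rfl⟩ := hn; exact ⟨f * g, map_mul _ _ _⟩

theorem Con.X_pow (l : ℕ) : Con p ((X : R[X]) ^ (l * p)) :=
  ⟨X ^ l, by rw [map_pow, expand_X, ← pow_mul, mul_comm]⟩

theorem Con.map {S : Type*} [CommRing S] (φ : R →+* S) {m : R[X]} (hm : Con p m) :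
    Con p (m.map φ) := by
  obtain ⟨f, rfl⟩ := hm
  exact ⟨f.map φ, by rw [map_expand]⟩

theorem Con.derivative [CharP R p] {m : R[X]} (hm : Con p m) : derivative m = 0 := by
  obtain ⟨f, rfl⟩ := hm
  rw [derivative_expand]
  have : ((p : ℕ) : R[X]) = 0 := by
    rw [← map_natCast (Polynomial.C : R →+* R[X]), CharP.cast_eq_zero, map_zero]
  rw [this, zero_mul, mul_zero]

theorem Con.sub_dvd [hp : Fact p.Prime] [CharP R p] {m : R[X]} (hm : Con p m) (a : R) :
    (X - Polynomial.C a) ^ p ∣ m - Polynomial.C (m.eval a) := by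
  obtain ⟨f, rfl⟩ := hm
  have h1 : (X - Polynomial.C (a ^ p)) ∣ f - Polynomial.C (f.eval (a ^ p)) :=
    X_sub_C_dvd_sub_C_eval
  have h2 := map_dvd (expand R p) h1
  rw [map_sub, map_sub, expand_X, expand_C, expand_C] at h2
  rw [expand_eval, sub_pow_char, ← Polynomial.C_pow]
  exact h2

theorem Con.natDegree_dvd {m : R[X]} (hm : Con p m) : p ∣ m.natDegree := by
  obtain ⟨f, rfl⟩ := hm
  rw [natDegree_expand]
  exact dvd_mul_left _ _

end Ring

/-- The relation `(F, G) = M (F', G')` with `M` a matrix of polynomials in `X ^ p` of determinant the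
constant `c`. -/
structure Rel {R : Type*} [CommRing R] (p : ℕ) (c : R) (F G F' G' : R[X]) : Prop where
  ex : ∃ m11 m12 m21 m22 : R[X], Con p m11 ∧ Con p m12 ∧ Con p m21 ∧ Con p m22 ∧
    F = m11 * F' + m12 * G' ∧ G = m21 * F' + m22 * G' ∧ m11 * m22 - m12 * m21 = C c

namespace Rel

variable {R : Type*} [CommRing R] {p : ℕ} {c : R} {F G F' G' F'' G'' : R[X]}

theorem refl : Rel p (1 : R) F G F G :=
  ⟨1, 0, 0, 1, Con.one, Con.zero, Con.zero, Con.one, by ring, by ring, by simp⟩

theorem trans {c' : R} (h : Rel p c F G F' G') (h' : Rel p c' F' G' F'' G'') :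
    Rel p (c * c') F G F'' G'' := by
  obtain ⟨a, b, a', b', ha, hb, ha', hb', h1, h2, h3⟩ := h
  obtain ⟨e, f, e', f', he, hf, he', hf', k1, k2, k3⟩ := h'
  refine ⟨a * e + b * e', a * f + b * f', a' * e + b' * e', a' * f + b' * f',
    (ha.mul he).add (hb.mul he'), (ha.mul hf).add (hb.mul hf'), (ha'.mul he).add (hb'.mul he'),
    (ha'.mul hf).add (hb'.mul hf'), ?_, ?_, ?_⟩
  · rw [h1, k1, k2]; ring
  · rw [h2, k1, k2]; ring
  · rw [map_mul, ← h3, ← k3]; ring

theorem map {S : Type*} [CommRing S] (φ : R →+* S) (h : Rel p c F G F' G') :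
    Rel p (φ c) (F.map φ) (G.map φ) (F'.map φ) (G'.map φ) := by
  obtain ⟨a, b, a', b', ha, hb, ha', hb', h1, h2, h3⟩ := h
  refine ⟨a.map φ, b.map φ, a'.map φ, b'.map φ, ha.map φ, hb.map φ, ha'.map φ, hb'.map φ, ?_, ?_, ?_⟩
  · rw [h1]; simp
  · rw [h2]; simp
  · have := congrArg (Polynomial.map φ) h3
    simpa using this

theorem wronskian [CharP R p] (h : Rel p c F G F' G') :
    wronskian F G = C c * wronskian F' G' := by
  obtain ⟨a, b, a', b', ha, hb, ha', hb', rfl, rfl, h3⟩ := h
  rw [wronskian_combo F' G' ha.derivative hb.derivative ha'.derivative hb'.derivative, h3]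

theorem wronskian' [CharP R p] (h : Rel p c F G F' G') :
    Polynomial.wronskian (derivative F) (derivative G) =
      C c * Polynomial.wronskian (derivative F') (derivative G') := by
  obtain ⟨a, b, a', b', ha, hb, ha', hb', rfl, rfl, h3⟩ := h
  have e1 : derivative (a * F' + b * G') = a * derivative F' + b * derivative G' := by
    rw [derivative_add, derivative_mul, derivative_mul, ha.derivative, hb.derivative]; ring
  have e2 : derivative (a' * F' + b' * G') = a' * derivative F' + b' * derivative G' := by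
    rw [derivative_add, derivative_mul, derivative_mul, ha'.derivative, hb'.derivative]; ring
  rw [e1, e2, wronskian_combo _ _ ha.derivative hb.derivative ha'.derivative hb'.derivative, h3]

/-- Transfer of a member vanishing at a point. -/
theorem exists_dvd [IsDomain R] [hp : Fact p.Prime] [CharP R p] (h : Rel p c F G F' G') (hc : c ≠ 0)
    (a : R) {e : ℕ} (he : e ≤ p) {x y : R} (hxy : x ≠ 0 ∨ y ≠ 0)
    (hd : (X - C a) ^ e ∣ C x * F + C y * G) :
    ∃ x' y' : R, (x' ≠ 0 ∨ y' ≠ 0) ∧ (X - C a) ^ e ∣ C x' * F' + C y' * G' := by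
  obtain ⟨m, n, m', n', hm, hn, hm', hn', rfl, rfl, h3⟩ := h
  have hdet : m.eval a * n'.eval a - n.eval a * m'.eval a = c := by
    have := congrArg (eval a) h3
    simpa using this
  refine ⟨x * m.eval a + y * m'.eval a, x * n.eval a + y * n'.eval a, ?_, ?_⟩
  · by_contra hcon
    push Not at hcon
    obtain ⟨c1, c2⟩ := hcon
    have hx : x * c = 0 := by
      rw [← hdet]
      linear_combination n'.eval a * c1 - m'.eval a * c2
    have hy : y * c = 0 := by
      rw [← hdet]
      linear_combination m.eval a * c2 - n.eval a * c1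
    rcases hxy with hx' | hy'
    · exact (mul_ne_zero hx' hc) hx
    · exact (mul_ne_zero hy' hc) hy
  · have key : ∀ q : R[X], Con p q → (X - C a) ^ e ∣ q - C (q.eval a) := fun q hq =>
      (pow_dvd_pow _ he).trans (hq.sub_dvd a)
    have e1 := (key m hm).mul_left (C x * F')
    have e2 := (key n hn).mul_left (C x * G')
    have e3 := (key m' hm').mul_left (C y * F')
    have e4 := (key n' hn').mul_left (C y * G')
    have e5 := dvd_sub hd (dvd_add (dvd_add e1 e2) (dvd_add e3 e4))
    convert e5 using 1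
    simp only [map_add, map_mul]
    ring

end Rel

section Theta

variable {R : Type*} [CommRing R]

theorem coeff_X_mul_derivative (F : R[X]) (i : ℕ) : (X * derivative F).coeff i = i * F.coeff i := by
  rcases i with _ | i
  · simp
  · rw [coeff_X_mul, coeff_derivative]
    push_cast
    ring

theorem coeff_X_mul_wronskian (F G : R[X]) (N : ℕ) :
    (X * wronskian F G).coeff N =
      ∑ x ∈ Finset.antidiagonal N, ((x.2 : R) - x.1) * (F.coeff x.1 * G.coeff x.2) := by
  have : X * wronskian F G = F * (X * derivative G) - (X * derivative F) * G := by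
    rw [wronskian]; ring
  rw [this, coeff_sub, coeff_mul, coeff_mul, ← Finset.sum_sub_distrib]
  refine Finset.sum_congr rfl fun x _ => ?_
  rw [coeff_X_mul_derivative, coeff_X_mul_derivative]
  ring

theorem coeff_X_mul_wronskian' (F G : R[X]) (N : ℕ) :
    (X ^ 3 * wronskian (derivative F) (derivative G)).coeff N =
      ∑ x ∈ Finset.antidiagonal N,
        ((x.1 : R) * x.2) * (((x.2 : R) - x.1) * (F.coeff x.1 * G.coeff x.2)) := by
  have : X ^ 3 * wronskian (derivative F) (derivative G) =
      (X * derivative F) * (X * derivative (X * derivative G)) -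
        (X * derivative (X * derivative F)) * (X * derivative G) := by
    rw [wronskian]
    simp only [derivative_mul, derivative_X]
    ring
  rw [this, coeff_sub, coeff_mul, coeff_mul, ← Finset.sum_sub_distrib]
  refine Finset.sum_congr rfl fun x _ => ?_
  simp only [coeff_X_mul_derivative]
  ring

/-- The indicial relation at infinity for members of degrees at most `d`. -/
theorem indicial_generic (F G : R[X]) (d : ℕ) (hd : 1 ≤ d) (hF : F.natDegree ≤ d)
    (hG : G.natDegree ≤ d) :
    (X ^ 3 * wronskian (derivative F) (derivative G)).coeff (2 * d - 1) =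
      ((d * (d - 1) : ℕ) : R) * (X * wronskian F G).coeff (2 * d - 1) := by
  rw [coeff_X_mul_wronskian, coeff_X_mul_wronskian', Finset.mul_sum]
  refine Finset.sum_congr rfl fun x hx => ?_
  rw [Finset.mem_antidiagonal] at hx
  by_cases h1 : d < x.1
  · rw [coeff_eq_zero_of_natDegree_lt (p := F) (by omega)]; simp
  by_cases h2 : d < x.2
  · rw [coeff_eq_zero_of_natDegree_lt (p := G) (by omega)]; simp
  have h3 : (x.1 = d ∧ x.2 = d - 1) ∨ (x.1 = d - 1 ∧ x.2 = d) := by omega
  rcases h3 with ⟨h3, h4⟩ | ⟨h3, h4⟩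
  · rw [h3, h4]; push_cast; ring
  · rw [h3, h4]; push_cast; ring

/-- The indicial relation at infinity for members of degrees at most `m` and `n`. -/
theorem indicial_special (F G : R[X]) (m n : ℕ) (hF : F.natDegree ≤ m)
    (hG : G.natDegree ≤ n) :
    (X ^ 3 * wronskian (derivative F) (derivative G)).coeff (m + n) =
      ((m * n : ℕ) : R) * (X * wronskian F G).coeff (m + n) := by
  rw [coeff_X_mul_wronskian, coeff_X_mul_wronskian', Finset.mul_sum]
  refine Finset.sum_congr rfl fun x hx => ?_
  rw [Finset.mem_antidiagonal] at hx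
  by_cases h1 : m < x.1
  · rw [coeff_eq_zero_of_natDegree_lt (p := F) (by omega)]; simp
  by_cases h2 : n < x.2
  · rw [coeff_eq_zero_of_natDegree_lt (p := G) (by omega)]; simp
  have h3 : x.1 = m ∧ x.2 = n := by omega
  rw [h3.1, h3.2]; push_cast; ring

/-- Top coefficient of the Wronskian. -/
theorem coeff_wronskian_top (F G : R[X]) (m n : ℕ) (hF : F.natDegree ≤ m) (hG : G.natDegree ≤ n) :
    (X * wronskian F G).coeff (m + n) = ((n : R) - m) * (F.coeff m * G.coeff n) := by
  rw [coeff_X_mul_wronskian, Finset.sum_eq_single (m, n)]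
  · intro x hx hne
    rw [Finset.mem_antidiagonal] at hx
    by_cases h1 : m < x.1
    · rw [coeff_eq_zero_of_natDegree_lt (p := F) (by omega)]; simp
    by_cases h2 : n < x.2
    · rw [coeff_eq_zero_of_natDegree_lt (p := G) (by omega)]; simp
    exact absurd (Prod.ext (by simp; omega) (by simp; omega)) hne
  · intro h
    exact absurd (by simp) h

end Theta

end K808.RamB
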