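import Groth.Agent.W4c1limliniiii.K807.Normal
import Groth.Agent.W4c1limliniiii.K808.RamB
import Groth.Agent.W4c1limliniiii.K808.LN
import Mathlib.Algebra.Polynomial.Expand
import Mathlib.Algebra.Polynomial.Div

/-!
Reductions of the module generated over the polynomials in `X ^ p` by a pencil whose Wronskian has good
reduction, along a valuation ring of characteristic `p`.
-/

set_option autoImplicit false

namespace K808.Mbar

open Polynomial K808.RamB

section Ring

variable {R : Type*} [CommRing R]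

theorem wr_combo {a b a' b' F G : R[X]} (ha : derivative a = 0) (hb : derivative b = 0)
    (ha' : derivative a' = 0) (hb' : derivative b' = 0) :
    wronskian (a * F + b * G) (a' * F + b' * G) = (a * b' - b * a') * wronskian F G := by
  simp only [wronskian, derivative_add, derivative_mul, ha, hb, ha', hb']
  ring

theorem three_term (u v w : R[X]) :
    wronskian u v * w + wronskian v w * u + wronskian w u * v = 0 := by
  simp only [wronskian]
  ring

end Ring

section Deg

variable {k : Type*} [Field k] (p : ℕ) [CharP k p]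

/-- Degrees of constants of the derivation. -/
theorem dvd_natDegree {q : k[X]} (hq : derivative q = 0) : p ∣ q.natDegree := by
  by_cases h0 : q.natDegree = 0
  · rw [h0]; exact dvd_zero _
  obtain ⟨n, hn⟩ := Nat.exists_eq_succ_of_ne_zero h0
  have h1 : (derivative q).coeff n = 0 := by rw [hq, coeff_zero]
  rw [coeff_derivative] at h1
  have h2 : q.coeff (n + 1) ≠ 0 := by
    have : q.natDegree = n + 1 := hn
    rw [← this]
    intro h3
    have h4 : q = 0 := leadingCoeff_eq_zero.1 h3
    rw [h4, natDegree_zero] at h0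
    exact h0 rfl
  have h3 : ((n + 1 : ℕ) : k) = 0 := by
    push_cast
    exact (mul_eq_zero.1 h1).resolve_left h2
  rw [hn]
  exact (CharP.cast_eq_zero_iff k p _).1 h3

/-- The degree of the Wronskian of polynomials whose degrees differ modulo `p`. -/
theorem natDegree_wr {u v : k[X]} (hu : u ≠ 0) (hv : v ≠ 0)
    (h : ¬ u.natDegree ≡ v.natDegree [MOD p]) :
    wronskian u v ≠ 0 ∧ (wronskian u v).natDegree = u.natDegree + v.natDegree - 1 := by
  have h1 : 1 ≤ u.natDegree + v.natDegree := by
    by_contra h2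
    apply h
    have h3 : u.natDegree = 0 := by omega
    have h4 : v.natDegree = 0 := by omega
    rw [h3, h4]
  have h2 := K807.Wr.coeff_wr (R := k) h1 (le_refl u.natDegree) (le_refl v.natDegree)
  have h3 : (wronskian u v).coeff (u.natDegree + v.natDegree - 1) ≠ 0 := by
    rw [h2]
    refine mul_ne_zero ?_ (mul_ne_zero (leadingCoeff_ne_zero.2 hu) (leadingCoeff_ne_zero.2 hv))
    rw [sub_ne_zero]
    intro h4
    exact h ((CharP.natCast_eq_natCast k p).1 h4).symm
  refine ⟨fun h4 => h3 (by rw [h4, coeff_zero]), ?_⟩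
  exact le_antisymm (K807.Wr.natDegree_wr_le le_rfl le_rfl) (le_natDegree_of_ne_zero h3)

end Deg

section Count

variable {k : Type*} [Field k]

/-- The size of an independent family is bounded by the number of degrees of its combinations. -/
theorem card_le_of_degrees {ι : Type*} [Fintype ι] {h : ι → k[X]} (hli : LinearIndependent k h)
    (S : Finset ℕ)
    (hS : ∀ q ∈ Submodule.span k (Set.range h), q ≠ 0 → q.natDegree ∈ S) :
    Fintype.card ι ≤ S.card := by
  let cS : k[X] →ₗ[k] (S → k) := LinearMap.pi fun i => Polynomial.lcoeff k i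
  have h1 : LinearIndependent k (cS ∘ h) := by
    refine hli.map ?_
    rw [Submodule.disjoint_def]
    intro q hq hq0
    by_contra hne
    have h2 := congrFun (LinearMap.mem_ker.1 hq0) ⟨q.natDegree, hS q hq hne⟩
    have h3 : q.coeff q.natDegree = 0 := h2
    exact hne (leadingCoeff_eq_zero.1 h3)
  have h2 := h1.fintype_card_le_finrank
  rwa [Module.finrank_pi, Fintype.card_coe] at h2

/-- Counting the numbers in a residue class. -/
theorem card_class {p D β : ℕ} (hp : 0 < p) (S : Finset ℕ)
    (hS : ∀ γ ∈ S, γ ≤ D ∧ β ≤ γ ∧ γ ≡ β [MOD p]) : S.card ≤ (D - β) / p + 1 := by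
  have h1 : S ⊆ (Finset.range ((D - β) / p + 1)).image fun i => β + p * i := by
    intro γ hγ
    obtain ⟨h2, h3, h4⟩ := hS γ hγ
    rw [Finset.mem_image]
    obtain ⟨i, hi⟩ := (Nat.modEq_iff_dvd' h3).1 h4.symm
    refine ⟨i, ?_, ?_⟩
    · rw [Finset.mem_range, Nat.lt_succ_iff, Nat.le_div_iff_mul_le hp, mul_comm]
      omega
    · omega
  refine (Finset.card_le_card h1).trans (Finset.card_image_le.trans ?_)
  rw [Finset.card_range]

end Count

section Main

variable {K : Type*} [Field K] (O : ValuationSubring K)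

local notation "φ" => algebraMap O K
local notation "κ" => IsLocalRing.ResidueField O
local notation "ρ" => IsLocalRing.residue O

/-- The module generated by a pencil over the constants of the derivation. -/
def NN (F G : K[X]) : Submodule K K[X] where
  carrier := {m | ∃ A B : K[X], derivative A = 0 ∧ derivative B = 0 ∧ m = A * F + B * G}
  add_mem' := by
    rintro _ _ ⟨A, B, hA, hB, rfl⟩ ⟨A', B', hA', hB', rfl⟩
    refine ⟨A + A', B + B', by rw [derivative_add, hA, hA', add_zero],
      by rw [derivative_add, hB, hB', add_zero], by ring⟩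
  zero_mem' := ⟨0, 0, derivative_zero, derivative_zero, by ring⟩
  smul_mem' := by
    rintro c _ ⟨A, B, hA, hB, rfl⟩
    refine ⟨c • A, c • B, by rw [derivative_smul, hA, smul_zero],
      by rw [derivative_smul, hB, smul_zero], ?_⟩
    rw [smul_add, smul_mul_assoc, smul_mul_assoc]

theorem mem_NN_of_mem_span {F G m : K[X]} (h : m ∈ Submodule.span K {F, G}) : m ∈ NN F G := by
  obtain ⟨a, b, rfl⟩ := Submodule.mem_span_pair.1 h
  refine ⟨C a, C b, derivative_C, derivative_C, ?_⟩
  rw [smul_eq_C_mul, smul_eq_C_mul]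

/-- Reductions of the integral members. -/
def MM (F G : K[X]) : Submodule κ κ[X] where
  carrier := {h | ∃ m : O[X], m.map φ ∈ NN F G ∧ m.map ρ = h}
  add_mem' := by
    rintro _ _ ⟨m, hm, rfl⟩ ⟨m', hm', rfl⟩
    exact ⟨m + m', by rw [Polynomial.map_add]; exact add_mem hm hm', by rw [Polynomial.map_add]⟩
  zero_mem' := ⟨0, by rw [Polynomial.map_zero]; exact zero_mem _, by rw [Polynomial.map_zero]⟩
  smul_mem' := by
    rintro c _ ⟨m, hm, rfl⟩
    obtain ⟨c', rfl⟩ := IsLocalRing.residue_surjective c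
    refine ⟨C c' * m, ?_, ?_⟩
    · rw [Polynomial.map_mul, map_C, ← smul_eq_C_mul]
      exact Submodule.smul_mem _ _ hm
    · rw [Polynomial.map_mul, map_C, smul_eq_C_mul]

variable {O}

/-- The Wronskian of two reductions. -/
theorem wr_MM {F G : K[X]} {T : O[X]} (hT : T.Monic) {c : K}
    (hW : wronskian F G = C c * T.map φ) {h h' : κ[X]} (hh : h ∈ MM O F G)
    (hh' : h' ∈ MM O F G) :
    ∃ q : κ[X], derivative q = 0 ∧ wronskian h h' = q * T.map ρ := by
  obtain ⟨m, ⟨A, B, hA, hB, e1⟩, rfl⟩ := hh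
  obtain ⟨m', ⟨A', B', hA', hB', e2⟩, rfl⟩ := hh'
  have hinj : Function.Injective φ := Subtype.coe_injective
  set Q : K[X] := C c * (A * B' - B * A') with hQ
  have hQd : derivative Q = 0 := by
    rw [hQ, derivative_C_mul, derivative_sub, derivative_mul, derivative_mul, hA, hB, hA', hB']
    ring
  have h1 : (wronskian m m').map φ = Q * T.map φ := by
    rw [K807.Normal.map_wronskian, e1, e2, wr_combo hA hB hA' hB', hW, hQ]
    ring
  have h2 : T ∣ wronskian m m' := by
    rw [← Polynomial.map_dvd_map φ hinj hT, h1]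
    exact dvd_mul_left _ _
  obtain ⟨q, hq⟩ := h2
  have h3 : q.map φ = Q := by
    have h4 : T.map φ ≠ 0 := (hT.map φ).ne_zero
    apply mul_left_cancel₀ h4
    rw [← Polynomial.map_mul, ← hq, h1, mul_comm]
  have h4 : derivative q = 0 := by
    apply Polynomial.map_injective φ hinj
    rw [← derivative_map, h3, hQd, Polynomial.map_zero]
  refine ⟨q.map ρ, ?_, ?_⟩
  · rw [derivative_map, h4, Polynomial.map_zero]
  · rw [← K807.Normal.map_wronskian, hq, Polynomial.map_mul, mul_comm]

/-- A polynomial from its coefficients. -/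
noncomputable def pol {A : Type*} [CommRing A] {N : ℕ} (x : Fin N → A) : A[X] :=
  ∑ i, C (x i) * X ^ (i : ℕ)

theorem pol_map {A B : Type*} [CommRing A] [CommRing B] (ψ : A →+* B) {N : ℕ} (x : Fin N → A) :
    (pol x).map ψ = pol (K808.LC.sc ψ x) := by
  rw [pol, pol, Polynomial.map_sum]
  refine Finset.sum_congr rfl fun i _ => ?_
  rw [Polynomial.map_mul, map_C, Polynomial.map_pow, map_X]
  rfl

theorem pol_coeff {A : Type*} [CommRing A] {N : ℕ} (x : Fin N → A) (i : Fin N) :
    (pol x).coeff i = x i := by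
  rw [pol, finsetSum_coeff, Finset.sum_eq_single i]
  · rw [coeff_C_mul_X_pow, if_pos rfl]
  · intro j _ hj
    rw [coeff_C_mul_X_pow, if_neg]
    intro h; exact hj (Fin.ext h.symm)
  · intro h; exact absurd (Finset.mem_univ i) h

theorem natDegree_pol_lt {A : Type*} [CommRing A] {N : ℕ} (hN : 0 < N) (x : Fin N → A) :
    (pol x).natDegree < N := by
  rw [pol]
  refine lt_of_le_of_lt (natDegree_sum_le_of_forall_le (n := N - 1) _ _ fun i _ => ?_) (by omega)
  refine (natDegree_C_mul_X_pow_le _ _).trans ?_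
  omega

theorem pol_add {A : Type*} [CommRing A] {N : ℕ} (x y : Fin N → A) :
    pol (x + y) = pol x + pol y := by
  rw [pol, pol, pol, ← Finset.sum_add_distrib]
  refine Finset.sum_congr rfl fun i _ => ?_
  rw [Pi.add_apply, C_add, add_mul]

theorem pol_smul {A : Type*} [CommRing A] {N : ℕ} (c : A) (x : Fin N → A) :
    pol (c • x) = C c * pol x := by
  rw [pol, pol, Finset.mul_sum]
  refine Finset.sum_congr rfl fun i _ => ?_
  rw [Pi.smul_apply, smul_eq_mul, C_mul, mul_assoc]

theorem pol_of_coeff {A : Type*} [CommRing A] {N : ℕ} {q : A[X]} (hq : q.natDegree < N) :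
    pol (fun i : Fin N => q.coeff i) = q := by
  rw [pol, Fin.sum_univ_eq_sum_range (fun i => C (q.coeff i) * X ^ i) N]
  exact (q.as_sum_range_C_mul_X_pow' hq).symm

/-- The combination with given coefficients. -/
noncomputable def gen (p : ℕ) (F G : K[X]) {J : ℕ} (z : (Fin J → K) × (Fin J → K)) : K[X] :=
  expand K p (pol z.1) * F + expand K p (pol z.2) * G

theorem gen_add (p : ℕ) (F G : K[X]) {J : ℕ} (z z' : (Fin J → K) × (Fin J → K)) :
    gen p F G (z + z') = gen p F G z + gen p F G z' := by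
  rw [gen, gen, gen, Prod.fst_add, Prod.snd_add, pol_add, pol_add, map_add, map_add]
  ring

theorem gen_smul (p : ℕ) (F G : K[X]) {J : ℕ} (c : K) (z : (Fin J → K) × (Fin J → K)) :
    gen p F G (c • z) = C c * gen p F G z := by
  rw [gen, gen, Prod.smul_fst, Prod.smul_snd, pol_smul, pol_smul, map_mul, map_mul, expand_C]
  ring

theorem natDegree_gen (p : ℕ) {F G : K[X]} {d : ℕ} (hF : F.natDegree ≤ d) (hG : G.natDegree ≤ d)
    {J : ℕ} (z : (Fin (J + 1) → K) × (Fin (J + 1) → K)) :
    (gen p F G z).natDegree ≤ d + J * p := by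
  have h1 : ∀ x : Fin (J + 1) → K, (expand K p (pol x)).natDegree ≤ J * p := by
    intro x
    rw [natDegree_expand]
    have := natDegree_pol_lt (Nat.succ_pos J) x
    exact Nat.mul_le_mul_right p (by omega)
  refine (natDegree_add_le _ _).trans (max_le ?_ ?_)
  · refine natDegree_mul_le.trans ?_
    have := h1 z.1
    omega
  · refine natDegree_mul_le.trans ?_
    have := h1 z.2
    omega

theorem gen_mem (p : ℕ) [CharP K p] (F G : K[X]) {J : ℕ} (z : (Fin J → K) × (Fin J → K)) :
    gen p F G z ∈ NN F G :=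
  ⟨_, _, (show Con p (expand K p (pol z.1)) from ⟨_, rfl⟩).derivative,
    (show Con p (expand K p (pol z.2)) from ⟨_, rfl⟩).derivative, rfl⟩

theorem gen_eq_zero (p : ℕ) (hp0 : 0 < p) [CharP K p] {F G : K[X]} (hW : wronskian F G ≠ 0) {J : ℕ}
    (z : (Fin J → K) × (Fin J → K)) (h1 : gen p F G z = 0) : z = 0 := by
  have hA := (show Con p (expand K p (pol z.1)) from ⟨_, rfl⟩).derivative
  have hB := (show Con p (expand K p (pol z.2)) from ⟨_, rfl⟩).derivative
  have e1 : wronskian (gen p F G z) (0 * F + 1 * G) = expand K p (pol z.1) * wronskian F G := by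
    rw [gen, wr_combo hA hB derivative_zero derivative_one]
    ring
  have e2 : wronskian (gen p F G z) (1 * F + 0 * G) = -expand K p (pol z.2) * wronskian F G := by
    rw [gen, wr_combo hA hB derivative_one derivative_zero]
    ring
  rw [h1, wronskian_zero_left] at e1 e2
  have f1 : expand K p (pol z.1) = 0 := (mul_eq_zero.1 e1.symm).resolve_right hW
  have f2 : expand K p (pol z.2) = 0 :=
    neg_eq_zero.1 ((mul_eq_zero.1 e2.symm).resolve_right hW)
  rw [expand_eq_zero hp0] at f1 f2
  refine Prod.ext ?_ ?_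
  · funext i
    rw [← pol_coeff z.1 i, f1, coeff_zero]; rfl
  · funext i
    rw [← pol_coeff z.2 i, f2, coeff_zero]; rfl

/-- The coefficients of the combinations. -/
noncomputable def Psi (p : ℕ) (F G : K[X]) (J N : ℕ) :
    ((Fin J → K) × (Fin J → K)) →ₗ[K] (Fin N → K) where
  toFun := fun z i => (gen p F G z).coeff i
  map_add' := fun z z' => by
    funext i
    rw [gen_add, coeff_add]; rfl
  map_smul' := fun c z => by
    funext i
    rw [gen_smul, coeff_C_mul]; rfl

theorem Psi_apply (p : ℕ) (F G : K[X]) (J N : ℕ) (z : (Fin J → K) × (Fin J → K)) :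
    Psi p F G J N z = fun i : Fin N => (gen p F G z).coeff i := rfl

theorem pol_Psi (p : ℕ) (F G : K[X]) (J N : ℕ) (z : (Fin J → K) × (Fin J → K))
    (h : (gen p F G z).natDegree < N) : pol (Psi p F G J N z) = gen p F G z := by
  rw [Psi_apply]
  exact pol_of_coeff (q := gen p F G z) h

theorem exists_family_aux (p : ℕ) [CharP K p] (hp0 : 0 < p) {F G : K[X]}
    (hW : wronskian F G ≠ 0) {d : ℕ} (hF : F.natDegree ≤ d) (hG : G.natDegree ≤ d) (J N M : ℕ)
    (hN : d + J * p < N) (hM : M = 2 * (J + 1)) :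
    ∃ (x : Fin M → Fin N → O) (J0 : Fin M → Fin N),
      (∀ a b, x a (J0 b) = if a = b then 1 else 0) ∧ ∀ a, (pol (x a)).map φ ∈ NN F G := by
  have hdeg : ∀ z : (Fin (J + 1) → K) × (Fin (J + 1) → K), (gen p F G z).natDegree < N :=
    fun z => (natDegree_gen p hF hG z).trans_lt hN
  have hΨ : Function.Injective (Psi p F G (J + 1) N) := by
    rw [← LinearMap.ker_eq_bot, LinearMap.ker_eq_bot']
    intro z hz
    apply gen_eq_zero p hp0 hW
    rw [← pol_Psi p F G _ N z (hdeg z), hz]
    simp [pol]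
  have hfr : Module.finrank K (LinearMap.range (Psi p F G (J + 1) N)) = M := by
    rw [LinearMap.finrank_range_of_inj hΨ, Module.finrank_prod, Module.finrank_fin_fun, hM]
    ring
  obtain ⟨x, J0, hx, hxV⟩ := K808.LN.exists_reduced O (LinearMap.range (Psi p F G (J + 1) N)) hfr
  refine ⟨x, J0, hx, fun a => ?_⟩
  have h1 : K808.LC.sc φ (x a) ∈ LinearMap.range (Psi p F G (J + 1) N) := by
    rw [← hxV]; exact Submodule.subset_span ⟨a, rfl⟩
  obtain ⟨z, hz⟩ := h1
  rw [pol_map, ← hz, pol_Psi p F G _ N z (hdeg z)]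
  exact gen_mem p F G z

theorem linearIndependent_pol {k : Type*} [Field k] {A : Type*} [CommRing A] (ψ : A →+* k) {M N : ℕ}
    (x : Fin M → Fin N → A) (J0 : Fin M → Fin N) (hx : ∀ a b, x a (J0 b) = if a = b then 1 else 0) :
    LinearIndependent k fun a => (pol (x a)).map ψ := by
  let c : k[X] →ₗ[k] (Fin M → k) := LinearMap.pi fun b => Polynomial.lcoeff k (J0 b : ℕ)
  refine LinearIndependent.of_comp c ?_
  have h1 : (c ∘ fun a => (pol (x a)).map ψ) = fun a => Pi.basisFun k (Fin M) a := by
    funext a b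
    change ((pol (x a)).map ψ).coeff (J0 b) = _
    rw [coeff_map, pol_coeff, hx, Pi.basisFun_apply, Pi.single_apply]
    by_cases h : a = b
    · subst h; simp
    · have h' : b ≠ a := fun h2 => h h2.symm
      simp [h, h']
  rw [h1]
  exact (Pi.basisFun k (Fin M)).linearIndependent

/-- Many independent reductions of bounded degree. -/
theorem exists_family (p : ℕ) [hp : Fact p.Prime] [CharP K p] {F G : K[X]}
    (hW : wronskian F G ≠ 0) {d : ℕ} (hF : F.natDegree ≤ d) (hG : G.natDegree ≤ d) (J : ℕ) :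
    ∃ h : Fin (2 * (J + 1)) → κ[X], LinearIndependent κ h ∧ ∀ a, h a ∈ MM O F G ∧
      (h a).natDegree ≤ d + J * p := by
  obtain ⟨x, J0, hx, hxN⟩ := exists_family_aux (O := O) p hp.out.pos hW hF hG J (d + J * p + 1)
    (2 * (J + 1)) (Nat.lt_succ_self _) rfl
  refine ⟨fun a => (pol (x a)).map ρ, linearIndependent_pol ρ x J0 hx, fun a =>
    ⟨⟨pol (x a), hxN a, rfl⟩, ?_⟩⟩
  refine natDegree_map_le.trans ?_
  have := natDegree_pol_lt (Nat.succ_pos (d + J * p)) (x a)
  omega

/-- Minors of the Taylor coefficients of members of the module. -/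
theorem minors_NN (p : ℕ) [hp : Fact p.Prime] [CharP K p] {F G : K[X]} {P : K} {m : ℕ} (hm : m ≤ p)
    (hFG : ∀ i < m, ∀ j < m, (taylor P F).coeff i * (taylor P G).coeff j -
      (taylor P F).coeff j * (taylor P G).coeff i = 0) {n₁ n₂ : K[X]} (h₁ : n₁ ∈ NN F G)
    (h₂ : n₂ ∈ NN F G) : ∀ i < m, ∀ j < m, (taylor P n₁).coeff i * (taylor P n₂).coeff j -
      (taylor P n₁).coeff j * (taylor P n₂).coeff i = 0 := by
  have key : ∀ n ∈ NN F G, ∃ a b : K, ∀ i < m,
      (taylor P n).coeff i = a * (taylor P F).coeff i + b * (taylor P G).coeff i := by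
    rintro n ⟨A, B, hA, hB, rfl⟩
    have cA : Con p A := ⟨contract p A, expand_contract p hA hp.out.ne_zero⟩
    have cB : Con p B := ⟨contract p B, expand_contract p hB hp.out.ne_zero⟩
    refine ⟨A.eval P, B.eval P, fun i hi => ?_⟩
    have h1 : (X - C P) ^ m ∣ (A * F + B * G) - (C (A.eval P) * F + C (B.eval P) * G) := by
      have e1 : (A * F + B * G) - (C (A.eval P) * F + C (B.eval P) * G) =
          (A - C (A.eval P)) * F + (B - C (B.eval P)) * G := by ring
      rw [e1]
      exact dvd_add (((pow_dvd_pow _ hm).trans (cA.sub_dvd P)).mul_right F)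
        (((pow_dvd_pow _ hm).trans (cB.sub_dvd P)).mul_right G)
    rw [X_sub_C_pow_dvd_iff, X_pow_dvd_iff] at h1
    have h2 := h1 i hi
    change (taylor P ((A * F + B * G) - (C (A.eval P) * F + C (B.eval P) * G))).coeff i = 0 at h2
    rw [map_sub, coeff_sub, sub_eq_zero] at h2
    rw [h2, ← smul_eq_C_mul, ← smul_eq_C_mul, map_add, map_smul, map_smul, coeff_add, coeff_smul,
      coeff_smul, smul_eq_mul, smul_eq_mul]
  obtain ⟨a, b, e1⟩ := key n₁ h₁
  obtain ⟨a', b', e2⟩ := key n₂ h₂
  intro i hi j hj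
  rw [e1 i hi, e1 j hj, e2 i hi, e2 j hj]
  linear_combination (a * b' - a' * b) * hFG i hi j hj

theorem linInd_of_wr {k : Type*} [Field k] {u v : k[X]} (h : wronskian u v ≠ 0) :
    LinearIndependent k ![u, v] := by
  rw [LinearIndependent.pair_iff]
  intro a b hab
  have e1 : wronskian (a • u + b • v) ((0 : k) • u + (1 : k) • v) = a • wronskian u v := by
    rw [K807.Wr.wr_comb]; congr 1; ring
  have e2 : wronskian (a • u + b • v) ((1 : k) • u + (0 : k) • v) = (-b) • wronskian u v := by
    rw [K807.Wr.wr_comb]; congr 1; ring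
  rw [hab, wronskian_zero_left] at e1 e2
  exact ⟨(smul_eq_zero.1 e1.symm).resolve_right h,
    neg_eq_zero.1 ((smul_eq_zero.1 e2.symm).resolve_right h)⟩

/-- The incidence conditions pass to the reductions. -/
theorem schubert (p : ℕ) [hp : Fact p.Prime] [CharP K p] {F G : K[X]} (hW : wronskian F G ≠ 0)
    {u v : κ[X]} (hu : u ∈ MM O F G) (hv : v ∈ MM O F G) (huv : wronskian u v ≠ 0) (P : O) {m : ℕ}
    (hm : m ≤ p) (hs : ∃ s ∈ Submodule.span K {F, G}, s ≠ 0 ∧ (X - C (φ P)) ^ m ∣ s) :
    ∃ s ∈ Submodule.span κ {u, v}, s ≠ 0 ∧ (X - C (ρ P)) ^ m ∣ s := by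
  rw [K807.Normal.exists_iff_minors (linInd_of_wr hW)] at hs
  rw [K807.Normal.exists_iff_minors (linInd_of_wr huv)]
  obtain ⟨u', hu', rfl⟩ := hu
  obtain ⟨v', hv', rfl⟩ := hv
  intro i hi j hj
  have h1 := minors_NN p hm hs hu' hv' i hi j hj
  have hinj : Function.Injective φ := Subtype.coe_injective
  rw [← K807.Normal.map_taylor, ← K807.Normal.map_taylor, coeff_map, coeff_map, coeff_map,
    coeff_map, ← map_mul, ← map_mul, ← map_sub] at h1
  have h2 := hinj (h1.trans (map_zero φ).symm)
  rw [← K807.Normal.map_taylor, ← K807.Normal.map_taylor, coeff_map, coeff_map, coeff_map,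
    coeff_map, ← map_mul, ← map_mul, ← map_sub, h2, map_zero]

/-- The residue field has the same characteristic. -/
theorem charP_residue (p : ℕ) [hp : Fact p.Prime] [CharP K p] : CharP κ p := by
  rw [CharP.charP_iff_prime_eq_zero hp.out]
  have h1 : ((p : ℕ) : O) = 0 := by
    apply (Subtype.coe_injective : Function.Injective (fun x : O => (x : K)))
    change φ ((p : ℕ) : O) = φ 0
    rw [map_natCast, map_zero, CharP.cast_eq_zero]
  rw [← map_natCast ρ, h1, map_zero]

end Main

section Arith

/-- The numerical part. -/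
theorem arith {p d α β ℓ : ℕ} (hp : 2 ≤ p) (hd : 1 ≤ d)
    (hβα : β < α) (hβ : β ≤ d + d * p) (hα : α ≤ d + d * p)
    (hcount : 2 * (d + 1) ≤ ((d + d * p - β) / p + 1) + ((d + d * p - α) / p + 1))
    (hℓ : p ∣ ℓ) (hdeg : α + β - 1 = ℓ + (2 * d - 2)) :
    α + β = 2 * d - 1 ∧ ℓ = 0 ∧ ((α = d ∧ β = d - 1) ∨ β + p < α) := by
  set D := d + d * p with hD
  set a := (D - β) / p with ha
  set b := (D - α) / p with hb
  have ea : p * a + (D - β) % p = D - β := Nat.div_add_mod _ _
  have eb : p * b + (D - α) % p = D - α := Nat.div_add_mod _ _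
  set x := (D - β) % p with hx
  set y := (D - α) % p with hy
  obtain ⟨t, ht⟩ : ∃ t, a + b = 2 * d + t := ⟨a + b - 2 * d, by omega⟩
  have e1 : p * a + p * b = 2 * (d * p) + p * t := by
    have : p * (a + b) = p * (2 * d + t) := by rw [ht]
    linarith [this, Nat.mul_add p a b, Nat.mul_add p (2 * d) t, mul_comm p (2 * d), mul_assoc 2 d p]
  have e2 : p * t + x + y + α + β = 2 * d := by omega
  have hℓ0 : ℓ = 0 := by
    by_contra h
    have := Nat.le_of_dvd (Nat.pos_of_ne_zero h) hℓ
    omega
  have ht0 : t = 0 := by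
    by_contra h
    have : p ≤ p * t := Nat.le_mul_of_pos_right p (Nat.pos_of_ne_zero h)
    omega
  subst ht0
  refine ⟨by omega, hℓ0, ?_⟩
  rw [mul_zero] at e2
  -- compare `a` with `d`
  rcases Nat.lt_or_ge d a with h | h
  · right
    obtain ⟨z, hz⟩ : ∃ z, a = d + 1 + z := ⟨a - (d + 1), by omega⟩
    have e3 : p * a = p * d + p + p * z := by rw [hz]; ring
    have e4 : p * d = d * p := mul_comm _ _
    omega
  · left
    rcases Nat.eq_or_lt_of_le h with h | h
    · have e3 : p * a = d * p := by rw [h, mul_comm]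
      omega
    · obtain ⟨z, hz⟩ : ∃ z, d = a + 1 + z := ⟨d - (a + 1), by omega⟩
      have e3 : d * p = p * a + p + p * z := by rw [hz]; ring
      omega

end Arith

section Degrees

variable {k : Type*} [Field k] (p : ℕ) [CharP k p]

/-- Three polynomials with pairwise incongruent degrees modulo `p` are independent over the constants
of the derivation. -/
theorem false_of_three {T u v w : k[X]} (hT : T ≠ 0) (hu : u ≠ 0) (hv : v ≠ 0) (hw : w ≠ 0)
    (huv : ¬ u.natDegree ≡ v.natDegree [MOD p]) (hvw : ¬ v.natDegree ≡ w.natDegree [MOD p])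
    (hwu : ¬ w.natDegree ≡ u.natDegree [MOD p])
    (h1 : ∃ q : k[X], derivative q = 0 ∧ wronskian u v = q * T)
    (h2 : ∃ q : k[X], derivative q = 0 ∧ wronskian v w = q * T)
    (h3 : ∃ q : k[X], derivative q = 0 ∧ wronskian w u = q * T) : False := by
  obtain ⟨q1, d1, e1⟩ := h1
  obtain ⟨q2, d2, e2⟩ := h2
  obtain ⟨q3, d3, e3⟩ := h3
  have n1 : q1 ≠ 0 := fun h => (natDegree_wr p hu hv huv).1 (by rw [e1, h, zero_mul])
  have n2 : q2 ≠ 0 := fun h => (natDegree_wr p hv hw hvw).1 (by rw [e2, h, zero_mul])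
  have n3 : q3 ≠ 0 := fun h => (natDegree_wr p hw hu hwu).1 (by rw [e3, h, zero_mul])
  have h0 : q1 * w + (q2 * u + q3 * v) = 0 := by
    have h4 := three_term u v w
    rw [e1, e2, e3] at h4
    apply mul_right_cancel₀ hT
    rw [zero_mul, ← h4]
    ring
  have g1 := dvd_natDegree p d1
  have g2 := dvd_natDegree p d2
  have g3 := dvd_natDegree p d3
  have f1 : (q1 * w).natDegree ≡ w.natDegree [MOD p] := by
    rw [natDegree_mul n1 hw]
    simpa using (Nat.modEq_zero_iff_dvd.2 g1).add_right w.natDegree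
  have f2 : (q2 * u).natDegree ≡ u.natDegree [MOD p] := by
    rw [natDegree_mul n2 hu]
    simpa using (Nat.modEq_zero_iff_dvd.2 g2).add_right u.natDegree
  have f3 : (q3 * v).natDegree ≡ v.natDegree [MOD p] := by
    rw [natDegree_mul n3 hv]
    simpa using (Nat.modEq_zero_iff_dvd.2 g3).add_right v.natDegree
  have h5 : q1 * w = -(q2 * u + q3 * v) := eq_neg_of_add_eq_zero_left h0
  have h6 : (q1 * w).natDegree = (q2 * u + q3 * v).natDegree := by rw [h5, natDegree_neg]
  rcases Nat.lt_trichotomy (q2 * u).natDegree (q3 * v).natDegree with h | h | h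
  · rw [natDegree_add_eq_right_of_natDegree_lt h] at h6
    rw [h6] at f1
    exact hvw (f3.symm.trans f1)
  · rw [h] at f2
    exact huv (f2.symm.trans f3)
  · rw [natDegree_add_eq_left_of_natDegree_lt h] at h6
    rw [h6] at f1
    exact hwu (f1.symm.trans f2)

end Degrees

section Final

variable {K : Type*} [Field K] {O : ValuationSubring K}

local notation "φ" => algebraMap O K
local notation "κ" => IsLocalRing.ResidueField O
local notation "ρ" => IsLocalRing.residue O

/-- Degree bounds pass to spans. -/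
theorem natDegree_span_le {k : Type*} [Field k] {ι : Type*} {h : ι → k[X]} {D : ℕ}
    (hh : ∀ a, (h a).natDegree ≤ D) {q : k[X]} (hq : q ∈ Submodule.span k (Set.range h)) :
    q.natDegree ≤ D := by
  have h1 : Submodule.span k (Set.range h) ≤ Polynomial.degreeLE k D := by
    rw [Submodule.span_le]
    rintro _ ⟨a, rfl⟩
    rw [SetLike.mem_coe, mem_degreeLE]
    exact degree_le_of_natDegree_le (hh a)
  have h2 := h1 hq
  rw [mem_degreeLE] at h2
  exact natDegree_le_of_degree_le h2

/-- **Reduction of a pencil with Wronskian of good reduction.** Either the saturated reduction has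
non-zero Wronskian, or there is a pencil `⟨u, v⟩` over the residue field with a large gap between the
degrees, with the same Wronskian and satisfying the incidence conditions of order at most `p`. -/
theorem exists_uv (p : ℕ) [hp : Fact p.Prime] [CharP K p] {d : ℕ} (hd : 1 ≤ d) {F G : K[X]}
    (hF : F.natDegree = d) (hG : G.natDegree = d - 1) {T : O[X]} (hT : T.Monic)
    (hTd : T.natDegree = 2 * d - 2) {c : K} (hc : c ≠ 0) (hW : wronskian F G = C c * T.map φ)
    {f g : O[X]} (hspan : Submodule.span K {f.map φ, g.map φ} = Submodule.span K {F, G})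
    (hli : LinearIndependent κ ![f.map ρ, g.map ρ]) :
    wronskian (f.map ρ) (g.map ρ) ≠ 0 ∨
    ∃ u v : κ[X], v.natDegree + p < u.natDegree ∧ u.natDegree + v.natDegree = 2 * d - 1 ∧
      (∃ c' : κ, c' ≠ 0 ∧ wronskian u v = C c' * T.map ρ) ∧
      ∀ (P : O) (m : ℕ), m ≤ p →
        (∃ s ∈ Submodule.span K {F, G}, s ≠ 0 ∧ (X - C (φ P)) ^ m ∣ s) →
        ∃ s ∈ Submodule.span κ {u, v}, s ≠ 0 ∧ (X - C (ρ P)) ^ m ∣ s := by
  classical
  haveI : CharP κ p := charP_residue p
  have hp2 : 2 ≤ p := hp.out.two_le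
  have hp0 : 0 < p := hp.out.pos
  have hTφ : T.map φ ≠ 0 := (hT.map φ).ne_zero
  have hTρ : T.map ρ ≠ 0 := (hT.map ρ).ne_zero
  have hTρd : (T.map ρ).natDegree = 2 * d - 2 := by rw [hT.natDegree_map, hTd]
  have hW0 : wronskian F G ≠ 0 := by rw [hW]; exact mul_ne_zero (C_ne_zero.2 hc) hTφ
  set M := MM O F G with hM
  have hwr : ∀ h ∈ M, ∀ h' ∈ M, ∃ q : κ[X], derivative q = 0 ∧ wronskian h h' = q * T.map ρ :=
    fun h hh h' hh' => wr_MM hT hW hh hh'
  obtain ⟨h, hhli, hhM⟩ := exists_family (O := O) p hW0 (d := d) (by omega) (by omega) d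
  have hspM : ∀ q ∈ Submodule.span κ (Set.range h), q ∈ M := by
    intro q hq
    have : Submodule.span κ (Set.range h) ≤ M := by
      rw [Submodule.span_le]
      rintro _ ⟨a, rfl⟩
      exact (hhM a).1
    exact this hq
  have hspd : ∀ q ∈ Submodule.span κ (Set.range h), q.natDegree ≤ d + d * p :=
    fun q hq => natDegree_span_le (fun a => (hhM a).2) hq
  -- the minimal degree
  have hexβ : ∃ n, ∃ q ∈ M, q ≠ 0 ∧ q.natDegree = n :=
    ⟨_, h 0, (hhM 0).1, hhli.ne_zero 0, rfl⟩
  obtain ⟨v, hvM, hv0, hvd⟩ := Nat.find_spec hexβ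
  have hβmin : ∀ q ∈ M, q ≠ 0 → v.natDegree ≤ q.natDegree := by
    intro q hq hq0
    rw [hvd]
    exact Nat.find_min' hexβ ⟨q, hq, hq0, rfl⟩
  have hβD : v.natDegree ≤ d + d * p :=
    (hβmin _ (hhM 0).1 (hhli.ne_zero 0)).trans (hhM 0).2
  -- a member in another class
  have hexu : ∃ q ∈ M, q ≠ 0 ∧ ¬ q.natDegree ≡ v.natDegree [MOD p] ∧ q.natDegree ≤ d + d * p := by
    by_contra hcon
    push Not at hcon
    let S : Finset ℕ := (Finset.range (d + d * p + 1)).filter
      fun γ => v.natDegree ≤ γ ∧ γ ≡ v.natDegree [MOD p]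
    have h1 := card_le_of_degrees hhli S (by
      intro q hq hq0
      rw [Finset.mem_filter, Finset.mem_range]
      refine ⟨Nat.lt_succ_of_le (hspd q hq), hβmin q (hspM q hq) hq0, ?_⟩
      by_contra h2
      exact absurd (hspd q hq) (not_le.2 (hcon q (hspM q hq) hq0 h2)))
    have h2 := card_class (D := d + d * p) (β := v.natDegree) hp0 S (by
      intro γ hγ
      rw [Finset.mem_filter, Finset.mem_range] at hγ
      exact ⟨by omega, hγ.2.1, hγ.2.2⟩)
    rw [Fintype.card_fin] at h1
    have h3 : (d + d * p - v.natDegree) / p ≤ (d + d * p) / p := Nat.div_le_div_right (Nat.sub_le _ _)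
    rw [Nat.add_mul_div_right _ _ hp0] at h3
    have h4 : d / p ≤ d / 2 := Nat.div_le_div_left hp2 (by norm_num)
    omega
  have hexα : ∃ n, ∃ q ∈ M, q ≠ 0 ∧ ¬ q.natDegree ≡ v.natDegree [MOD p] ∧ q.natDegree = n := by
    obtain ⟨q, h1, h2, h3, -⟩ := hexu
    exact ⟨_, q, h1, h2, h3, rfl⟩
  obtain ⟨u, huM, hu0, hud, hue⟩ := Nat.find_spec hexα
  have hαmin : ∀ q ∈ M, q ≠ 0 → ¬ q.natDegree ≡ v.natDegree [MOD p] → u.natDegree ≤ q.natDegree := by
    intro q hq hq0 hqd
    rw [hue]
    exact Nat.find_min' hexα ⟨q, hq, hq0, hqd, rfl⟩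
  have hαD : u.natDegree ≤ d + d * p := by
    obtain ⟨q, h1, h2, h3, h4⟩ := hexu
    exact (hαmin q h1 h2 h3).trans h4
  -- all degrees are in the two classes
  have htwo : ∀ q ∈ M, q ≠ 0 → (v.natDegree ≤ q.natDegree ∧ q.natDegree ≡ v.natDegree [MOD p]) ∨
      (u.natDegree ≤ q.natDegree ∧ q.natDegree ≡ u.natDegree [MOD p]) := by
    intro q hq hq0
    by_cases h1 : q.natDegree ≡ v.natDegree [MOD p]
    · exact Or.inl ⟨hβmin q hq hq0, h1⟩
    · refine Or.inr ⟨hαmin q hq hq0 h1, ?_⟩
      by_contra h2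
      exact false_of_three p hTρ hu0 hv0 hq0 hud (fun h3 => h1 h3.symm) h2 (hwr u huM v hvM)
        (hwr v hvM q hq) (hwr q hq u huM)
  -- counting
  have hcount : 2 * (d + 1) ≤ ((d + d * p - v.natDegree) / p + 1) +
      ((d + d * p - u.natDegree) / p + 1) := by
    let S1 : Finset ℕ := (Finset.range (d + d * p + 1)).filter
      fun γ => v.natDegree ≤ γ ∧ γ ≡ v.natDegree [MOD p]
    let S2 : Finset ℕ := (Finset.range (d + d * p + 1)).filter
      fun γ => u.natDegree ≤ γ ∧ γ ≡ u.natDegree [MOD p]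
    have h1 := card_le_of_degrees hhli (S1 ∪ S2) (by
      intro q hq hq0
      have hqD := Nat.lt_succ_of_le (hspd q hq)
      rw [Finset.mem_union, Finset.mem_filter, Finset.mem_filter, Finset.mem_range]
      rcases htwo q (hspM q hq) hq0 with h2 | h2
      · exact Or.inl ⟨hqD, h2⟩
      · exact Or.inr ⟨hqD, h2⟩)
    have h2 := card_class (D := d + d * p) (β := v.natDegree) hp0 S1 (by
      intro γ hγ
      rw [Finset.mem_filter, Finset.mem_range] at hγ
      exact ⟨by omega, hγ.2.1, hγ.2.2⟩)
    have h3 := card_class (D := d + d * p) (β := u.natDegree) hp0 S2 (by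
      intro γ hγ
      rw [Finset.mem_filter, Finset.mem_range] at hγ
      exact ⟨by omega, hγ.2.1, hγ.2.2⟩)
    have h4 := Finset.card_union_le S1 S2
    rw [Fintype.card_fin] at h1
    omega
  -- the Wronskian of `u` and `v`
  obtain ⟨hwuv, hwuvd⟩ := natDegree_wr p hu0 hv0 hud
  obtain ⟨q, hq, hqW⟩ := hwr u huM v hvM
  have hq0 : q ≠ 0 := fun h0 => hwuv (by rw [hqW, h0, zero_mul])
  have hdeg : u.natDegree + v.natDegree - 1 = q.natDegree + (2 * d - 2) := by
    rw [← hwuvd, hqW, natDegree_mul hq0 hTρ, hTρd]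
  have hβα : v.natDegree < u.natDegree := by
    refine lt_of_le_of_ne (hβmin u huM hu0) fun h0 => hud ?_
    rw [← h0]
  obtain ⟨a1, a2, a3⟩ := arith hp2 hd hβα hβD hαD hcount (dvd_natDegree p hq) hdeg
  rcases a3 with ⟨b1, b2⟩ | b3
  · -- the generic case
    left
    have hfM : ∀ h : O[X], h.map φ ∈ Submodule.span K {F, G} →
        h.map ρ ∈ M ∧ (h.map ρ).natDegree ≤ d := by
      intro h hh
      refine ⟨⟨h, mem_NN_of_mem_span hh, rfl⟩, natDegree_map_le.trans ?_⟩
      have h1 : (h.map φ).natDegree ≤ d := by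
        obtain ⟨x, y, e⟩ := Submodule.mem_span_pair.1 hh
        rw [← e]
        refine (natDegree_add_le _ _).trans (max_le ?_ ?_)
        · exact (natDegree_smul_le _ _).trans hF.le
        · exact (natDegree_smul_le _ _).trans (by omega)
      rwa [natDegree_map_eq_of_injective (Subtype.coe_injective : Function.Injective φ)] at h1
    have hdd : ∀ q ∈ M, q ≠ 0 → q.natDegree ≤ d → q.natDegree = d ∨ q.natDegree = d - 1 := by
      intro q hq hq0 hqd
      rcases htwo q hq hq0 with ⟨h1, -⟩ | ⟨h1, -⟩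
      · omega
      · omega
    have hne : ∀ q₁ ∈ M, ∀ q₂ ∈ M, q₁ ≠ 0 → q₂ ≠ 0 → q₁.natDegree = d → q₂.natDegree = d - 1 →
        wronskian q₁ q₂ ≠ 0 := by
      intro q₁ _ q₂ _ h1 h2 h3 h4
      refine (natDegree_wr p h1 h2 ?_).1
      rw [h3, h4]
      rw [b1, b2] at hud
      exact hud
    have hfmem : f.map φ ∈ Submodule.span K {F, G} := by
      rw [← hspan]; exact Submodule.subset_span (by simp)
    have hgmem : g.map φ ∈ Submodule.span K {F, G} := by
      rw [← hspan]; exact Submodule.subset_span (by simp)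
    obtain ⟨f1, f2⟩ := hfM f hfmem
    obtain ⟨g1, g2⟩ := hfM g hgmem
    have hpair := LinearIndependent.pair_iff.1 hli
    have hf0 : f.map ρ ≠ 0 := by
      intro h0
      have := (hpair 1 0 (by rw [h0]; simp)).1
      exact one_ne_zero this
    have hg0 : g.map ρ ≠ 0 := by
      intro h0
      have := (hpair 0 1 (by rw [h0]; simp)).2
      exact one_ne_zero this
    rcases hdd _ f1 hf0 f2 with hf | hf <;> rcases hdd _ g1 hg0 g2 with hg | hg
    · -- both of degree `d`
      set x := (g.map ρ).leadingCoeff with hx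
      set y := (f.map ρ).leadingCoeff with hy
      have hx0 : x ≠ 0 := leadingCoeff_ne_zero.2 hg0
      set w := x • f.map ρ - y • g.map ρ with hw
      have hwM : w ∈ M := sub_mem (Submodule.smul_mem _ _ f1) (Submodule.smul_mem _ _ g1)
      have hw0 : w ≠ 0 := by
        intro h0
        have h1 := (hpair x (-y) (by rw [neg_smul, ← sub_eq_add_neg]; exact h0)).1
        exact hx0 h1
      have hwd : w.natDegree ≤ d := by
        refine (natDegree_sub_le _ _).trans (max_le ?_ ?_)
        · exact (natDegree_smul_le _ _).trans f2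
        · exact (natDegree_smul_le _ _).trans g2
      have hwc : w.coeff d = 0 := by
        rw [hw, coeff_sub, coeff_smul, coeff_smul, smul_eq_mul, smul_eq_mul]
        have e1 : (f.map ρ).coeff d = y := by rw [hy, leadingCoeff, hf]
        have e2 : (g.map ρ).coeff d = x := by rw [hx, leadingCoeff, hg]
        rw [e1, e2]; ring
      have hwd' : w.natDegree = d - 1 := by
        rcases hdd w hwM hw0 hwd with h1 | h1
        · exfalso
          rw [← h1] at hwc
          exact hw0 (leadingCoeff_eq_zero.1 hwc)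
        · exact h1
      have h1 := hne _ g1 _ hwM hg0 hw0 hg hwd'
      intro h2
      apply h1
      rw [hw, sub_eq_add_neg, ← neg_smul, wronskian_add_right, K807.Wr.wr_smul_right,
        K807.Wr.wr_smul_right, wronskian_self_eq_zero, smul_zero, add_zero, ← wronskian_neg_eq, h2,
        neg_zero, smul_zero]
    · exact hne _ f1 _ g1 hf0 hg0 hf hg
    · intro h2
      apply hne _ g1 _ f1 hg0 hf0 hg hf
      rw [← wronskian_neg_eq, h2, neg_zero]
    · -- both of degree `d - 1`
      exfalso
      set x := (g.map ρ).leadingCoeff with hx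
      set y := (f.map ρ).leadingCoeff with hy
      have hx0 : x ≠ 0 := leadingCoeff_ne_zero.2 hg0
      set w := x • f.map ρ - y • g.map ρ with hw
      have hwM : w ∈ M := sub_mem (Submodule.smul_mem _ _ f1) (Submodule.smul_mem _ _ g1)
      have hw0 : w ≠ 0 := by
        intro h0
        have h1 := (hpair x (-y) (by rw [neg_smul, ← sub_eq_add_neg]; exact h0)).1
        exact hx0 h1
      have hwd : w.natDegree ≤ d - 1 := by
        refine (natDegree_sub_le _ _).trans (max_le ?_ ?_)
        · exact (natDegree_smul_le _ _).trans hf.le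
        · exact (natDegree_smul_le _ _).trans hg.le
      have hwc : w.coeff (d - 1) = 0 := by
        rw [hw, coeff_sub, coeff_smul, coeff_smul, smul_eq_mul, smul_eq_mul]
        have e1 : (f.map ρ).coeff (d - 1) = y := by rw [hy, leadingCoeff, hf]
        have e2 : (g.map ρ).coeff (d - 1) = x := by rw [hx, leadingCoeff, hg]
        rw [e1, e2]; ring
      rcases hdd w hwM hw0 (by omega) with h1 | h1
      · omega
      · rw [← h1] at hwc
        exact hw0 (leadingCoeff_eq_zero.1 hwc)
  · -- the gap case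
    right
    have hqC : q = C (q.coeff 0) := eq_C_of_natDegree_eq_zero a2
    have hq00 : q.coeff 0 ≠ 0 := by
      intro h0
      rw [h0, C_0] at hqC
      exact hq0 hqC
    refine ⟨u, v, b3, a1, ⟨q.coeff 0, hq00, ?_⟩, fun P m hm hs => ?_⟩
    · rw [hqW]
      conv_lhs => rw [hqC]
    · exact schubert p hW0 huM hvM hwuv P hm hs

end Final

end K808.Mbar
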