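import Groth.Agent.W4c1limliniiii.K808.LA
import Groth.Agent.S1350
import Mathlib.AlgebraicGeometry.Morphisms.FinitePresentation
import Mathlib.AlgebraicGeometry.Limits

/-!
Infinitesimal lifting at the exact points of a linked Grassmannian.
-/

set_option autoImplicit false

universe u

open AlgebraicGeometry CategoryTheory

namespace K808.LW

open K808.LC K808.LN K808.LD K808.LR K808.LS K808.LP K808.LE K808.LT K808.LA

variable {R : Type u} [CommRing R] {d r n : ℕ} {F G : ℕ → Module.End R (Fin d → R)}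
  {X : Scheme.{u}} {p : X ⟶ Spec (CommRingCat.of R)}

section Lift

variable (L : LRep R d r n F G X p) {s : R} (D : LGd R d n F G s) (hrd : r ≤ d)

/-- A chain of generators inside a chain. -/
theorem vc_le {A : Type u} [CommRing A] (h : Spec (CommRingCat.of A) ⟶ X) {m : ℕ → ℕ}
    (w : Ix n m → Fin d → A) (hw : ∀ a, w a ∈ L.ch h a.1) {j : ℕ} (hj : j ≤ n) :
    vc F G (rh p h) w j ≤ L.ch h j := by
  rw [vc, Submodule.span_le]
  rintro _ ⟨a, rfl⟩
  have h2 := tr_mem (fun i => lext (rh p h) (F i)) (fun i => lext (rh p h) (G i)) (n := n)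
    (L.fwd h) (L.bwd h) (i := a.1) (by omega) hj (hw a)
  rw [tr_lext] at h2
  exact h2

include L D hrd in
/-- Over a local ring with exact closed point, the chain has generators. -/
theorem exists_gen_local {B : Type u} [CommRing B] [IsLocalRing B]
    (α : Spec (CommRingCat.of B) ⟶ X) (hx : Ex L (α (IsLocalRing.closedPoint B))) :
    ∃ (m : ℕ → ℕ) (w : Ix n m → Fin d → B) (l : Fin (n + 1) → Matrix (Ix n m) (Fin d) B),
      Fintype.card (Ix n m) = r ∧ (∀ j, IsUnit (gd F G (rh p α) w l j)) ∧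
      ∀ j ≤ n, L.ch α j = vc F G (rh p α) w j := by
  let K := IsLocalRing.ResidueField B
  let π : B →+* K := IsLocalRing.residue B
  have hπ : Function.Surjective π := IsLocalRing.residue_surjective
  have hloc : IsLocalHom π := inferInstanceAs (IsLocalHom (IsLocalRing.residue B))
  set hK : Spec (CommRingCat.of K) ⟶ X := Spec.map (CommRingCat.ofHom π) ≫ α with hhK
  have hpt : hK (IsLocalRing.closedPoint K) = α (IsLocalRing.closedPoint B) := by
    have h1 : (Spec.map (CommRingCat.ofHom π)) (IsLocalRing.closedPoint K) =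
        IsLocalRing.closedPoint B := IsLocalRing.comap_closedPoint π
    rw [← h1]; rfl
  set ξ := α (IsLocalRing.closedPoint B) with hξ
  have hF : ∀ j < n, rkF L hK j = ptF L ξ j := fun j hj => by rw [rkF_eq L hK hj.le, hpt]
  have hG : ∀ j < n, rkG L hK j = ptG L ξ j := fun j hj => by rw [rkG_eq L hK hj, hpt]
  have hmr := card_ty L D hrd ξ
  obtain ⟨w, l, hl, hc⟩ := exists_gen L D hrd hK (fun j hj => by
    rw [hF j hj, hG j hj]; exact hx j hj) (m := ty L ξ) (fun j hj => by
      rw [ty]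
      refine typ_congr (fun j hj => ?_) hj
      rw [if_pos hj, hF j hj]) hmr
  have hrh : rh p hK = π.comp (rh p α) := rh_comp p π α
  have hwK : ∀ a : Ix n (ty L ξ), ∃ y ∈ L.ch α a.1, sc π y = w a := by
    intro a
    have h1 : w a ∈ L.ch hK a.1 := by
      rw [hc a.1 (by omega)]
      refine Submodule.subset_span ⟨a, ?_⟩
      rw [gv, tr_self, lext_id_map]; rfl
    rw [hhK, L.comp π α a.1 (by omega)] at h1
    exact exists_of_mem_ext hπ h1
  choose w' hw' hw'' using hwK
  choose l' hl' using fun (j : Fin (n + 1)) (a : Ix n (ty L ξ)) (c : Fin d) => hπ (l j a c)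
  let l'' : Fin (n + 1) → Matrix (Ix n (ty L ξ)) (Fin d) B := fun j => Matrix.of (l' j)
  have hl'' : ∀ j, IsUnit (gd F G (rh p α) w' l'' j) := by
    intro j
    have h1 := gd_map F G (rh p α) π w' l'' j
    have h2 : (fun a => sc π (w' a)) = w := funext hw''
    have h3 : (fun j => (l'' j).map π) = l := by
      funext j; ext a c; exact hl' j a c
    rw [h2, h3, ← hrh] at h1
    exact (isUnit_map_iff π _).1 (h1 ▸ hl j)
  refine ⟨ty L ξ, w', l'', hmr, hl'', fun j hj => ?_⟩
  exact ((vc_nice F G hmr _ _ _ hl'' hj).eq_of_le (L.nice α j hj) (vc_le L α w' hw' hj)).symm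

include L D hrd in
/-- Lifting of local points at exact points. -/
theorem exists_lift {B B' : Type u} [CommRing B] [CommRing B'] [IsLocalRing B] [IsLocalRing B']
    (φ : B' →+* B) (hφ : Function.Surjective φ) (α : Spec (CommRingCat.of B) ⟶ X)
    (β : Spec (CommRingCat.of B') ⟶ Spec (CommRingCat.of R))
    (hx : Ex L (α (IsLocalRing.closedPoint B)))
    (hc : Spec.map (CommRingCat.ofHom φ) ≫ β = α ≫ p) :
    ∃ γ : Spec (CommRingCat.of B') ⟶ X, Spec.map (CommRingCat.ofHom φ) ≫ γ = α ∧ γ ≫ p = β := by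
  obtain ⟨m, w, l, hmr, hl, hV⟩ := exists_gen_local L D hrd α hx
  let ρ : R →+* B' := (Spec.preimage β).hom
  have hρ : Spec.map (CommRingCat.ofHom ρ) = β := Spec.map_preimage β
  have hρφ : φ.comp ρ = rh p α := by
    symm
    rw [rh_eq_iff, ← hc, ← hρ, ← Spec.map_comp]
    rfl
  have hloc : IsLocalHom φ := IsLocalHom.of_surjective φ hφ
  choose w' hw' using fun a => sc_surjective hφ (w a)
  choose l' hl' using fun (j : Fin (n + 1)) (a : Ix n m) (c : Fin d) => hφ (l j a c)
  let l'' : Fin (n + 1) → Matrix (Ix n m) (Fin d) B' := fun j => Matrix.of (l' j)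
  have h2 : (fun a => sc φ (w' a)) = w := funext hw'
  have hl'' : ∀ j, IsUnit (gd F G ρ w' l'' j) := by
    intro j
    have h1 := gd_map F G ρ φ w' l'' j
    have h3 : (fun j => (l'' j).map φ) = l := by
      funext j; ext a c; exact hl' j a c
    rw [h2, h3, hρφ] at h1
    exact (isUnit_map_iff φ _).1 (h1 ▸ hl j)
  obtain ⟨γ, h3, h4⟩ := L.surj ρ (fun j => vc F G ρ w' j)
    (fun j hj => vc_nice F G hmr _ _ _ hl'' hj)
    (fun j hj => vc_fwd D.hFG _ _ hj) (fun j hj => vc_bwd D.hGF _ _ hj)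
  refine ⟨γ, L.inj _ _ ?_ ?_, ?_⟩
  · rw [Category.assoc, h3, ← hc, ← hρ]
  · intro j hj
    rw [L.comp φ γ j hj, h4 j hj, ext_vc, hρφ, h2, hV j hj]
  · rw [h3, hρ]

end Lift

end K808.LW
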