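import Groth.Agent.W4c1limliniiii.K808.LA
import Mathlib.AlgebraicGeometry.Morphisms.FinitePresentation
import Mathlib.AlgebraicGeometry.Limits
import Mathlib.RingTheory.Localization.Away.Basic

/-!
Affine charts of a linked Grassmannian; it is locally of finite type over its base.
-/

set_option autoImplicit false

universe u

open AlgebraicGeometry CategoryTheory

namespace K808.LX

open K808.LC K808.LN K808.LD K808.LR K808.LS K808.LP K808.LE K808.LT K808.LA

section Sys

variable {R : Type u} [CommRing R] {d r n : ℕ} (F G : ℕ → Module.End R (Fin d → R))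
variable (J : Fin (n + 1) → Fin r → Fin d)

/-- Members of the span of a reduced family. -/
theorem eq_of_mem_reduced {A : Type*} [CommRing A] {x : Fin r → Fin d → A} {J : Fin r → Fin d}
    (hx : ∀ a b, x a (J b) = if a = b then 1 else 0) {y : Fin d → A}
    (hy : y ∈ Submodule.span A (Set.range x)) : y = ∑ b, y (J b) • x b := by
  obtain ⟨c, hc⟩ := (Submodule.mem_span_range_iff_exists_fun A).1 hy
  have h1 : ∀ b, c b = y (J b) := by
    intro b
    have h2 := congrFun hc (J b)
    rw [Finset.sum_apply] at h2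
    simp only [Pi.smul_apply, hx, smul_eq_mul] at h2
    rw [← h2]
    simp
  rw [← hc]
  refine Finset.sum_congr rfl fun b _ => ?_
  rw [h1, hc]

/-- Reduced bases of a chain. -/
structure Sys {A : Type u} [CommRing A] (ρ : R →+* A) (x : Fin (n + 1) → Fin r → Fin d → A) :
    Prop where
  red : ∀ j a b, x j a (J j b) = if a = b then 1 else 0
  fwd : ∀ (j : Fin n) (a : Fin r), lext ρ (F j) (x j.castSucc a) ∈
    Submodule.span A (Set.range (x j.succ))
  bwd : ∀ (j : Fin n) (a : Fin r), lext ρ (G j) (x j.succ a) ∈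
    Submodule.span A (Set.range (x j.castSucc))

variable (R d r n) in
/-- The variables of the chart. -/
abbrev Vs : Type := Fin (n + 1) × Fin r × Fin d

variable (R d r n) in
/-- The generic vectors. -/
noncomputable def x0 (j : Fin (n + 1)) (a : Fin r) (c : Fin d) : MvPolynomial (Vs d r n) R :=
  MvPolynomial.X (j, a, c)

/-- Evaluation. -/
noncomputable def ev {A : Type u} [CommRing A] (ρ : R →+* A)
    (x : Fin (n + 1) → Fin r → Fin d → A) : MvPolynomial (Vs d r n) R →+* A :=
  MvPolynomial.eval₂Hom ρ fun v => x v.1 v.2.1 v.2.2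

theorem ev_C {A : Type u} [CommRing A] (ρ : R →+* A)
    (x : Fin (n + 1) → Fin r → Fin d → A) : (ev ρ x).comp MvPolynomial.C = ρ := by
  ext y; simp [ev]

theorem ev_x0 {A : Type u} [CommRing A] (ρ : R →+* A)
    (x : Fin (n + 1) → Fin r → Fin d → A) (j : Fin (n + 1)) (a : Fin r) :
    sc (ev ρ x) (x0 R d r n j a) = x j a := by
  ext c; simp [ev, x0]

/-- The ideal of relations of the chart. -/
def rel : Ideal (MvPolynomial (Vs d r n) R) where
  carrier := {q | ∀ (A : Type u) [CommRing A] (ρ : R →+* A) (x : Fin (n + 1) → Fin r → Fin d → A),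
    Sys F G J ρ x → ev ρ x q = 0}
  add_mem' := fun {a b} ha hb A _ ρ x hx => by rw [map_add, ha A ρ x hx, hb A ρ x hx, add_zero]
  zero_mem' := fun A _ ρ x _ => map_zero _
  smul_mem' := fun c q hq A _ ρ x hx => by rw [smul_eq_mul, map_mul, hq A ρ x hx, mul_zero]

/-- The chart ring. -/
abbrev CR : Type u := MvPolynomial (Vs d r n) R ⧸ rel F G J

/-- The structure map of the chart ring. -/
noncomputable def rC : R →+* CR F G J := (Ideal.Quotient.mk (rel F G J)).comp MvPolynomial.C

/-- The reduced vectors of the chart ring. -/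
noncomputable def xC (j : Fin (n + 1)) (a : Fin r) : Fin d → CR F G J :=
  sc (Ideal.Quotient.mk (rel F G J)) (x0 R d r n j a)

theorem mk_eq_of (q q' : MvPolynomial (Vs d r n) R)
    (h : ∀ (A : Type u) [CommRing A] (ρ : R →+* A) (x : Fin (n + 1) → Fin r → Fin d → A),
      Sys F G J ρ x → ev ρ x q = ev ρ x q') :
    Ideal.Quotient.mk (rel F G J) q = Ideal.Quotient.mk (rel F G J) q' := by
  rw [Ideal.Quotient.eq]
  intro A _ ρ x hx
  rw [map_sub, h A ρ x hx, sub_self]

theorem sys_xC : Sys F G J (rC F G J) (xC F G J) where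
  red := fun j a b => by
    have h1 := mk_eq_of F G J (x0 R d r n j a (J j b)) (if a = b then 1 else 0) (by
      intro A _ ρ x hx
      have h2 := congrFun (ev_x0 ρ x j a) (J j b)
      rw [sc_apply] at h2
      rw [h2, hx.red]
      split_ifs <;> simp)
    rw [xC, sc_apply, h1]
    split_ifs <;> simp
  fwd := fun j a => by
    have h1 : lext (rC F G J) (F j) (xC F G J j.castSucc a) =
        ∑ b, (Ideal.Quotient.mk (rel F G J)
          (lext MvPolynomial.C (F j) (x0 R d r n j.castSucc a) (J j.succ b))) •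
            xC F G J j.succ b := by
      rw [rC, xC, lext_sc']
      ext c
      rw [sc_apply, Finset.sum_apply]
      have h2 := mk_eq_of F G J (lext MvPolynomial.C (F j) (x0 R d r n j.castSucc a) c)
        (∑ b, lext MvPolynomial.C (F j) (x0 R d r n j.castSucc a) (J j.succ b) *
          x0 R d r n j.succ b c) (by
        intro A _ ρ x hx
        have h3 := eq_of_mem_reduced (hx.red j.succ) (hx.fwd j a)
        have h4 : lext ρ (F j) (x j.castSucc a) =
            sc (ev ρ x) (lext MvPolynomial.C (F j) (x0 R d r n j.castSucc a)) := by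
          rw [← lext_sc', ev_C, ev_x0]
        rw [h4] at h3
        have h5 := congrFun h3 c
        rw [sc_apply] at h5
        rw [h5, Finset.sum_apply, map_sum]
        refine Finset.sum_congr rfl fun b _ => ?_
        rw [Pi.smul_apply, sc_apply, smul_eq_mul, map_mul, ← ev_x0 ρ x j.succ b, sc_apply])
      rw [h2, map_sum]
      refine Finset.sum_congr rfl fun b _ => ?_
      rw [map_mul]; rfl
    rw [h1]
    exact Submodule.sum_mem _ fun b _ => Submodule.smul_mem _ _ (Submodule.subset_span ⟨b, rfl⟩)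
  bwd := fun j a => by
    have h1 : lext (rC F G J) (G j) (xC F G J j.succ a) =
        ∑ b, (Ideal.Quotient.mk (rel F G J)
          (lext MvPolynomial.C (G j) (x0 R d r n j.succ a) (J j.castSucc b))) •
            xC F G J j.castSucc b := by
      rw [rC, xC, lext_sc']
      ext c
      rw [sc_apply, Finset.sum_apply]
      have h2 := mk_eq_of F G J (lext MvPolynomial.C (G j) (x0 R d r n j.succ a) c)
        (∑ b, lext MvPolynomial.C (G j) (x0 R d r n j.succ a) (J j.castSucc b) *
          x0 R d r n j.castSucc b c) (by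
        intro A _ ρ x hx
        have h3 := eq_of_mem_reduced (hx.red j.castSucc) (hx.bwd j a)
        have h4 : lext ρ (G j) (x j.succ a) =
            sc (ev ρ x) (lext MvPolynomial.C (G j) (x0 R d r n j.succ a)) := by
          rw [← lext_sc', ev_C, ev_x0]
        rw [h4] at h3
        have h5 := congrFun h3 c
        rw [sc_apply] at h5
        rw [h5, Finset.sum_apply, map_sum]
        refine Finset.sum_congr rfl fun b _ => ?_
        rw [Pi.smul_apply, sc_apply, smul_eq_mul, map_mul, ← ev_x0 ρ x j.castSucc b, sc_apply])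
      rw [h2, map_sum]
      refine Finset.sum_congr rfl fun b _ => ?_
      rw [map_mul]; rfl
    rw [h1]
    exact Submodule.sum_mem _ fun b _ => Submodule.smul_mem _ _ (Submodule.subset_span ⟨b, rfl⟩)

variable {F G J}

theorem exists_evC {A : Type u} [CommRing A] {ρ : R →+* A} {x : Fin (n + 1) → Fin r → Fin d → A}
    (hx : Sys F G J ρ x) : ∃ φ : CR F G J →+* A, φ.comp (rC F G J) = ρ ∧
      ∀ j a, sc φ (xC F G J j a) = x j a := by
  refine ⟨Ideal.Quotient.lift (rel F G J) (ev ρ x) fun q hq => hq A ρ x hx, ?_, ?_⟩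
  · ext y
    exact RingHom.congr_fun (ev_C ρ x) y
  · intro j a
    exact ev_x0 ρ x j a

theorem hom_ext_CR {A : Type u} [CommRing A] {φ ψ : CR F G J →+* A}
    (h1 : φ.comp (rC F G J) = ψ.comp (rC F G J)) (h2 : ∀ j a, sc φ (xC F G J j a) = sc ψ (xC F G J j a)) :
    φ = ψ := by
  apply Ideal.Quotient.ringHom_ext
  apply MvPolynomial.ringHom_ext
  · intro y
    exact RingHom.congr_fun h1 y
  · rintro ⟨j, a, c⟩
    exact congrFun (h2 j a) c

/-- Reduced families with the same span are equal. -/
theorem reduced_unique {A : Type*} [CommRing A] {x x' : Fin r → Fin d → A} {J : Fin r → Fin d}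
    (hx : ∀ a b, x a (J b) = if a = b then 1 else 0)
    (hx' : ∀ a b, x' a (J b) = if a = b then 1 else 0)
    (h : Submodule.span A (Set.range x) = Submodule.span A (Set.range x')) : x = x' := by
  funext a
  have h1 : x a ∈ Submodule.span A (Set.range x') := by
    rw [← h]; exact Submodule.subset_span ⟨a, rfl⟩
  have h2 := eq_of_mem_reduced hx' h1
  rw [h2]
  simp only [hx]
  simp

end Sys

section Chart

variable {R : Type u} [CommRing R] {d r n : ℕ} {F G : ℕ → Module.End R (Fin d → R)}
  {X : Scheme.{u}} {p : X ⟶ Spec (CommRingCat.of R)}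
variable (L : LRep R d r n F G X p) (J : Fin (n + 1) → Fin r → Fin d)

/-- The chart of the linked Grassmannian. -/
theorem exists_chart : ∃ c : Spec (CommRingCat.of (CR F G J)) ⟶ X, rh p c = rC F G J ∧
    ∀ j : Fin (n + 1), L.ch c j = Submodule.span _ (Set.range (xC F G J j)) := by
  let N : ℕ → Submodule (CR F G J) (Fin d → CR F G J) := fun j =>
    if hj : j < n + 1 then Submodule.span _ (Set.range (xC F G J ⟨j, hj⟩)) else ⊥
  have hN : ∀ j (hj : j < n + 1), N j = Submodule.span _ (Set.range (xC F G J ⟨j, hj⟩)) :=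
    fun j hj => dif_pos hj
  obtain ⟨c, h1, h2⟩ := L.surj (rC F G J) N
    (fun j hj => by rw [hN j (by omega)]; exact nice_of_reduced ((sys_xC F G J).red _))
    (fun j hj => by
      rw [hN j (by omega), hN (j + 1) (by omega), Submodule.map_span_le]
      rintro _ ⟨a, rfl⟩
      exact (sys_xC F G J).fwd ⟨j, hj⟩ a)
    (fun j hj => by
      rw [hN j (by omega), hN (j + 1) (by omega), Submodule.map_span_le]
      rintro _ ⟨a, rfl⟩
      exact (sys_xC F G J).bwd ⟨j, hj⟩ a)
  refine ⟨c, (rh_eq_iff p c _).2 h1, fun j => ?_⟩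
  rw [h2 j (by omega), hN j j.2]

variable {J} {c : Spec (CommRingCat.of (CR F G J)) ⟶ X} (hc : rh p c = rC F G J)
  (hcc : ∀ j : Fin (n + 1), L.ch c j = Submodule.span _ (Set.range (xC F G J j)))

include hc hcc in
/-- Points with reduced bases factor through the chart. -/
theorem exists_factor_chart {A : Type u} [CommRing A] (α : Spec (CommRingCat.of A) ⟶ X)
    (x : Fin (n + 1) → Fin r → Fin d → A) (hx : ∀ j a b, x j a (J j b) = if a = b then 1 else 0)
    (hs : ∀ j : Fin (n + 1), L.ch α j = Submodule.span A (Set.range (x j))) :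
    ∃ φ : CR F G J →+* A, Spec.map (CommRingCat.ofHom φ) ≫ c = α := by
  have hsys : Sys F G J (rh p α) x := by
    refine ⟨hx, fun j a => ?_, fun j a => ?_⟩
    · rw [← hs]
      refine L.fwd α j j.2 ⟨_, ?_, rfl⟩
      have h1 : x j.castSucc a ∈ Submodule.span A (Set.range (x j.castSucc)) :=
        Submodule.subset_span ⟨a, rfl⟩
      rw [← hs] at h1
      exact h1
    · rw [← hs]
      refine L.bwd α j j.2 ⟨_, ?_, rfl⟩
      have h1 : x j.succ a ∈ Submodule.span A (Set.range (x j.succ)) :=
        Submodule.subset_span ⟨a, rfl⟩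
      rw [← hs] at h1
      exact h1
  obtain ⟨φ, h1, h2⟩ := exists_evC hsys
  refine ⟨φ, L.inj _ _ ?_ ?_⟩
  · rw [← map_rh, ← map_rh, rh_comp, hc, h1]
  · intro j hj
    have h3 := hcc ⟨j, by omega⟩
    have h4 := hs ⟨j, by omega⟩
    simp only at h3 h4
    rw [L.comp φ c j hj, h3, h4, ext_span_range]
    congr 2
    funext a
    exact h2 _ a

include hc hcc in
/-- The chart map is a monomorphism. -/
theorem mono_chart : Mono c := by
  have key : ∀ (A : Type u) [CommRing A] (φ ψ : CR F G J →+* A),
      Spec.map (CommRingCat.ofHom φ) ≫ c = Spec.map (CommRingCat.ofHom ψ) ≫ c → φ = ψ := by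
    intro A _ φ ψ h
    have h2 := congrArg (rh p) h
    rw [rh_comp, rh_comp, hc] at h2
    refine hom_ext_CR h2 fun j a => ?_
    have h3 : L.ch (Spec.map (CommRingCat.ofHom φ) ≫ c) j =
        L.ch (Spec.map (CommRingCat.ofHom ψ) ≫ c) j := by rw [h]
    rw [L.comp φ c j (by omega), L.comp ψ c j (by omega), hcc, ext_span_range, ext_span_range] at h3
    have hred : ∀ (χ : CR F G J →+* A) (a b : Fin r),
        sc χ (xC F G J j a) (J j b) = if a = b then 1 else 0 := by
      intro χ a b
      rw [sc_apply, (sys_xC F G J).red]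
      split_ifs <;> simp
    exact congrFun (reduced_unique (hred φ) (hred ψ) h3) a
  have key2 : ∀ (A : CommRingCat.{u}) (u v : Spec A ⟶ Spec (CommRingCat.of (CR F G J))),
      u ≫ c = v ≫ c → u = v := by
    intro A u v h
    obtain ⟨φ, rfl⟩ : ∃ φ, Spec.map φ = u := ⟨_, Spec.map_preimage _⟩
    obtain ⟨ψ, rfl⟩ : ∃ ψ, Spec.map ψ = v := ⟨_, Spec.map_preimage _⟩
    have h2 : φ.hom = ψ.hom := key _ φ.hom ψ.hom h
    rw [CommRingCat.hom_ext h2]
  constructor
  intro T u v huv
  refine Scheme.Cover.hom_ext T.affineCover _ _ fun i => key2 _ _ _ ?_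
  exact (Category.assoc _ _ _).trans
    ((congrArg (fun h => T.affineCover.f i ≫ h) huv).trans (Category.assoc _ _ _).symm)

end Chart

section Local

variable {R : Type u} [CommRing R] {d r n : ℕ} {F G : ℕ → Module.End R (Fin d → R)}
  {X : Scheme.{u}} {p : X ⟶ Spec (CommRingCat.of R)}
variable (L : LRep R d r n F G X p) (hrd : r ≤ d)

include hrd in
/-- Reduced bases exist locally. -/
theorem exists_local (ξ : X) : ∃ (A : Type u) (_ : CommRing A)
    (α : Spec (CommRingCat.of A) ⟶ X) (_ : IsOpenImmersion α) (J : Fin (n + 1) → Fin r → Fin d)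
    (x : Fin (n + 1) → Fin r → Fin d → A), ξ ∈ Set.range α ∧
    (∀ j a b, x j a (J j b) = if a = b then 1 else 0) ∧
    ∀ j : Fin (n + 1), L.ch α j = Submodule.span A (Set.range (x j)) := by
  obtain ⟨A₀, α₀, hα₀, hA, -⟩ := AlgebraicGeometry.Scheme.exists_affine_mem_range_and_range_subset
    (U := (⊤ : X.Opens)) (x := ξ) trivial
  obtain ⟨y, hy⟩ := hA
  let A₀' : Type u := A₀
  let α₀' : Spec (CommRingCat.of A₀') ⟶ X := α₀
  let κ := (y : PrimeSpectrum A₀').asIdeal.ResidueField
  let φ : A₀' →+* κ := algebraMap A₀' κ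
  have hrk : ∀ j : Fin (n + 1), Module.finrank κ (ext φ (L.ch α₀' j)) = r := by
    intro j
    rw [← L.comp φ α₀' j (by omega)]
    exact (nice_iff_finrank hrd _).1 (L.nice _ j (by omega))
  have hx : ∀ j : Fin (n + 1), ∃ (x : Fin r → Fin d → A₀') (J : Fin r → Fin d),
      (∀ a, x a ∈ L.ch α₀' j) ∧ φ (Matrix.of fun a b => x a (J b)).det ≠ 0 := by
    intro j
    obtain ⟨x, hx, hli⟩ := exists_members φ (L.ch α₀' j) r (hrk j).ge
    obtain ⟨l, hl⟩ := exists_functional hli
    obtain ⟨J, hJ⟩ := exists_minor (fun i => sc φ (x i)) l hl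
    refine ⟨x, J, hx, ?_⟩
    rw [RingHom.map_det]
    exact hJ
  choose x J hxm hxd using hx
  let δ : A₀' := ∏ j, (Matrix.of fun a b => x j a (J j b)).det
  have hδ : φ δ ≠ 0 := by
    rw [map_prod, Finset.prod_ne_zero_iff]
    intro j _
    exact hxd j
  let A := Localization.Away δ
  let ψ : A₀' →+* A := algebraMap A₀' A
  let α : Spec (CommRingCat.of A) ⟶ X := Spec.map (CommRingCat.ofHom ψ) ≫ α₀'
  have hψ : IsOpenImmersion (Spec.map (CommRingCat.ofHom ψ)) :=
    Scheme.isOpenImmersion_SpecMap_localizationAway (R := CommRingCat.of A₀') δ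
  have hα₀' : IsOpenImmersion α₀' := hα₀
  have hα : IsOpenImmersion α := inferInstance
  have hun : ∀ j, IsUnit (ψ (Matrix.of fun a b => x j a (J j b)).det) := by
    have h1 : IsUnit (ψ δ) := IsLocalization.Away.algebraMap_isUnit δ
    rw [map_prod, IsUnit.prod_iff] at h1
    exact fun j => h1 j (Finset.mem_univ j)
  let D : Fin (n + 1) → Matrix (Fin r) (Fin r) A := fun j =>
    Matrix.of fun a b => ψ (x j a (J j b))
  have hD : ∀ j, IsUnit (D j).det := by
    intro j
    have h1 := hun j
    rw [RingHom.map_det] at h1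
    exact h1
  let x' : Fin (n + 1) → Fin r → Fin d → A := fun j a => ∑ b, (D j)⁻¹ a b • sc ψ (x j b)
  have hx'r : ∀ j a b, x' j a (J j b) = if a = b then 1 else 0 := by
    intro j a b
    have h1 : ((D j)⁻¹ * D j) a b = if a = b then 1 else 0 := by
      rw [Matrix.nonsing_inv_mul _ (hD j), Matrix.one_apply]
    rw [← h1, Matrix.mul_apply]
    change (∑ c, (D j)⁻¹ a c • sc ψ (x j c)) (J j b) = _
    rw [Finset.sum_apply]
    rfl
  refine ⟨A, inferInstance, α, hα, J, x', ?_, hx'r, ?_⟩
  · have h1 : y ∈ Set.range (Spec.map (CommRingCat.ofHom ψ)) := by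
      have h2 : Set.range (PrimeSpectrum.comap (algebraMap A₀' A)) =
          (PrimeSpectrum.basicOpen δ : Set (PrimeSpectrum A₀')) :=
        PrimeSpectrum.localization_away_comap_range A δ
      have h3 : (y : PrimeSpectrum A₀') ∈ (PrimeSpectrum.basicOpen δ : Set (PrimeSpectrum A₀')) := by
        intro h4
        exact hδ (Ideal.algebraMap_residueField_eq_zero.2 h4)
      rw [← h2] at h3
      exact h3
    obtain ⟨z, hz⟩ := h1
    refine ⟨z, ?_⟩
    rw [← hy, ← hz]
    rfl
  · intro j
    refine (Nice.eq_of_le (nice_of_reduced (hx'r j)) (L.nice α j (by omega)) ?_).symm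
    rw [Submodule.span_le]
    rintro _ ⟨a, rfl⟩
    refine Submodule.sum_mem _ fun b _ => Submodule.smul_mem _ _ ?_
    have h1 := L.comp ψ α₀' j (by omega)
    rw [h1]
    exact sc_mem_ext ψ (hxm j b)

/-- A factor of an open immersion through a monomorphism is an open immersion. -/
theorem isOpenImmersion_of_mono {W Z X : Scheme.{u}} (h : W ⟶ X) (c : Z ⟶ X) (v : W ⟶ Z)
    (hv : v ≫ c = h) [IsOpenImmersion h] [Mono c] : IsOpenImmersion v := by
  let σ : W ⟶ Limits.pullback h c := Limits.pullback.lift (𝟙 W) v (by rw [hv, Category.id_comp])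
  have h1 : σ ≫ Limits.pullback.fst h c = 𝟙 W := Limits.pullback.lift_fst _ _ _
  have h2 : σ ≫ Limits.pullback.snd h c = v := Limits.pullback.lift_snd _ _ _
  have h3 : IsSplitEpi (Limits.pullback.fst h c) := ⟨⟨⟨σ, h1⟩⟩⟩
  have h4 : IsIso (Limits.pullback.fst h c) := isIso_of_mono_of_isSplitEpi _
  have h5 : IsIso σ := by
    have : σ = inv (Limits.pullback.fst h c) := by
      rw [← cancel_mono (Limits.pullback.fst h c), h1, IsIso.inv_hom_id]
    rw [this]
    infer_instance
  rw [← h2]
  infer_instance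

include L hrd in
/-- The linked Grassmannian is locally of finite type over its base. -/
theorem locallyOfFiniteType : LocallyOfFiniteType p := by
  choose A hA α hα J x hξ hx hs using exists_local L hrd
  refine IsZariskiLocalAtSource.of_iSup_eq_top (P := @LocallyOfFiniteType)
    (fun ξ => (α ξ).opensRange) ?_ ?_
  · rw [eq_top_iff]
    intro ξ _
    rw [TopologicalSpace.Opens.mem_iSup]
    exact ⟨ξ, hξ ξ⟩
  · intro ξ
    obtain ⟨c, hc, hcc⟩ := exists_chart L (J ξ)
    obtain ⟨φ, hφ⟩ := exists_factor_chart L hc hcc (α ξ) (x ξ) (hx ξ) (hs ξ)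
    have hm : Mono c := mono_chart L hc hcc
    have hopen : IsOpenImmersion (Spec.map (CommRingCat.ofHom φ)) :=
      isOpenImmersion_of_mono (α ξ) c _ hφ
    have h1 : (α ξ).opensRange.ι ≫ p = (α ξ).isoOpensRange.inv ≫ α ξ ≫ p := by
      rw [Scheme.Hom.isoOpensRange_inv_comp_assoc]
    have h2 : α ξ ≫ p = Spec.map (CommRingCat.ofHom φ) ≫ Spec.map (CommRingCat.ofHom (rC F G (J ξ))) := by
      rw [← hc, map_rh, ← Category.assoc, hφ]
    have h3 : LocallyOfFiniteType (Spec.map (CommRingCat.ofHom (rC F G (J ξ)))) := by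
      rw [HasRingHomProperty.Spec_iff (P := @LocallyOfFiniteType)]
      change (rC F G (J ξ)).FiniteType
      have h4 : (MvPolynomial.C : R →+* MvPolynomial (Vs d r n) R).FiniteType := by
        rw [← MvPolynomial.algebraMap_eq, RingHom.finiteType_algebraMap]
        infer_instance
      exact (RingHom.FiniteType.of_surjective _ Ideal.Quotient.mk_surjective).comp h4
    rw [h1, h2]
    infer_instance

end Local

end K808.LX
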