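import Groth.Agent.W4c1limliniiii.K808.LA
import Mathlib.RingTheory.Valuation.LocalSubring

/-!
Linked Grassmannians over a domain: components dominate and surject onto the base.
-/

set_option autoImplicit false

universe u

open AlgebraicGeometry CategoryTheory

namespace K808.LV

open K808.LC K808.LN K808.LD K808.LR K808.LS K808.LP K808.LE K808.LT K808.LB K808.LA

section Hyp

variable {R : Type u} [CommRing R] {d n : ℕ} {f g : Fin n → ((Fin d → R) →ₗ[R] (Fin d → R))}
variable {s : R}

/-- The factorization of a field-valued point through the residue field. -/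
theorem exists_residue {K : Type u} [Field K] (ρ : R →+* K) :
    ∃ (P : Ideal R) (_ : P.IsPrime) (φ : P.ResidueField →+* K),
      φ.comp (algebraMap R P.ResidueField) = ρ := by
  haveI := RingHom.ker_isPrime ρ
  have hu : (RingHom.ker ρ).primeCompl ≤ (IsUnit.submonoid K).comap ρ := by
    intro x hx
    rw [Submonoid.mem_comap, IsUnit.mem_submonoid_iff]
    exact isUnit_iff_ne_zero.2 hx
  refine ⟨RingHom.ker ρ, RingHom.ker_isPrime ρ,
    Ideal.ResidueField.lift (RingHom.ker ρ) ρ le_rfl hu, ?_⟩
  ext x
  exact Ideal.ResidueField.lift_algebraMap _ _ _ hu _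

theorem map_th_range {A : Type u} [CommRing A] [Algebra R A] (h : (Fin d → R) →ₗ[R] (Fin d → R)) :
    (LinearMap.range (h.baseChange A)).map (LB.th A).toLinearMap =
      LinearMap.range (lext (algebraMap R A) h) := by
  rw [LinearMap.range_eq_map, map_th_map, Submodule.map_top, LinearEquiv.range,
    LinearMap.range_eq_map]
  rfl

/-- The conditions at the residue fields hold at all field-valued points. -/
theorem lgd_of_residue
    (hI : ∀ i, (f i).comp (g i) = s • LinearMap.id ∧ (g i).comp (f i) = s • LinearMap.id)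
    (hII : ∀ (P : Ideal R) [P.IsPrime], ∀ i,
      d ≤ Module.finrank P.ResidueField (LinearMap.range ((f i).baseChange P.ResidueField)) +
        Module.finrank P.ResidueField (LinearMap.range ((g i).baseChange P.ResidueField)))
    (hIII : ∀ (P : Ideal R) [P.IsPrime], ∀ i j : Fin n, i.val + 1 = j.val →
      LinearMap.range ((f i).baseChange P.ResidueField) ⊓
          LinearMap.ker ((f j).baseChange P.ResidueField) = ⊥ ∧
        LinearMap.range ((g j).baseChange P.ResidueField) ⊓
          LinearMap.ker ((g i).baseChange P.ResidueField) = ⊥) :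
    LGd R d n (fz f) (fz g) s := by
  have hrk : ∀ (P : Ideal R) [P.IsPrime] (h : (Fin d → R) →ₗ[R] (Fin d → R)),
      Module.finrank P.ResidueField (LinearMap.range (h.baseChange P.ResidueField)) =
        Module.finrank P.ResidueField
          (LinearMap.range (lext (algebraMap R P.ResidueField) h)) := by
    intro P _ h
    rw [← map_th_range]
    exact (LinearEquiv.finrank_map_eq (LB.th (R := R) (d := d) P.ResidueField) _).symm
  have hinf : ∀ (P : Ideal R) [P.IsPrime] (h h' : (Fin d → R) →ₗ[R] (Fin d → R)),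
      LinearMap.range (h.baseChange P.ResidueField) ⊓
        LinearMap.ker (h'.baseChange P.ResidueField) = ⊥ →
      LinearMap.range (lext (algebraMap R P.ResidueField) h) ⊓
        LinearMap.ker (lext (algebraMap R P.ResidueField) h') = ⊥ := by
    intro P _ h h' hh
    have h1 := congrArg (Submodule.map (LB.th (R := R) (d := d) P.ResidueField).toLinearMap) hh
    rw [Submodule.map_inf _ (LB.th (R := R) (d := d) P.ResidueField).injective, map_th_range, map_th_ker,
      Submodule.map_bot] at h1
    exact h1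
  refine ⟨fun i hi => ?_, fun i hi => ?_, ?_, ?_, ?_⟩
  · rw [fz_lt f hi, fz_lt g hi]; exact (hI _).1
  · rw [fz_lt f hi, fz_lt g hi]; exact (hI _).2
  · intro K _ ρ i hi
    obtain ⟨P, hP, φ, rfl⟩ := exists_residue ρ
    rw [fz_lt f hi, fz_lt g hi, ← lext_lext, ← lext_lext, finrank_range_lext, finrank_range_lext,
      ← hrk, ← hrk]
    exact hII P _
  · intro K _ ρ i hi
    obtain ⟨P, hP, φ, rfl⟩ := exists_residue ρ
    rw [fz_lt f hi, fz_lt f (by omega : i < n), ← lext_lext, ← lext_lext, range_lext]
    exact inf_ker_lext φ _ _ (hinf P _ _ (hIII P ⟨i, by omega⟩ ⟨i + 1, hi⟩ rfl).1)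
  · intro K _ ρ i hi
    obtain ⟨P, hP, φ, rfl⟩ := exists_residue ρ
    rw [fz_lt g hi, fz_lt g (by omega : i < n), ← lext_lext, ← lext_lext, range_lext]
    exact inf_ker_lext φ _ _ (hinf P _ _ (hIII P ⟨i, by omega⟩ ⟨i + 1, hi⟩ rfl).2)

end Hyp

section Dom

variable {R : Type u} [CommRing R] {d r n : ℕ} {F G : ℕ → Module.End R (Fin d → R)}
  {X : Scheme.{u}} {p : X ⟶ Spec (CommRingCat.of R)}
variable (L : LRep R d r n F G X p) {s : R} (D : LGd R d n F G s) (hrd : r ≤ d)

/-- The image of a field-valued point. -/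
theorem p_apply {K : Type u} [Field K] (h : Spec (CommRingCat.of K) ⟶ X) :
    (p (h (IsLocalRing.closedPoint K)) : PrimeSpectrum R) =
      ⟨RingHom.ker (rh p h), RingHom.ker_isPrime _⟩ := by
  rw [← map_closedPoint, map_rh]
  rfl

include L hrd in
/-- Extension of field-valued points over a valuation ring. -/
theorem exists_val {K : Type u} [Field K] (h : Spec (CommRingCat.of K) ⟶ X)
    (O : ValuationSubring K) (ρO : R →+* O) (hρ : O.subtype.comp ρO = rh p h) :
    ∃ hO : Spec (CommRingCat.of O) ⟶ X, rh p hO = ρO ∧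
      Spec.map (CommRingCat.ofHom O.subtype) ≫ hO = h := by
  have hr : ∀ j : ℕ, j ≤ n → Module.finrank K (L.ch h j) = r := fun j hj =>
    (nice_iff_finrank hrd _).1 (L.nice h j hj)
  have hx : ∀ j : Fin (n + 1), ∃ (x : Fin r → Fin d → O) (J : Fin r → Fin d),
      (∀ a b, x a (J b) = if a = b then 1 else 0) ∧
      Submodule.span K (Set.range fun a => sc O.subtype (x a)) = L.ch h j :=
    fun j => exists_reduced O (L.ch h j) (hr j (by omega))
  choose x J hxJ hxV using hx
  let N : ℕ → Submodule O (Fin d → O) := fun j =>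
    if hj : j < n + 1 then Submodule.span O (Set.range (x ⟨j, hj⟩)) else ⊥
  have hN : ∀ j (hj : j < n + 1), N j = Submodule.span O (Set.range (x ⟨j, hj⟩)) :=
    fun j hj => dif_pos hj
  have hinj : Function.Injective O.subtype := Subtype.coe_injective
  have hext : ∀ j (hj : j < n + 1), ext O.subtype (N j) = L.ch h j := by
    intro j hj
    rw [hN j hj, ext_span_range]
    exact hxV ⟨j, hj⟩
  have hmem : ∀ j (_ : j < n + 1) (y : Fin d → O), sc O.subtype y ∈ L.ch h j → y ∈ N j := by
    intro j hj y hy
    rw [hN j hj]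
    refine mem_of_reduced hinj (hxJ ⟨j, hj⟩) ?_
    rw [hxV ⟨j, hj⟩]
    exact hy
  obtain ⟨hO, h1, h2⟩ := L.surj ρO N
    (fun j hj => by rw [hN j (by omega)]; exact nice_of_reduced (hxJ _))
    (fun j hj => by
      rintro _ ⟨y, hy, rfl⟩
      apply hmem (j + 1) (by omega)
      rw [← lext_sc', hρ]
      refine L.fwd h j hj ⟨_, ?_, rfl⟩
      rw [← hext j (by omega)]
      exact sc_mem_ext _ hy)
    (fun j hj => by
      rintro _ ⟨y, hy, rfl⟩
      apply hmem j (by omega)
      rw [← lext_sc', hρ]
      refine L.bwd h j hj ⟨_, ?_, rfl⟩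
      rw [← hext (j + 1) (by omega)]
      exact sc_mem_ext _ hy)
  have h3 : rh p hO = ρO := (rh_eq_iff p hO _).2 h1
  refine ⟨hO, h3, L.inj _ _ ?_ ?_⟩
  · rw [← map_rh p, ← map_rh p, rh_comp, h3, hρ]
  · intro j hj
    rw [L.comp _ _ j hj, h2 j hj, hext j (by omega)]

include L hrd in
/-- The closure of a point over the generic point surjects onto the base. -/
theorem surj_of_injective {η : X} (hη : Function.Injective (rx p η)) (P : PrimeSpectrum R) :
    ∃ ξ : X, η ⤳ ξ ∧ (p ξ : PrimeSpectrum R) = P := by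
  have hu : ∀ y : P.asIdeal.primeCompl, IsUnit (rx p η y) := by
    intro y
    rw [isUnit_iff_ne_zero]
    intro h0
    have h1 : (y : R) = 0 := hη (h0.trans (map_zero _).symm)
    exact y.2 (h1 ▸ P.asIdeal.zero_mem)
  let φ : Localization.AtPrime P.asIdeal →+* kap η :=
    IsLocalization.lift (M := P.asIdeal.primeCompl) hu
  have hφ : φ.comp (algebraMap R _) = rx p η := IsLocalization.lift_comp _
  obtain ⟨O, hO, hloc⟩ := IsLocalRing.exists_factor_valuationRing φ
  let φO : Localization.AtPrime P.asIdeal →+* O := φ.codRestrict O.toSubring hO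
  have hφO : O.subtype.comp φO = φ := by ext; rfl
  let ρO : R →+* O := φO.comp (algebraMap R _)
  obtain ⟨hO', h1, h2⟩ := exists_val L hrd (ik η) O ρO (by
    rw [← RingHom.comp_assoc, hφO, hφ]; rfl)
  refine ⟨hO' (IsLocalRing.closedPoint O), ?_, ?_⟩
  · have h3 : η = hO' ((Spec.map (CommRingCat.ofHom O.subtype)) (IsLocalRing.closedPoint (kap η))) := by
      have := ik_closedPoint η
      rw [← h2] at this
      exact this.symm
    conv_lhs => rw [h3]
    exact (IsLocalRing.specializes_closedPoint _).map hO'.continuous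
  · have h3 : p (hO' (IsLocalRing.closedPoint O)) =
        (Spec.map (CommRingCat.ofHom ρO)) (IsLocalRing.closedPoint O) := by
      rw [← h1, map_rh]
      rfl
    rw [h3]
    apply PrimeSpectrum.ext
    change Ideal.comap ρO (IsLocalRing.maximalIdeal O) = P.asIdeal
    have h4 : Ideal.comap φO (IsLocalRing.maximalIdeal O) =
        IsLocalRing.maximalIdeal (Localization.AtPrime P.asIdeal) :=
      ((IsLocalRing.local_hom_TFAE φO).out 0 4).1 hloc
    rw [← Ideal.comap_comap, h4]
    exact Localization.AtPrime.under_maximalIdeal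

include L D hrd in
theorem key_theta [IsDomain R] {η : X} (hmax : ∀ ξ' : X, ξ' ⤳ η → ξ' = η) :
    Function.Injective (rx p η) := by
  have hex := Ex_of_maximal L D hrd hmax
  obtain ⟨θ, h1, h2⟩ := exists_theta L D hrd (m := ty L η) (card_ty L D hrd η) ⟨η, hex, rfl⟩
  have h3 := hmax θ (h2 η hex rfl)
  rw [RingHom.injective_iff_ker_eq_bot, eq_bot_iff]
  have h4 := h1 ⟨⊥, Ideal.isPrime_bot⟩
  rw [h3] at h4
  have h5 : (p η : PrimeSpectrum R) = ⟨RingHom.ker (rx p η), RingHom.ker_isPrime _⟩ := by
    have := p_apply (p := p) (ik η)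
    rw [ik_closedPoint] at this
    exact this
  rw [h5] at h4
  exact (PrimeSpectrum.le_iff_specializes _ _).2 h4

/-- The images of a subspace under a sequence of endomorphisms. -/
def chF {K : Type*} [Field K] (Φ : ℕ → Module.End K (Fin d → K)) (V0 : Submodule K (Fin d → K)) :
    ℕ → Submodule K (Fin d → K)
  | 0 => V0
  | j + 1 => (chF Φ V0 j).map (Φ j)

include L D hrd in
theorem exists_point [IsDomain R] (hs : s ≠ 0) : Nonempty X := by
  let K := FractionRing R
  let ρ : R →+* K := algebraMap R K
  have hρ : Function.Injective ρ := IsFractionRing.injective _ _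
  have hρs : ρ s ≠ 0 := fun h => hs (hρ (h.trans (map_zero _).symm))
  have hinj : ∀ i < n, Function.Injective (lext ρ (F i)) := by
    intro i hi x y hxy
    have h1 := LinearMap.congr_fun (D.lGF ρ hi) x
    have h2 := LinearMap.congr_fun (D.lGF ρ hi) y
    rw [LinearMap.comp_apply] at h1 h2
    rw [hxy, h2] at h1
    simp only [LinearMap.smul_apply, LinearMap.id_apply] at h1
    exact (smul_right_injective _ hρs h1).symm
  let V0 : Submodule K (Fin d → K) :=
    Submodule.span K (Set.range fun a : Fin r => Pi.basisFun K (Fin d) (Fin.castLE hrd a))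
  have hV0 : Module.finrank K V0 = r := by
    have h1 : LinearIndependent K fun a : Fin r => Pi.basisFun K (Fin d) (Fin.castLE hrd a) :=
      (Pi.basisFun K (Fin d)).linearIndependent.comp _ (Fin.castLE_injective hrd)
    rw [finrank_span_eq_card h1, Fintype.card_fin]
  let V : ℕ → Submodule K (Fin d → K) := chF (fun i => lext ρ (F i)) V0
  have hVs : ∀ j, V (j + 1) = (V j).map (lext ρ (F j)) := fun j => rfl
  have hV : ∀ j ≤ n, Module.finrank K (V j) = r := by
    intro j
    induction j with
    | zero => intro _; exact hV0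
    | succ j ih =>
      intro hj
      rw [hVs, ← ih (by omega)]
      exact (Submodule.equivMapOfInjective (lext ρ (F j)) (hinj j hj) (V j)).finrank_eq.symm
  obtain ⟨h, -, -⟩ := L.surj ρ V (fun j hj => (nice_iff_finrank hrd _).2 (hV j hj))
    (fun j hj => (hVs j).ge)
    (fun j hj => by
      rw [hVs, ← Submodule.map_comp, D.lGF ρ hj]
      rintro _ ⟨x, hx, rfl⟩
      exact Submodule.smul_mem _ _ hx)
  exact ⟨h (IsLocalRing.closedPoint K)⟩

include L D hrd in
theorem irreducible_of_ne_zero [IsDomain R] (hs : s ≠ 0) : IrreducibleSpace X := by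
  obtain ⟨ξ0⟩ := exists_point L D hrd hs
  obtain ⟨η0, a1, a2, a3⟩ := exists_max ξ0
  have key : ∀ η : X, (∀ ξ' : X, ξ' ⤳ η → ξ' = η) → Ex L η ∧ ∀ j < n, ptF L η j = r := by
    intro η hη
    refine ⟨Ex_of_maximal L D hrd hη, fun j hj => ?_⟩
    have h1 := key_theta L D hrd hη
    exact (eq_of_ne_zero L D hrd (fun h => hs (h1 (h.trans (map_zero _).symm))) hj).1
  obtain ⟨b1, b2⟩ := key η0 a2
  obtain ⟨θ, -, hθ⟩ := exists_theta L D hrd (m := ty L η0) (card_ty L D hrd η0) ⟨η0, b1, rfl⟩
  have hθ0 := a2 θ (hθ η0 b1 rfl)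
  have hall : ∀ ξ : X, η0 ⤳ ξ := by
    intro ξ
    obtain ⟨η, c1, c2, -⟩ := exists_max ξ
    obtain ⟨d1, d2⟩ := key η c2
    have h1 : θ ⤳ η := hθ η d1 (ty_congr L fun j hj => by rw [d2 j hj, b2 j hj])
    have h2 := c2 θ h1
    rw [← hθ0, h2]
    exact c1
  have h1 : closure {η0} = (Set.univ : Set X) := by
    ext ξ
    simp only [Set.mem_univ, iff_true]
    exact (hall ξ).mem_closure
  rw [irreducibleSpace_def]
  change IsIrreducible (Set.univ : Set X)
  rw [← h1]
  exact isIrreducible_singleton.closure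

end Dom

end K808.LV
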