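import Groth.Agent.W4c1limliniiii.K808.RamC
import Mathlib.RingTheory.DiscreteValuationRing.Basic
import Mathlib.RingTheory.LocalRing.ResidueField.Basic
import Mathlib.RingTheory.Valuation.ValuationRing

/-!
Pairs of polynomials over a discrete valuation ring of characteristic `p` with a coefficient field:
modification of a pair with inseparable reduction by a matrix of polynomials in `X ^ p`.
-/

set_option autoImplicit false

namespace K808.RamD

open Polynomial W4c1limliniiii K808.Ram K808.RamB K808.RamC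

section DVR

variable {A : Type*} [CommRing A] [IsDomain A] [IsDiscreteValuationRing A] {p : ℕ}

theorem map_wronskian {R S : Type*} [CommRing R] [CommRing S] (φ : R →+* S) (F G : R[X]) :
    (wronskian F G).map φ = wronskian (F.map φ) (G.map φ) := by
  simp only [wronskian, Polynomial.map_sub, Polynomial.map_mul, derivative_map]

theorem C_dvd_of_map_residue_eq_zero {ϖ : A} (hϖ : Irreducible ϖ) {Q : A[X]}
    (hQ : Q.map (IsLocalRing.residue A) = 0) : C ϖ ∣ Q := by
  rw [C_dvd_iff_dvd_coeff]
  intro i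
  have h : IsLocalRing.residue A (Q.coeff i) = 0 := by
    have := congrArg (fun q => q.coeff i) hQ
    simpa using this
  rw [IsLocalRing.residue_eq_zero_iff, hϖ.maximalIdeal_eq, Ideal.mem_span_singleton] at h
  exact h

theorem step [hp : Fact p.Prime] [CharP (IsLocalRing.ResidueField A) p] {ϖ : A}
    (hϖ : Irreducible ϖ) (ι : IsLocalRing.ResidueField A →+* A)
    (hι : (IsLocalRing.residue A).comp ι = RingHom.id _) {F G : A[X]}
    (hW : wronskian (F.map (IsLocalRing.residue A)) (G.map (IsLocalRing.residue A)) = 0) :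
    ∃ F' G' : A[X], Rel p ϖ F G F' G' := by
  obtain ⟨f, g, u, v, huv, hfg⟩ := exists_of_wronskian_eq_zero (p := p) hW
  set a := expand A p (f.map ι) with ha
  set b := expand A p (g.map ι) with hb
  set U := expand A p (u.map ι) with hU
  set V := expand A p (v.map ι) with hV
  have h1 : U * a + V * b = 1 := by
    rw [hU, ha, hV, hb, ← map_mul, ← map_mul, ← map_add, ← Polynomial.map_mul,
      ← Polynomial.map_mul, ← Polynomial.map_add, huv, Polynomial.map_one, map_one]
  have hred : ∀ q : (IsLocalRing.ResidueField A)[X],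
      (expand A p (q.map ι)).map (IsLocalRing.residue A) = expand _ p q := by
    intro q
    rw [map_expand, Polynomial.map_map, hι, Polynomial.map_id]
  have h2 : (a * G - b * F).map (IsLocalRing.residue A) = 0 := by
    rw [Polynomial.map_sub, Polynomial.map_mul, Polynomial.map_mul, ha, hb, hred, hred, hfg, sub_self]
  obtain ⟨G', hG'⟩ := C_dvd_of_map_residue_eq_zero hϖ h2
  refine ⟨U * F + V * G, G', a, -(V * C ϖ), b, U * C ϖ, ⟨_, rfl⟩,
    (RamB.Con.mul ⟨_, rfl⟩ (RamB.Con.C _)).neg, ⟨_, rfl⟩, RamB.Con.mul ⟨_, rfl⟩ (RamB.Con.C _),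
    ?_, ?_, ?_⟩
  · linear_combination (-F) * h1 - V * hG'
  · linear_combination (-G) * h1 + U * hG'
  · linear_combination C ϖ * h1

theorem exists_good [hp : Fact p.Prime] [CharP A p] [CharP (IsLocalRing.ResidueField A) p] {ϖ : A}
    (hϖ : Irreducible ϖ) (ι : IsLocalRing.ResidueField A →+* A)
    (hι : (IsLocalRing.residue A).comp ι = RingHom.id _) {F G : A[X]} (hW : wronskian F G ≠ 0) :
    ∃ (l : ℕ) (F' G' : A[X]), Rel p (ϖ ^ l) F G F' G' ∧
      wronskian (F'.map (IsLocalRing.residue A)) (G'.map (IsLocalRing.residue A)) ≠ 0 := by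
  by_contra hcon
  push Not at hcon
  have hall : ∀ l : ℕ, ∃ F' G' : A[X], Rel p (ϖ ^ l) F G F' G' := by
    intro l
    induction l with
    | zero => exact ⟨F, G, by rw [pow_zero]; exact Rel.refl⟩
    | succ l ih =>
      obtain ⟨F', G', h⟩ := ih
      obtain ⟨F'', G'', h'⟩ := step (p := p) hϖ ι hι (hcon l F' G' h)
      exact ⟨F'', G'', by rw [pow_succ]; exact h.trans h'⟩
  -- a non-zero coefficient is divisible by all powers
  obtain ⟨i, hi⟩ : ∃ i, (wronskian F G).coeff i ≠ 0 := by
    by_contra h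
    push Not at h
    exact hW (Polynomial.ext (by simpa using h))
  have hfin : FiniteMultiplicity ϖ ((wronskian F G).coeff i) :=
    FiniteMultiplicity.of_not_isUnit hϖ.not_isUnit hi
  obtain ⟨n, hn⟩ := hfin
  apply hn
  obtain ⟨F', G', h⟩ := hall (n + 1)
  rw [h.wronskian, coeff_C_mul]
  exact dvd_mul_right _ _

/-- Primitive multiples of vectors. -/
theorem exists_primitive {K : Type*} [Field K] [Algebra A K] [IsFractionRing A K] {x y : K}
    (hxy : x ≠ 0 ∨ y ≠ 0) :
    ∃ (c : K) (a b : A), c ≠ 0 ∧ c * x = algebraMap A K a ∧ c * y = algebraMap A K b ∧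
      (a = 1 ∨ b = 1) := by
  by_cases hx : x = 0
  · have hy : y ≠ 0 := by
      rcases hxy with h | h
      · exact absurd hx h
      · exact h
    exact ⟨y⁻¹, 0, 1, inv_ne_zero hy, by simp [hx], by simp [hy], Or.inr rfl⟩
  · by_cases hy : y = 0
    · exact ⟨x⁻¹, 1, 0, inv_ne_zero hx, by simp [hx], by simp [hy], Or.inl rfl⟩
    · rcases ValuationRing.isInteger_or_isInteger A (y / x) with ⟨b, hb⟩ | ⟨a, ha⟩
      · refine ⟨x⁻¹, 1, b, inv_ne_zero hx, by simp [hx], ?_, Or.inl rfl⟩
        rw [hb, div_eq_inv_mul]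
      · refine ⟨y⁻¹, a, 1, inv_ne_zero hy, ?_, by simp [hy], Or.inr rfl⟩
        rw [ha, inv_div, div_eq_inv_mul]

end DVR

section Generic

variable {K : Type*} [Field K]

theorem natDegree_X_mul_wronskian_le (F G : K[X]) (d : ℕ) (hd : 1 ≤ d) (hF : F.natDegree ≤ d)
    (hG : G.natDegree ≤ d) : (X * wronskian F G).natDegree ≤ 2 * d - 1 := by
  rw [natDegree_le_iff_coeff_eq_zero]
  intro N hN
  rw [coeff_X_mul_wronskian]
  refine Finset.sum_eq_zero fun x hx => ?_
  rw [Finset.mem_antidiagonal] at hx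
  by_cases h1 : d < x.1
  · rw [coeff_eq_zero_of_natDegree_lt (p := F) (by omega)]; simp
  by_cases h2 : d < x.2
  · rw [coeff_eq_zero_of_natDegree_lt (p := G) (by omega)]; simp
  have h3 : x.1 = x.2 := by omega
  rw [h3]; ring

theorem natDegree_wronskian_le (F G : K[X]) (d : ℕ) (hd : 1 ≤ d) (hF : F.natDegree ≤ d)
    (hG : G.natDegree ≤ d) : (wronskian F G).natDegree ≤ 2 * d - 2 := by
  by_cases h : wronskian F G = 0
  · rw [h]; simp
  · have := natDegree_X_mul_wronskian_le F G d hd hF hG
    rw [natDegree_mul X_ne_zero h, natDegree_X] at this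
    omega

/-- A member of a pencil vanishing to order `e` at `a` makes the Wronskian vanish to order
`e - 1`. -/
theorem pow_dvd_wronskian_of_combo {F G : K[X]} {a x y : K} {e : ℕ} (hxy : x ≠ 0 ∨ y ≠ 0)
    (hd : (X - C a) ^ e ∣ C x * F + C y * G) : (X - C a) ^ (e - 1) ∣ wronskian F G := by
  by_cases hy : y = 0
  · have hx : x ≠ 0 := by
      rcases hxy with h | h
      · exact h
      · exact absurd hy h
    subst hy
    have h1 := pow_sub_one_dvd_wronskian G hd
    have h2 : wronskian F G = C (-x⁻¹) * wronskian G (C x * F + C 0 * G) := by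
      simp only [wronskian, derivative_mul, derivative_C, map_neg, map_zero, zero_mul, add_zero]
      have : C x⁻¹ * C x = (1 : K[X]) := by rw [← map_mul, inv_mul_cancel₀ hx, map_one]
      linear_combination (-(F * derivative G - derivative F * G)) * this
    rw [h2]
    exact h1.mul_left _
  · have h1 := pow_sub_one_dvd_wronskian F hd
    have h2 : wronskian F G = C y⁻¹ * wronskian F (C x * F + C y * G) := by
      simp only [wronskian, derivative_mul, derivative_C, derivative_add]
      have : C y⁻¹ * C y = (1 : K[X]) := by rw [← map_mul, inv_mul_cancel₀ hy, map_one]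
      linear_combination (-(F * derivative G - derivative F * G)) * this
    rw [h2]
    exact h1.mul_left _

theorem prod_dvd_wronskian {F G : K[X]} {n : ℕ} {P : Fin n → K} (hP : Function.Injective P)
    {e : Fin n → ℕ} (h : ∀ i, (X - C (P i)) ^ (e i - 1) ∣ wronskian F G) :
    ∏ i, (X - C (P i)) ^ (e i - 1) ∣ wronskian F G := by
  refine Finset.prod_dvd_of_coprime ?_ fun i _ => h i
  intro i _ j _ hij
  exact (isCoprime_X_sub_C_of_isUnit_sub (sub_ne_zero.2 fun h => hij (hP h)).isUnit).pow

theorem natDegree_prod {R : Type*} [CommRing R] [Nontrivial R] {n : ℕ} (P : Fin n → R)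
    (e : Fin n → ℕ) :
    (∏ i, (X - C (P i)) ^ (e i - 1)).natDegree = ∑ i, (e i - 1) := by
  rw [natDegree_prod_of_monic _ _ fun i _ => (monic_X_sub_C _).pow _]
  refine Finset.sum_congr rfl fun i _ => ?_
  rw [(monic_X_sub_C _).natDegree_pow, natDegree_X_sub_C, mul_one]

theorem monic_prod {R : Type*} [CommRing R] {n : ℕ} (P : Fin n → R) (e : Fin n → ℕ) :
    (∏ i, (X - C (P i)) ^ (e i - 1)).Monic :=
  monic_prod_of_monic _ _ fun i _ => (monic_X_sub_C _).pow _

theorem not_dvd_prod {n : ℕ} {P : Fin n → K} (hP : Function.Injective P) {e : Fin n → ℕ}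
    (he : ∀ i, 1 ≤ e i) (i : Fin n) :
    ¬ (X - C (P i)) ^ e i ∣ ∏ j, (X - C (P j)) ^ (e j - 1) := by
  rw [← Finset.mul_prod_erase _ _ (Finset.mem_univ i)]
  obtain ⟨m, hm⟩ : ∃ m, e i = m + 1 := ⟨e i - 1, by have := he i; omega⟩
  rw [hm, Nat.add_sub_cancel, pow_succ]
  intro h
  have h1 := (mul_dvd_mul_iff_left (pow_ne_zero m (X_sub_C_ne_zero (P i)))).1 h
  rw [dvd_iff_isRoot, IsRoot.def, eval_prod, Finset.prod_eq_zero_iff] at h1
  obtain ⟨j, hj, hj0⟩ := h1
  rw [eval_pow] at hj0
  have : eval (P i) (X - C (P j)) = 0 := by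
    by_contra hne
    exact pow_ne_zero _ hne hj0
  rw [eval_sub, eval_X, eval_C, sub_eq_zero] at this
  exact (Finset.ne_of_mem_erase hj) (hP this).symm

end Generic

end K808.RamD
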