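import Groth.Prelude.Def_W4c1limliniiiiRamP1
import Mathlib.Algebra.Polynomial.FieldDivision
import Mathlib.Algebra.Polynomial.Roots
import Mathlib.Algebra.Polynomial.Eval.SMul
import Mathlib.LinearAlgebra.FiniteDimensional.Lemmas
import Mathlib.Tactic

/-!
Wronskians of pencils of polynomials: transformation under matrices of constants for the derivation,
order of vanishing at a point, and the local structure of a base-point-free pencil.
-/

set_option autoImplicit false

namespace K808.Ram

open Polynomial W4c1limliniiii

section Ring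

variable {R : Type*} [CommRing R]

/-- The Wronskian of two combinations with coefficients killed by the derivation. -/
theorem wronskian_combo {a b c e : R[X]} (F G : R[X]) (ha : derivative a = 0)
    (hb : derivative b = 0) (hc : derivative c = 0) (he : derivative e = 0) :
    wronskian (a * F + b * G) (c * F + e * G) = (a * e - b * c) * wronskian F G := by
  simp only [wronskian, derivative_add, derivative_mul, ha, hb, hc, he]
  ring

theorem wronskian_smul_combo (a b c e : R) (F G : R[X]) :
    wronskian (a • F + b • G) (c • F + e • G) = (a * e - b * c) • wronskian F G := by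
  have := wronskian_combo (a := C a) (b := C b) (c := C c) (e := C e) F G derivative_C derivative_C
    derivative_C derivative_C
  simp only [smul_eq_C_mul, this, map_sub, map_mul]

/-- Order of vanishing of a Wronskian: the expansion at a point. -/
theorem wronskian_mul_pow (a : R) (m : ℕ) (s q : R[X]) :
    wronskian s ((X - C a) ^ (m + 1) * q) =
      (X - C a) ^ m * (C ((m + 1 : ℕ) : R) * s * q + (X - C a) * wronskian s q) := by
  simp only [wronskian, derivative_mul, derivative_X_sub_C_pow, Nat.add_sub_cancel]
  simp only [map_natCast]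
  ring

theorem pow_dvd_wronskian {a : R} {m : ℕ} (s : R[X]) {t : R[X]} (h : (X - C a) ^ (m + 1) ∣ t) :
    (X - C a) ^ m ∣ wronskian s t := by
  obtain ⟨q, rfl⟩ := h
  rw [wronskian_mul_pow]
  exact dvd_mul_right _ _

theorem pow_sub_one_dvd_wronskian {a : R} {m : ℕ} (s : R[X]) {t : R[X]} (h : (X - C a) ^ m ∣ t) :
    (X - C a) ^ (m - 1) ∣ wronskian s t := by
  rcases m with _ | m
  · simp
  · exact pow_dvd_wronskian s h

end Ring

variable {k : Type*} [Field k]

/-- The order of vanishing at `a` of the Wronskian of `s` and `t` when `s a ≠ 0` and `t` vanishes to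
order exactly `m + 1`, prime to the characteristic. -/
theorem rootMultiplicity_wronskian {a : k} {m : ℕ} {s t : k[X]} (hs : s.eval a ≠ 0) (ht : t ≠ 0)
    (hm : t.rootMultiplicity a = m + 1) (hmk : ((m + 1 : ℕ) : k) ≠ 0) :
    (wronskian s t).rootMultiplicity a = m ∧ wronskian s t ≠ 0 := by
  obtain ⟨q, hq, hqa⟩ := exists_eq_pow_rootMultiplicity_mul_and_not_dvd t ht a
  rw [hm] at hq
  rw [dvd_iff_isRoot, IsRoot.def] at hqa
  set u := C ((m + 1 : ℕ) : k) * s * q + (X - C a) * wronskian s q with hu
  have hua : u.eval a ≠ 0 := by
    rw [hu]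
    simp only [eval_add, eval_mul, eval_C, eval_sub, eval_X, sub_self, zero_mul, add_zero]
    exact mul_ne_zero (mul_ne_zero hmk hs) hqa
  have hu0 : u ≠ 0 := by
    rintro h; rw [h] at hua; simp at hua
  have hW : wronskian s t = (X - C a) ^ m * u := by
    rw [hq, wronskian_mul_pow]
  have hW0 : wronskian s t ≠ 0 := by
    rw [hW]
    exact mul_ne_zero (pow_ne_zero _ (X_sub_C_ne_zero a)) hu0
  refine ⟨?_, hW0⟩
  rw [hW, rootMultiplicity_mul (by rw [← hW]; exact hW0), rootMultiplicity_X_sub_C_pow,
    rootMultiplicity_eq_zero hua, add_zero]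

/-- If `t` vanishes at `a` to order `m + 1` divisible by the characteristic, then the Wronskian with
any `s` vanishes there to order at least `m + 1`. -/
theorem pow_dvd_wronskian_of_dvd {a : k} {m : ℕ} (s : k[X]) {t : k[X]}
    (h : (X - C a) ^ (m + 1) ∣ t) (hmk : ((m + 1 : ℕ) : k) = 0) :
    (X - C a) ^ (m + 1) ∣ wronskian s t := by
  obtain ⟨q, rfl⟩ := h
  rw [wronskian_mul_pow, hmk, map_zero, zero_mul, zero_mul, zero_add, ← mul_assoc, ← pow_succ]
  exact dvd_mul_right _ _

/-- A two-dimensional space spanned by `F` and `G`: another pair of independent members spans it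
too, and the Wronskians are proportional. -/
theorem exists_wronskian_eq_smul {F G s t : k[X]} (hs : s ∈ Submodule.span k {F, G})
    (ht : t ∈ Submodule.span k {F, G}) : ∃ c : k, wronskian s t = c • wronskian F G := by
  obtain ⟨a, b, rfl⟩ := Submodule.mem_span_pair.1 hs
  obtain ⟨c, e, rfl⟩ := Submodule.mem_span_pair.1 ht
  exact ⟨_, wronskian_smul_combo a b c e F G⟩

/-- If `s` and `t` are members of a space `V` of dimension two and are linearly independent then they
span it. -/
theorem span_pair_eq {V : Submodule k k[X]} (hV : Module.finrank k V = 2) {s t : k[X]} (hs : s ∈ V)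
    (ht : t ∈ V) (hst : LinearIndependent k ![s, t]) : Submodule.span k {s, t} = V := by
  have : FiniteDimensional k V := Module.finite_of_finrank_eq_succ hV
  have hle : Submodule.span k {s, t} ≤ V := by
    rw [Submodule.span_le]
    rintro x (rfl | rfl)
    · exact hs
    · exact ht
  refine Submodule.eq_of_le_of_finrank_eq hle ?_
  rw [hV]
  have := finrank_span_eq_card hst
  rw [Matrix.range_cons, Matrix.range_cons, Matrix.range_empty, Set.union_empty,
    Set.singleton_union] at this
  simpa using this

theorem linearIndependent_of_eval {a : k} {s t : k[X]} (hs : s.eval a ≠ 0) (ht : t ≠ 0)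
    (hta : t.eval a = 0) : LinearIndependent k ![s, t] := by
  rw [LinearIndependent.pair_iff]
  intro x y hxy
  have h := congrArg (fun q => q.eval a) hxy
  simp only [eval_add, eval_smul, hta, smul_eq_mul, mul_zero, add_zero, eval_zero] at h
  have hx : x = 0 := by
    rcases mul_eq_zero.1 h with h | h
    · exact h
    · exact absurd h hs
  subst hx
  refine ⟨rfl, ?_⟩
  simpa [ht] using hxy

/-- In a space of dimension two without base point at `a` there is a non-zero member vanishing
at `a`. -/
theorem exists_member_vanishing {V : Submodule k k[X]} (hV : Module.finrank k V = 2) (a : k) :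
    ∃ t ∈ V, t ≠ 0 ∧ t.eval a = 0 := by
  have : FiniteDimensional k V := Module.finite_of_finrank_eq_succ hV
  let φ : V →ₗ[k] k := (Polynomial.leval a).domRestrict V
  have h1 := LinearMap.finrank_range_add_finrank_ker φ
  have h2 : Module.finrank k (LinearMap.range φ) ≤ 1 := by
    simpa using Submodule.finrank_le (LinearMap.range φ)
  have h3 : LinearMap.ker φ ≠ ⊥ := by
    intro h
    rw [h, finrank_bot] at h1
    omega
  obtain ⟨x, hx, hx0⟩ := (Submodule.ne_bot_iff _).1 h3
  refine ⟨x.1, x.2, ?_, ?_⟩
  · simpa using hx0
  · simpa [φ] using hx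

/-- The local structure of a two-dimensional space of polynomials at a point which is not a base
point: orders of vanishing `0` and `m`. -/
theorem rootMultiplicity_of_mem {s t : k[X]} {a : k} (hs : s.eval a ≠ 0)
    (hta : t.eval a = 0) {x : k[X]} (hx : x ∈ Submodule.span k {s, t}) (hx0 : x ≠ 0) :
    x.rootMultiplicity a ≤ t.rootMultiplicity a := by
  obtain ⟨b, c, rfl⟩ := Submodule.mem_span_pair.1 hx
  by_cases hb : b = 0
  · subst hb
    have hc : c ≠ 0 := by rintro rfl; simp at hx0
    simp only [zero_smul, zero_add]
    rw [smul_eq_C_mul, rootMultiplicity_mul (by rw [← smul_eq_C_mul]; simpa using hx0),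
      rootMultiplicity_C, zero_add]
  · rw [rootMultiplicity_eq_zero]
    · exact Nat.zero_le _
    · rw [IsRoot.def]
      simp only [eval_add, eval_smul, hta, smul_eq_mul, mul_zero, add_zero]
      exact mul_ne_zero hb hs

end K808.Ram
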