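import Groth.Agent.W4c1limliniiii.K808.LT
import Groth.Prelude.Def_W4c1limliniiiiLG
import Mathlib.Topology.Sober
import Mathlib.AlgebraicGeometry.Properties

/-!
Linked Grassmannians: maximal points, components, and the translation of the hypotheses.
-/

set_option autoImplicit false

universe u

open AlgebraicGeometry CategoryTheory

namespace K808.LA

open K808.LC K808.LN K808.LD K808.LR K808.LS K808.LP K808.LE K808.LT K808.LB

section Top

variable {X : Type*} [TopologicalSpace X] [QuasiSober X] [T0Space X]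

/-- The generic point of an irreducible component is a maximal point. -/
theorem max_of_component {Z : Set X} (hZ : Z ∈ irreducibleComponents X) :
    ∃ η : X, closure {η} = Z ∧ ∀ ξ' : X, ξ' ⤳ η → ξ' = η := by
  have hc := isClosed_of_mem_irreducibleComponents Z hZ
  obtain ⟨η, hη⟩ := QuasiSober.sober hZ.1 hc
  refine ⟨η, hη, fun ξ' h => ?_⟩
  have h1 : Z ⊆ closure {ξ'} := by
    rw [← hη]
    exact isClosed_closure.closure_subset_iff.2 (by
      rintro _ rfl
      exact h.mem_closure)
  have h2 : closure {ξ'} ⊆ Z := hZ.2 isIrreducible_singleton.closure h1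
  have h3 : IsGenericPoint ξ' Z := Set.Subset.antisymm h2 h1
  exact h3.eq hη

/-- Every point is a specialization of a maximal point. -/
theorem exists_max (ξ : X) : ∃ η : X, η ⤳ ξ ∧ (∀ ξ' : X, ξ' ⤳ η → ξ' = η) ∧
    closure {η} ∈ irreducibleComponents X := by
  obtain ⟨η, h1, h2⟩ := max_of_component (irreducibleComponent_mem_irreducibleComponents ξ)
  refine ⟨η, ?_, h2, ?_⟩
  · rw [specializes_iff_mem_closure, h1]
    exact mem_irreducibleComponent
  · rw [h1]
    exact irreducibleComponent_mem_irreducibleComponents ξ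

end Top

section Exact

variable {K : Type*} [Field K] {d r n : ℕ}

/-- Exactness of a chain over a field in terms of ranks. -/
theorem exact_iff {Φ Ψ : Module.End K (Fin d → K)} {s : K} (h1 : Φ.comp Ψ = s • LinearMap.id)
    (h2 : Ψ.comp Φ = s • LinearMap.id) {V V' : Submodule K (Fin d → K)}
    (hV : Module.finrank K V = r) (hV' : Module.finrank K V' = r)
    (hF : V.map Φ ≤ V') (hG : V'.map Ψ ≤ V) :
    (LinearMap.ker Ψ ⊓ V' ≤ V.map Φ ∧ LinearMap.ker Φ ⊓ V ≤ V'.map Ψ) ↔
      r ≤ Module.finrank K (V.map Φ) + Module.finrank K (V'.map Ψ) := by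
  have e1 := finrank_map_add_finrank_ker_inf Φ V
  have e2 := finrank_map_add_finrank_ker_inf Ψ V'
  rw [hV] at e1
  rw [hV'] at e2
  by_cases hs : s = 0
  · subst hs
    rw [zero_smul] at h1 h2
    have i1 : V.map Φ ≤ LinearMap.ker Ψ ⊓ V' := by
      refine le_inf ?_ hF
      rintro _ ⟨x, -, rfl⟩
      exact LinearMap.congr_fun h2 x
    have i2 : V'.map Ψ ≤ LinearMap.ker Φ ⊓ V := by
      refine le_inf ?_ hG
      rintro _ ⟨x, -, rfl⟩
      exact LinearMap.congr_fun h1 x
    have j1 := Submodule.finrank_mono i1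
    have j2 := Submodule.finrank_mono i2
    constructor
    · rintro ⟨-, k2⟩
      have := Submodule.finrank_mono k2
      omega
    · intro h
      exact ⟨(Submodule.eq_of_le_of_finrank_eq i1 (by omega)).ge,
        (Submodule.eq_of_le_of_finrank_eq i2 (by omega)).ge⟩
  · have key : ∀ (φ ψ : Module.End K (Fin d → K)), φ.comp ψ = s • LinearMap.id →
        LinearMap.ker ψ = ⊥ := by
      intro φ ψ h
      rw [LinearMap.ker_eq_bot']
      intro x hx
      have h1 := LinearMap.congr_fun h x
      rw [LinearMap.comp_apply, hx, map_zero, LinearMap.smul_apply, LinearMap.id_apply] at h1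
      exact (smul_eq_zero.1 h1.symm).resolve_left hs
    rw [key _ _ h2, bot_inf_eq, finrank_bot, add_zero] at e1
    rw [key _ _ h1, bot_inf_eq, finrank_bot, add_zero] at e2
    rw [key _ _ h1, key _ _ h2, bot_inf_eq, bot_inf_eq]
    exact ⟨fun _ => by omega, fun _ => ⟨bot_le, bot_le⟩⟩

end Exact

section Conv

variable {R : Type u} [CommRing R] {d r n : ℕ} {f g : Fin n → ((Fin d → R) →ₗ[R] (Fin d → R))}
variable {X : Over (Spec (CommRingCat.of R))}
  (e : ∀ A : CommAlgCat.{u} R,
      (Over.mk (Spec.map (CommRingCat.ofHom (algebraMap R A))) ⟶ X) ≃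
        W4c1limliniiii.LGPoints R d r n f g A)
  (he : ∀ (A B : CommAlgCat.{u} R) (φ : A ⟶ B)
      (x : Over.mk (Spec.map (CommRingCat.ofHom (algebraMap R A))) ⟶ X)
      (x' : Over.mk (Spec.map (CommRingCat.ofHom (algebraMap R B))) ⟶ X),
      x'.left = Spec.map (CommRingCat.ofHom φ.hom.toRingHom) ≫ x.left →
        ∀ i, (e B x').1 i = Module.Grassmannian.map φ.hom ((e A x).1 i))

/-- The coordinates of the universal bijection. -/
noncomputable def eC (A : CommAlgCat.{u} R) :
    (Over.mk (Spec.map (CommRingCat.ofHom (algebraMap R A))) ⟶ X) ≃ CPoints R d r n f g A :=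
  (e A).trans ptsEquiv

include he in
theorem heC (A B : CommAlgCat.{u} R) (φ : A ⟶ B)
    (x : Over.mk (Spec.map (CommRingCat.ofHom (algebraMap R A))) ⟶ X)
    (x' : Over.mk (Spec.map (CommRingCat.ofHom (algebraMap R B))) ⟶ X)
    (hx : x'.left = Spec.map (CommRingCat.ofHom φ.hom.toRingHom) ≫ x.left) (i : Fin (n + 1)) :
    ((eC e B x').1 i).toSubmodule = LC.ext φ.hom.toRingHom ((eC e A x).1 i).toSubmodule := by
  have h1 := he A B φ x x' hx i
  change (toC ((e B x').1 i)).toSubmodule = LC.ext _ (toC ((e A x).1 i)).toSubmodule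
  rw [h1, toC_map]
  rfl

/-- The representation attached to a universal bijection. -/
noncomputable def mkL : LRep R d r n (fz f) (fz g) X.left X.hom := ofRep (eC e) (heC e he)

theorem mkL_ch (A : CommAlgCat.{u} R)
    (x : Over.mk (Spec.map (CommRingCat.ofHom (algebraMap R A))) ⟶ X) {j : ℕ} (hj : j < n + 1) :
    (mkL e he).ch (A := A) x.left j = ((eC e A x).1 ⟨j, hj⟩).toSubmodule :=
  chd_spec (eC e) (heC e he) A x hj

end Conv

section FieldBase

variable {k : Type u} [Field k] {d r n : ℕ} {f g : Fin n → ((Fin d → k) →ₗ[k] (Fin d → k))}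
variable {s : k}

/-- The conditions over a field hold over all extensions. -/
theorem lgd_of_field
    (hI : ∀ i, (f i).comp (g i) = s • LinearMap.id ∧ (g i).comp (f i) = s • LinearMap.id)
    (hII : ∀ i, d ≤ Module.finrank k (LinearMap.range (f i)) + Module.finrank k (LinearMap.range (g i)))
    (hIII : ∀ i j : Fin n, i.val + 1 = j.val →
      LinearMap.range (f i) ⊓ LinearMap.ker (f j) = ⊥ ∧
        LinearMap.range (g j) ⊓ LinearMap.ker (g i) = ⊥) :
    LGd k d n (fz f) (fz g) s where
  hFG := fun i hi => by rw [fz_lt f hi, fz_lt g hi]; exact (hI _).1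
  hGF := fun i hi => by rw [fz_lt f hi, fz_lt g hi]; exact (hI _).2
  hII := fun K _ ρ i hi => by
    rw [fz_lt f hi, fz_lt g hi, finrank_range_lext, finrank_range_lext]
    exact hII _
  hIIIF := fun K _ ρ i hi => by
    rw [fz_lt f hi, fz_lt f (by omega : i < n), range_lext]
    exact inf_ker_lext ρ _ _ (hIII ⟨i, by omega⟩ ⟨i + 1, hi⟩ rfl).1
  hIIIG := fun K _ ρ i hi => by
    rw [fz_lt g hi, fz_lt g (by omega : i < n), range_lext]
    exact inf_ker_lext ρ _ _ (hIII ⟨i, by omega⟩ ⟨i + 1, hi⟩ rfl).2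

variable {X : Over (Spec (CommRingCat.of k))}
  (e : ∀ A : CommAlgCat.{u} k,
      (Over.mk (Spec.map (CommRingCat.ofHom (algebraMap k A))) ⟶ X) ≃
        W4c1limliniiii.LGPoints k d r n f g A)
  (he : ∀ (A B : CommAlgCat.{u} k) (φ : A ⟶ B)
      (x : Over.mk (Spec.map (CommRingCat.ofHom (algebraMap k A))) ⟶ X)
      (x' : Over.mk (Spec.map (CommRingCat.ofHom (algebraMap k B))) ⟶ X),
      x'.left = Spec.map (CommRingCat.ofHom φ.hom.toRingHom) ≫ x.left →
        ∀ i, (e B x').1 i = Module.Grassmannian.map φ.hom ((e A x).1 i))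

/-- Exactness of a rational point. -/
theorem isExact_iff_Ex (hrd : r ≤ d) (D : LGd k d n (fz f) (fz g) s)
    (x : Over.mk (Spec.map (CommRingCat.ofHom (algebraMap k (CommAlgCat.of k k)))) ⟶ X) :
    W4c1limliniiii.IsExact k d r n f g (CommAlgCat.of k k) (e (CommAlgCat.of k k) x).1 ↔
      Ex (mkL e he) ((x.left : Spec (CommRingCat.of k) ⟶ X.left) (IsLocalRing.closedPoint k)) := by
  have hrh : rh X.hom (A := k) x.left = algebraMap k k := by
    rw [rh_eq_iff]
    exact Over.w x
  have h1 : W4c1limliniiii.IsExact k d r n f g (CommAlgCat.of k k) (e (CommAlgCat.of k k) x).1 ↔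
      CExact k d r n f g (CommAlgCat.of k k) (eC e (CommAlgCat.of k k) x).1 := isExact_iff _
  rw [h1]
  have h2 : ∀ j < n, (LinearMap.ker (lext (algebraMap k k) (fz g j)) ⊓
      (mkL e he).ch (A := k) x.left (j + 1) ≤
        ((mkL e he).ch (A := k) x.left j).map (lext (algebraMap k k) (fz f j)) ∧
      LinearMap.ker (lext (algebraMap k k) (fz f j)) ⊓ (mkL e he).ch (A := k) x.left j ≤
        ((mkL e he).ch (A := k) x.left (j + 1)).map (lext (algebraMap k k) (fz g j))) ↔
      r ≤ ptF (mkL e he) ((x.left : Spec (CommRingCat.of k) ⟶ X.left) (IsLocalRing.closedPoint k)) j +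
        ptG (mkL e he) ((x.left : Spec (CommRingCat.of k) ⟶ X.left) (IsLocalRing.closedPoint k)) j := by
    intro j hj
    have h3 := (mkL e he).fwd (A := k) x.left j hj
    have h4 := (mkL e he).bwd (A := k) x.left j hj
    rw [hrh] at h3 h4
    rw [exact_iff (r := r) (D.lFG (algebraMap k k) hj) (D.lGF (algebraMap k k) hj)
      ((nice_iff_finrank hrd _).1 ((mkL e he).nice (A := k) x.left j hj.le))
      ((nice_iff_finrank hrd _).1 ((mkL e he).nice (A := k) x.left (j + 1) hj)) h3 h4]
    rw [← rkF_eq (mkL e he) (K := k) x.left hj.le, ← rkG_eq (mkL e he) (K := k) x.left hj, rkF, rkG, hrh]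
  constructor
  · intro h j hj
    rw [← h2 j hj]
    have h5 := h ⟨j, hj⟩
    rw [mkL_ch e he (CommAlgCat.of k k) x (by omega : j < n + 1),
      mkL_ch e he (CommAlgCat.of k k) x (by omega : j + 1 < n + 1), fz_lt f hj, fz_lt g hj]
    exact h5
  · intro h i
    have h5 := (h2 i i.2).2 (h i i.2)
    rw [mkL_ch e he (CommAlgCat.of k k) x (by omega : (i : ℕ) < n + 1),
      mkL_ch e he (CommAlgCat.of k k) x (by omega : (i : ℕ) + 1 < n + 1), fz_lt f i.2,
      fz_lt g i.2] at h5
    exact h5

/-- The image of a rational point. -/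
theorem range_eq_singleton
    (x : Over.mk (Spec.map (CommRingCat.ofHom (algebraMap k (CommAlgCat.of k k)))) ⟶ X) :
    Set.range x.left.base =
      {(x.left : Spec (CommRingCat.of k) ⟶ X.left) (IsLocalRing.closedPoint k)} := by
  ext y
  constructor
  · rintro ⟨z, rfl⟩
    have : z = IsLocalRing.closedPoint k := Subsingleton.elim (α := PrimeSpectrum k) _ _
    rw [this]
    rfl
  · rintro rfl
    exact ⟨IsLocalRing.closedPoint k, rfl⟩

end FieldBase

end K808.LA
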