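import Mathlib.LinearAlgebra.Matrix.ToLin
import Mathlib.LinearAlgebra.Matrix.Nondegenerate
import Mathlib.LinearAlgebra.FiniteDimensional.Lemmas
import Mathlib.LinearAlgebra.Basis.VectorSpace
import Mathlib.LinearAlgebra.Dimension.RankNullity
import Mathlib.Tactic

/-!
Coordinates: submodules of `A^ι`, their extensions along ring maps, ranks over fields.
-/

set_option autoImplicit false

universe u v w

namespace K808.LC

section Ext

variable {ι : Type*} {A B C : Type*} [CommRing A] [CommRing B] [CommRing C]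

/-- Coordinatewise application of a ring map. -/
def sc (φ : A →+* B) (x : ι → A) : ι → B := fun i => φ (x i)

@[simp] theorem sc_apply (φ : A →+* B) (x : ι → A) (i : ι) : sc φ x i = φ (x i) := rfl

theorem sc_add (φ : A →+* B) (x y : ι → A) : sc φ (x + y) = sc φ x + sc φ y := by
  ext i; simp

theorem sc_zero (φ : A →+* B) : sc φ (0 : ι → A) = 0 := by
  ext i; simp

theorem sc_smul (φ : A →+* B) (a : A) (x : ι → A) : sc φ (a • x) = φ a • sc φ x := by
  ext i; simp

theorem sc_sub (φ : A →+* B) (x y : ι → A) : sc φ (x - y) = sc φ x - sc φ y := by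
  ext i; simp

theorem sc_sum (φ : A →+* B) {κ : Type*} (s : Finset κ) (x : κ → ι → A) :
    sc φ (∑ j ∈ s, x j) = ∑ j ∈ s, sc φ (x j) := by
  ext i; simp [Finset.sum_apply]

theorem sc_comp (φ : A →+* B) (ψ : B →+* C) (x : ι → A) : sc (ψ.comp φ) x = sc ψ (sc φ x) := rfl

theorem sc_id (x : ι → A) : sc (RingHom.id A) x = x := rfl

theorem sc_injective {φ : A →+* B} (hφ : Function.Injective φ) :
    Function.Injective (sc (ι := ι) φ) := by
  intro x y h
  ext i
  exact hφ (congrFun h i)

theorem sc_surjective {φ : A →+* B} (hφ : Function.Surjective φ) :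
    Function.Surjective (sc (ι := ι) φ) := by
  intro y
  choose x hx using fun i => hφ (y i)
  exact ⟨x, by ext i; exact hx i⟩

/-- The submodule generated by the image. -/
def ext (φ : A →+* B) (N : Submodule A (ι → A)) : Submodule B (ι → B) :=
  Submodule.span B (sc φ '' (N : Set (ι → A)))

theorem sc_mem_ext (φ : A →+* B) {N : Submodule A (ι → A)} {x : ι → A} (hx : x ∈ N) :
    sc φ x ∈ ext φ N := Submodule.subset_span ⟨x, hx, rfl⟩

theorem ext_le_iff (φ : A →+* B) {N : Submodule A (ι → A)} {N' : Submodule B (ι → B)} :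
    ext φ N ≤ N' ↔ ∀ x ∈ N, sc φ x ∈ N' := by
  rw [ext, Submodule.span_le]
  constructor
  · intro h x hx
    exact h ⟨x, hx, rfl⟩
  · rintro h _ ⟨x, hx, rfl⟩
    exact h x hx

theorem ext_mono (φ : A →+* B) {N N' : Submodule A (ι → A)} (h : N ≤ N') : ext φ N ≤ ext φ N' :=
  Submodule.span_mono (Set.image_mono h)

theorem ext_span (φ : A →+* B) (S : Set (ι → A)) :
    ext φ (Submodule.span A S) = Submodule.span B (sc φ '' S) := by
  apply le_antisymm
  · rw [ext_le_iff]
    intro x hx
    induction hx using Submodule.span_induction with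
    | mem x hx => exact Submodule.subset_span ⟨x, hx, rfl⟩
    | zero => rw [sc_zero]; exact zero_mem _
    | add x y _ _ hx hy => rw [sc_add]; exact add_mem hx hy
    | smul a x _ hx => rw [sc_smul]; exact Submodule.smul_mem _ _ hx
  · rw [Submodule.span_le]
    rintro _ ⟨x, hx, rfl⟩
    exact sc_mem_ext φ (Submodule.subset_span hx)

theorem ext_span_range (φ : A →+* B) {κ : Type*} (x : κ → ι → A) :
    ext φ (Submodule.span A (Set.range x)) = Submodule.span B (Set.range fun i => sc φ (x i)) := by
  rw [ext_span, ← Set.range_comp]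
  rfl

theorem ext_comp (φ : A →+* B) (ψ : B →+* C) (N : Submodule A (ι → A)) :
    ext (ψ.comp φ) N = ext ψ (ext φ N) := by
  have h : ext ψ (ext φ N) = Submodule.span C (sc ψ '' (sc φ '' (N : Set (ι → A)))) :=
    ext_span ψ _
  rw [h, ext, ← Set.image_comp]
  rfl

theorem ext_id (N : Submodule A (ι → A)) : ext (RingHom.id A) N = N := by
  rw [ext]
  have : (sc (ι := ι) (RingHom.id A)) '' (N : Set (ι → A)) = N := by
    have : (sc (ι := ι) (RingHom.id A)) = id := by
      ext x; rfl
    rw [this, Set.image_id]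
  rw [this, Submodule.span_eq]

theorem ext_sup (φ : A →+* B) (N N' : Submodule A (ι → A)) : ext φ (N ⊔ N') = ext φ N ⊔ ext φ N' := by
  have h : N ⊔ N' = Submodule.span A ((N : Set (ι → A)) ∪ N') := by
    rw [Submodule.span_union, Submodule.span_eq, Submodule.span_eq]
  rw [h, ext_span, Set.image_union, Submodule.span_union]
  rfl

theorem exists_of_mem_ext {φ : A →+* B} (hφ : Function.Surjective φ)
    {N : Submodule A (ι → A)} {y : ι → B} (hy : y ∈ ext φ N) : ∃ x ∈ N, sc φ x = y := by
  rw [ext] at hy
  induction hy using Submodule.span_induction with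
  | mem y hy => obtain ⟨x, hx, rfl⟩ := hy; exact ⟨x, hx, rfl⟩
  | zero => exact ⟨0, zero_mem _, sc_zero _⟩
  | add y z _ _ hy hz =>
    obtain ⟨x, hx, rfl⟩ := hy; obtain ⟨x', hx', rfl⟩ := hz
    exact ⟨x + x', add_mem hx hx', sc_add _ _ _⟩
  | smul b y _ hy =>
    obtain ⟨x, hx, rfl⟩ := hy
    obtain ⟨a, rfl⟩ := hφ b
    exact ⟨a • x, Submodule.smul_mem _ _ hx, sc_smul φ a x⟩

end Ext

section Act

variable {ι : Type*} [Fintype ι] [DecidableEq ι]
variable {R : Type*} [CommRing R]

/-- The `A`-linear endomorphism of `A^ι` given by an `R`-linear endomorphism of `R^ι`. -/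
noncomputable def act (A : Type*) [CommRing A] [Algebra R A] (h : (ι → R) →ₗ[R] (ι → R)) :
    (ι → A) →ₗ[A] (ι → A) :=
  ((LinearMap.toMatrix' h).map (algebraMap R A)).mulVecLin

variable {A B : Type*} [CommRing A] [Algebra R A] [CommRing B] [Algebra R B]

theorem act_comp (h h' : (ι → R) →ₗ[R] (ι → R)) :
    act A (h.comp h') = (act A h).comp (act A h') := by
  rw [act, act, act, LinearMap.toMatrix'_comp, Matrix.map_mul, Matrix.mulVecLin_mul]

theorem act_smul_id (s : R) : act A (s • (LinearMap.id : (ι → R) →ₗ[R] (ι → R))) =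
    algebraMap R A s • LinearMap.id := by
  ext i j
  rw [act, map_smul, LinearMap.toMatrix'_id]
  simp only [Matrix.mulVec, dotProduct, Pi.single_apply, Matrix.one_apply, LinearMap.comp_apply,
    Matrix.mulVecLin_apply, LinearMap.single_apply, Matrix.map_apply, Matrix.smul_apply,
    smul_eq_mul, mul_ite, mul_one, mul_zero, Finset.sum_ite_eq', Finset.mem_univ, if_true,
    LinearMap.smul_apply, LinearMap.id_apply, Pi.smul_apply]
  by_cases h : j = i
  · subst h; simp
  · have h' : i ≠ j := fun h2 => h h2.symm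
    simp [h, h']

theorem act_sc (φ : A →ₐ[R] B) (h : (ι → R) →ₗ[R] (ι → R)) (x : ι → A) :
    act B h (sc (φ : A →+* B) x) = sc (φ : A →+* B) (act A h x) := by
  ext i
  rw [act, act, sc_apply, Matrix.mulVecLin_apply, Matrix.mulVecLin_apply, RingHom.map_mulVec]
  congr 1
  rw [Matrix.map_map]
  congr 1
  ext r
  simp

theorem map_ext (φ : A →ₐ[R] B) (h : (ι → R) →ₗ[R] (ι → R)) (N : Submodule A (ι → A)) :
    (ext (φ : A →+* B) N).map (act B h) = ext (φ : A →+* B) (N.map (act A h)) := by
  rw [ext, Submodule.map_span, ext]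
  congr 1
  ext y
  constructor
  · rintro ⟨_, ⟨x, hx, rfl⟩, rfl⟩
    exact ⟨act A h x, ⟨x, hx, rfl⟩, (act_sc φ h x).symm⟩
  · rintro ⟨_, ⟨x, hx, rfl⟩, rfl⟩
    exact ⟨sc φ x, ⟨x, hx, rfl⟩, act_sc φ h x⟩

end Act

section Rank

/-- Non-vanishing of a determinant of values of functionals gives linear independence. -/
theorem linearIndependent_of_det {K V ι : Type*} [Field K] [AddCommGroup V] [Module K V] [Fintype ι]
    [DecidableEq ι] (l : V →ₗ[K] (ι → K)) (x : ι → V)
    (h : (Matrix.of fun i j => l (x j) i).det ≠ 0) : LinearIndependent K x := by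
  rw [Fintype.linearIndependent_iff]
  intro c hc
  have h1 : (Matrix.of fun i j => l (x j) i).mulVec c = 0 := by
    ext i
    have h2 := congrFun (congrArg l hc) i
    rw [map_sum, Finset.sum_apply] at h2
    simp only [map_smul, Pi.smul_apply, smul_eq_mul, map_zero, Pi.zero_apply] at h2
    rw [Matrix.mulVec, dotProduct, Pi.zero_apply, ← h2]
    refine Finset.sum_congr rfl fun j _ => ?_
    rw [Matrix.of_apply, mul_comm]
  have h3 := Matrix.eq_zero_of_mulVec_eq_zero h h1
  intro i
  rw [h3]; rfl

theorem exists_functional {K V ι : Type*} [Field K] [AddCommGroup V] [Module K V] [Fintype ι]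
    [DecidableEq ι] {x : ι → V} (hx : LinearIndependent K x) :
    ∃ l : V →ₗ[K] (ι → K), ∀ i, l (x i) = Pi.single i 1 := by
  have h1 : LinearMap.ker (Fintype.linearCombination K x) = ⊥ :=
    LinearMap.ker_eq_bot.2 hx.fintypeLinearCombination_injective
  obtain ⟨l, hl⟩ := (Fintype.linearCombination K x).exists_leftInverse_of_injective h1
  refine ⟨l, fun i => ?_⟩
  have h2 := LinearMap.congr_fun hl (Pi.single i 1)
  rw [LinearMap.comp_apply, Fintype.linearCombination_apply_single, one_smul] at h2
  simpa using h2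

variable {d : Type*} [Fintype d] [DecidableEq d]

/-- Extension of linear maps `A^d → A^ι` along ring maps. -/
noncomputable def lext {ι A B : Type*} [CommRing A] [CommRing B] [Fintype ι]
    (φ : A →+* B) (l : (d → A) →ₗ[A] (ι → A)) : (d → B) →ₗ[B] (ι → B) :=
  ((LinearMap.toMatrix' l).map φ).mulVecLin

theorem lext_sc {ι A B : Type*} [CommRing A] [CommRing B] [Fintype ι] (φ : A →+* B)
    (l : (d → A) →ₗ[A] (ι → A)) (x : d → A) : lext φ l (sc φ x) = sc φ (l x) := by
  ext i
  rw [lext, sc_apply, Matrix.mulVecLin_apply]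
  have h : l x = (LinearMap.toMatrix' l).mulVec x := by
    rw [← Matrix.toLin'_apply, Matrix.toLin'_toMatrix']
  rw [h, RingHom.map_mulVec]
  rfl

/-- Scalar extension preserves linear independence. -/
theorem linearIndependent_sc {K K' : Type*} [Field K] [Field K'] (φ : K →+* K') {ι : Type*}
    [Finite ι] {x : ι → d → K} (hx : LinearIndependent K x) :
    LinearIndependent K' fun i => sc φ (x i) := by
  classical
  have := Fintype.ofFinite ι
  obtain ⟨l, hl⟩ := exists_functional hx
  refine linearIndependent_of_det (lext φ l) _ ?_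
  have : (Matrix.of fun i j => lext φ l (sc φ (x j)) i) = (1 : Matrix ι ι K') := by
    ext i j
    rw [Matrix.of_apply, lext_sc, hl, sc_apply, Matrix.one_apply, Pi.single_apply]
    split_ifs <;> simp_all
  rw [this, Matrix.det_one]
  exact one_ne_zero

theorem exists_basis_span {K V : Type*} [Field K] [AddCommGroup V] [Module K V]
    [FiniteDimensional K V] (N : Submodule K V) :
    ∃ x : Fin (Module.finrank K N) → V, LinearIndependent K x ∧
      N = Submodule.span K (Set.range x) := by
  let b := Module.finBasis K N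
  refine ⟨fun i => (b i : V), b.linearIndependent.map' N.subtype (Submodule.ker_subtype N), ?_⟩
  have h1 := b.span_eq
  have h2 := congrArg (Submodule.map N.subtype) h1
  rw [Submodule.map_span, Submodule.map_subtype_top, ← Set.range_comp] at h2
  exact h2.symm

/-- The rank of a subspace is invariant under extension of fields. -/
theorem finrank_ext {K K' : Type*} [Field K] [Field K'] (φ : K →+* K') (N : Submodule K (d → K)) :
    Module.finrank K' (ext φ N) = Module.finrank K N := by
  obtain ⟨x, hx, hN⟩ := exists_basis_span N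
  have hli' := linearIndependent_sc φ hx
  have h3 : ext φ N = Submodule.span K' (Set.range fun i => sc φ (x i)) := by
    rw [← ext_span_range, ← hN]
  rw [h3, finrank_span_eq_card hli', Fintype.card_fin]

/-- Clearing denominators. -/
theorem exists_common_denominator {A K ι : Type*} [CommRing A] [Field K] (φ : A →+* K)
    (hfrac : ∀ z : K, ∃ a b : A, φ b ≠ 0 ∧ z * φ b = φ a) (s : Finset ι) (z : ι → K) :
    ∃ c : A, φ c ≠ 0 ∧ ∀ i ∈ s, ∃ a : A, φ c * z i = φ a := by
  classical
  induction s using Finset.induction_on with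
  | empty => exact ⟨1, by simp, by simp⟩
  | insert i s hi ih =>
    obtain ⟨c, hc, h⟩ := ih
    obtain ⟨a, b, hb, hab⟩ := hfrac (z i)
    refine ⟨c * b, by rw [map_mul]; exact mul_ne_zero hc hb, ?_⟩
    intro j hj
    rw [Finset.mem_insert] at hj
    rcases hj with rfl | hj
    · exact ⟨c * a, by rw [map_mul, map_mul, ← hab]; ring⟩
    · obtain ⟨a', ha'⟩ := h j hj
      exact ⟨b * a', by rw [map_mul, map_mul, ← ha']; ring⟩

omit [DecidableEq d] in
theorem exists_members {A K : Type*} [CommRing A] [Field K] (φ : A →+* K)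
    (N : Submodule A (d → A)) (m : ℕ) (hm : m ≤ Module.finrank K (ext φ N)) :
    ∃ x : Fin m → d → A, (∀ i, x i ∈ N) ∧ LinearIndependent K fun i => sc φ (x i) := by
  obtain ⟨b, hb, hspan, hli⟩ := exists_linearIndependent K (sc φ '' (N : Set (d → A)))
  have hfin : Finite b := hli.finite
  have := Fintype.ofFinite b
  have hcard : m ≤ Fintype.card b := by
    have h1 := finrank_span_eq_card hli
    rw [Subtype.range_coe_subtype, Set.ofPred_mem_eq, hspan] at h1
    rw [← h1]; exact hm
  obtain ⟨ι⟩ : Nonempty (Fin m ↪ b) := by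
    rw [Function.Embedding.nonempty_iff_card_le, Fintype.card_fin]; exact hcard
  have hpre : ∀ i, ∃ y ∈ N, sc φ y = (ι i : d → K) := fun i => hb (ι i).2
  choose y hy hy' using hpre
  refine ⟨y, hy, ?_⟩
  have h2 : (fun i => sc φ (y i)) = (fun z : b => (z : d → K)) ∘ ι := by
    funext i; exact hy' i
  rw [h2]
  exact hli.comp ι ι.injective

/-- The rank of the fibre of a submodule is lower semicontinuous. -/
theorem exists_open_rank {A K : Type*} [CommRing A] [Field K] (φ : A →+* K)
    (hfrac : ∀ z : K, ∃ a b : A, φ b ≠ 0 ∧ z * φ b = φ a)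
    (N : Submodule A (d → A)) (m : ℕ) (hm : m ≤ Module.finrank K (ext φ N)) :
    ∃ δ : A, φ δ ≠ 0 ∧ ∀ (K' : Type w) [Field K'] (φ' : A →+* K'), φ' δ ≠ 0 →
      m ≤ Module.finrank K' (ext φ' N) := by
  obtain ⟨x, hxN, hx⟩ := exists_members φ N m hm
  obtain ⟨l, hl⟩ := exists_functional hx
  -- clear denominators in the matrix of `l`
  obtain ⟨c, hc, hcl⟩ := exists_common_denominator φ hfrac (Finset.univ : Finset (Fin m × d))
    (fun p => LinearMap.toMatrix' l p.1 p.2)
  choose L hL using fun p => hcl p (Finset.mem_univ p)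
  let L' : Matrix (Fin m) d A := Matrix.of fun i j => L (i, j)
  have hL' : L'.map φ = φ c • LinearMap.toMatrix' l := by
    ext i j
    change φ (L (i, j)) = _
    rw [← hL (i, j), Matrix.smul_apply, smul_eq_mul]
  have key : ∀ (y : d → A) (i : Fin m), φ (L'.mulVec y i) = φ c * l (sc φ y) i := by
    intro y i
    rw [RingHom.map_mulVec, hL', Matrix.smul_mulVec, Pi.smul_apply, smul_eq_mul]
    congr 1
    have h : l (sc φ y) = (LinearMap.toMatrix' l).mulVec (sc φ y) := by
      rw [← Matrix.toLin'_apply, Matrix.toLin'_toMatrix']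
    rw [h]
    rfl
  refine ⟨(Matrix.of fun i j => L'.mulVec (x j) i).det, ?_, ?_⟩
  · have h1 : φ (Matrix.of fun i j => L'.mulVec (x j) i).det =
        (φ c • (1 : Matrix (Fin m) (Fin m) K)).det := by
      rw [RingHom.map_det]
      congr 1
      ext i j
      rw [RingHom.mapMatrix_apply, Matrix.map_apply, Matrix.of_apply, key, hl, Matrix.smul_apply,
        Matrix.one_apply, Pi.single_apply, smul_eq_mul]
    rw [h1, Matrix.det_smul, Matrix.det_one, mul_one]
    exact pow_ne_zero _ hc
  · intro K' _ φ' hδ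
    have hli : LinearIndependent K' fun i => sc φ' (x i) := by
      refine linearIndependent_of_det ((L'.map φ').mulVecLin) _ ?_
      have h2 : (Matrix.of fun i j => (L'.map φ').mulVecLin (sc φ' (x j)) i) =
          φ'.mapMatrix (Matrix.of fun i j => L'.mulVec (x j) i) := by
        ext i j
        rw [Matrix.of_apply, RingHom.mapMatrix_apply, Matrix.map_apply, Matrix.of_apply,
          RingHom.map_mulVec]
        rfl
      rw [h2, ← RingHom.map_det]
      exact hδ
    have h4 : LinearIndependent K' fun i => (⟨sc φ' (x i), sc_mem_ext φ' (hxN i)⟩ : ext φ' N) := by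
      refine LinearIndependent.of_comp (ext φ' N).subtype ?_
      exact hli
    simpa using h4.fintype_card_le_finrank

end Rank

end K808.LC
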