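import Groth.Agent.W4c1limliniiii.K808.LGa
import Groth.Agent.W4c1limliniiii.K808.LC
import Mathlib.LinearAlgebra.TensorProduct.Pi
import Mathlib.AlgebraicGeometry.Scheme
import Mathlib.CategoryTheory.Comma.Over.Basic

/-!
Linked Grassmannian points in coordinates: submodules of `A^d` instead of `A ⊗ R^d`.
-/

set_option autoImplicit false

universe u

open TensorProduct

namespace K808.LB

open K808.LC

section Cd

variable {R : Type u} [CommRing R] {d k : ℕ}
variable (A : Type u) [CommRing A] [Algebra R A]

/-- The identification `A ⊗ R^d = A^d`. -/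
noncomputable def th : A ⊗[R] (Fin d → R) ≃ₗ[A] (Fin d → A) :=
  TensorProduct.piScalarRight R A A (Fin d)

theorem th_tmul (a : A) (m : Fin d → R) (i : Fin d) :
    th (R := R) A (a ⊗ₜ[R] m) i = algebraMap R A (m i) * a := by
  change piScalarRightHom R A A (Fin d) (a ⊗ₜ[R] m) i = _
  rw [piScalarRightHom_tmul]
  change m i • a = _
  rw [Algebra.smul_def]

variable {A}

theorem th_baseChange (h : (Fin d → R) →ₗ[R] (Fin d → R)) (x : A ⊗[R] (Fin d → R)) :
    th A (h.baseChange A x) = act A h (th A x) := by
  induction x using TensorProduct.induction_on with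
  | zero => simp
  | tmul a m =>
    ext i
    rw [LinearMap.baseChange_tmul, th_tmul, act, Matrix.mulVecLin_apply, Matrix.mulVec, dotProduct]
    have h1 : h m = (LinearMap.toMatrix' h).mulVec m := by
      rw [← Matrix.toLin'_apply, Matrix.toLin'_toMatrix']
    rw [h1, Matrix.mulVec, dotProduct, map_sum, Finset.sum_mul]
    refine Finset.sum_congr rfl fun j _ => ?_
    rw [th_tmul, Matrix.map_apply, map_mul, mul_assoc]
  | add x y hx hy => rw [map_add, map_add, hx, hy, map_add, map_add]

variable {B : Type u} [CommRing B] [Algebra R B]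

theorem th_scal (φ : A →ₐ[R] B) (x : A ⊗[R] (Fin d → R)) :
    th B (LGa.scal φ x) = sc (φ : A →+* B) (th A x) := by
  induction x using TensorProduct.induction_on with
  | zero => rw [map_zero, map_zero, map_zero, sc_zero]
  | tmul a m =>
    ext i
    rw [LGa.scal_tmul, th_tmul, sc_apply, th_tmul]
    simp
  | add x y hx hy => rw [map_add, map_add, hx, hy, map_add, sc_add]

/-- The coordinates of a point of the Grassmannian. -/
noncomputable def toC (N : Module.Grassmannian A (A ⊗[R] (Fin d → R)) k) :
    Module.Grassmannian A (Fin d → A) k :=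
  let e : ((A ⊗[R] (Fin d → R)) ⧸ N.toSubmodule) ≃ₗ[A]
      ((Fin d → A) ⧸ (N.toSubmodule.map (th A).toLinearMap)) :=
    Submodule.Quotient.equiv N.toSubmodule _ (th A) rfl
  { toSubmodule := N.toSubmodule.map (th A).toLinearMap
    finite_quotient := Module.Finite.equiv e
    projective_quotient := Module.Projective.of_equiv e
    rankAtStalk_eq := fun p => by
      rw [← Module.rankAtStalk_eq_of_equiv e]
      exact N.rankAtStalk_eq p }

/-- The point of the Grassmannian with given coordinates. -/
noncomputable def ofC (N : Module.Grassmannian A (Fin d → A) k) :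
    Module.Grassmannian A (A ⊗[R] (Fin d → R)) k :=
  let e : ((Fin d → A) ⧸ N.toSubmodule) ≃ₗ[A] ((A ⊗[R] (Fin d → R)) ⧸
      (N.toSubmodule.map (th (R := R) A).symm.toLinearMap)) :=
    Submodule.Quotient.equiv N.toSubmodule _ (th A).symm rfl
  { toSubmodule := N.toSubmodule.map (th (R := R) A).symm.toLinearMap
    finite_quotient := Module.Finite.equiv e
    projective_quotient := Module.Projective.of_equiv e
    rankAtStalk_eq := fun p => by
      rw [← Module.rankAtStalk_eq_of_equiv e]
      exact N.rankAtStalk_eq p }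

theorem toC_toSubmodule (N : Module.Grassmannian A (A ⊗[R] (Fin d → R)) k) :
    (toC N).toSubmodule = N.toSubmodule.map (th A).toLinearMap := rfl

theorem toC_ofC (N : Module.Grassmannian A (Fin d → A) k) : toC (R := R) (ofC N) = N := by
  apply Module.Grassmannian.ext
  change (N.toSubmodule.map (th (R := R) A).symm.toLinearMap).map (th A).toLinearMap = _
  rw [← Submodule.map_comp]
  have : (th (R := R) A).toLinearMap.comp (th (R := R) (d := d) A).symm.toLinearMap =
      LinearMap.id := by
    ext x; simp
  rw [this, Submodule.map_id]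

theorem ofC_toC (N : Module.Grassmannian A (A ⊗[R] (Fin d → R)) k) : ofC (toC N) = N := by
  apply Module.Grassmannian.ext
  change (N.toSubmodule.map (th A).toLinearMap).map (th A).symm.toLinearMap = _
  rw [← Submodule.map_comp]
  have : (th (R := R) (d := d) A).symm.toLinearMap.comp (th (R := R) A).toLinearMap =
      LinearMap.id := by
    apply LinearMap.ext
    intro x
    simp
  rw [this, Submodule.map_id]

theorem map_th_map (h : (Fin d → R) →ₗ[R] (Fin d → R)) (N : Submodule A (A ⊗[R] (Fin d → R))) :
    (N.map (h.baseChange A)).map (th A).toLinearMap = (N.map (th A).toLinearMap).map (act A h) := by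
  rw [← Submodule.map_comp, ← Submodule.map_comp]
  congr 1
  apply LinearMap.ext
  intro x
  exact th_baseChange h x

theorem map_th_ker (h : (Fin d → R) →ₗ[R] (Fin d → R)) :
    (LinearMap.ker (h.baseChange A)).map (th A).toLinearMap = LinearMap.ker (act A h) := by
  ext y
  constructor
  · rintro ⟨x, hx, rfl⟩
    rw [LinearMap.mem_ker]
    change act A h (th A x) = 0
    rw [← th_baseChange]
    have : h.baseChange A x = 0 := hx
    rw [this, map_zero]
  · intro hy
    refine ⟨(th A).symm y, ?_, by simp⟩
    change h.baseChange A ((th A).symm y) = 0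
    apply (th A).injective
    rw [th_baseChange, map_zero, LinearEquiv.apply_symm_apply]
    exact hy

theorem map_th_ext (φ : A →ₐ[R] B) (N : Submodule A (A ⊗[R] (Fin d → R))) :
    (LGa.ext φ N).map (th B).toLinearMap = LC.ext (φ : A →+* B) (N.map (th A).toLinearMap) := by
  rw [LGa.ext, Submodule.map_span, LC.ext]
  congr 1
  ext y
  constructor
  · rintro ⟨_, ⟨x, hx, rfl⟩, rfl⟩
    exact ⟨th A x, ⟨x, hx, rfl⟩, (th_scal φ x).symm⟩
  · rintro ⟨_, ⟨x, hx, rfl⟩, rfl⟩
    exact ⟨LGa.scal φ x, ⟨x, hx, rfl⟩, th_scal φ x⟩

theorem toC_map (φ : A →ₐ[R] B) (N : Module.Grassmannian A (A ⊗[R] (Fin d → R)) k) :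
    (toC (Module.Grassmannian.map φ N)).toSubmodule = LC.ext (φ : A →+* B) (toC N).toSubmodule := by
  rw [toC_toSubmodule, LGa.map_toSubmodule_eq, map_th_ext]
  rfl

end Cd

section Points

variable (R : Type u) [CommRing R] (d r n : ℕ) (f g : Fin n → ((Fin d → R) →ₗ[R] (Fin d → R)))
variable (A : Type u) [CommRing A] [Algebra R A]

/-- The points of the linked Grassmannian in coordinates. -/
def CPoints : Set (Fin (n + 1) → Module.Grassmannian A (Fin d → A) (d - r)) :=
  {V | ∀ i : Fin n,
    Submodule.map (act A (f i)) (V i.castSucc).toSubmodule ≤ (V i.succ).toSubmodule ∧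
      Submodule.map (act A (g i)) (V i.succ).toSubmodule ≤ (V i.castSucc).toSubmodule}

/-- Exactness in coordinates. -/
def CExact (V : Fin (n + 1) → Module.Grassmannian A (Fin d → A) (d - r)) : Prop :=
  ∀ i : Fin n,
    LinearMap.ker (act A (g i)) ⊓ (V i.succ).toSubmodule ≤
        Submodule.map (act A (f i)) (V i.castSucc).toSubmodule ∧
      LinearMap.ker (act A (f i)) ⊓ (V i.castSucc).toSubmodule ≤
        Submodule.map (act A (g i)) (V i.succ).toSubmodule

variable {R d r n f g A}

theorem le_iff_map_th (N N' : Submodule A (A ⊗[R] (Fin d → R))) :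
    N ≤ N' ↔ N.map (th A).toLinearMap ≤ N'.map (th A).toLinearMap :=
  (Submodule.map_le_map_iff_of_injective (th A).injective N N').symm

theorem mem_CPoints_iff (V : Fin (n + 1) → Module.Grassmannian A (A ⊗[R] (Fin d → R)) (d - r)) :
    (fun i => toC (V i)) ∈ CPoints R d r n f g A ↔ V ∈ W4c1limliniiii.LGPoints R d r n f g A := by
  refine forall_congr' fun i => ?_
  rw [le_iff_map_th, le_iff_map_th, map_th_map, map_th_map]
  rfl

theorem isExact_iff (V : Fin (n + 1) → Module.Grassmannian A (A ⊗[R] (Fin d → R)) (d - r)) :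
    W4c1limliniiii.IsExact R d r n f g A V ↔ CExact R d r n f g A (fun i => toC (V i)) := by
  refine forall_congr' fun i => ?_
  rw [le_iff_map_th, le_iff_map_th, map_th_map, map_th_map,
    Submodule.map_inf _ (th A).injective, Submodule.map_inf _ (th A).injective, map_th_ker,
    map_th_ker]
  rfl

/-- The coordinates of points, as a bijection. -/
noncomputable def ptsEquiv :
    W4c1limliniiii.LGPoints R d r n f g A ≃ CPoints R d r n f g A where
  toFun V := ⟨fun i => toC (V.1 i), (mem_CPoints_iff V.1).2 V.2⟩
  invFun V := ⟨fun i => ofC (V.1 i), (mem_CPoints_iff _).1 (by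
    simp only [toC_ofC]; exact V.2)⟩
  left_inv V := Subtype.ext (funext fun i => ofC_toC _)
  right_inv V := Subtype.ext (funext fun i => toC_ofC _)

end Points

end K808.LB
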