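import Mathlib.LinearAlgebra.FiniteDimensional.Lemmas
import Mathlib.LinearAlgebra.Basis.VectorSpace
import Mathlib.LinearAlgebra.Dimension.RankNullity
import Mathlib.Tactic

/-!
Linear algebra of linked chains: transition maps, chains generated by vectors at the vertices,
functionals for the deformation of a non-exact chain.
-/

set_option autoImplicit false

namespace K808.LE

section Tr

variable {A E : Type*} [CommRing A] [AddCommGroup E] [Module A E]
variable (F G : ℕ → Module.End A E)

/-- `k` steps up from vertex `i`. -/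
def up (i : ℕ) : ℕ → Module.End A E
  | 0 => LinearMap.id
  | k + 1 => (F (i + k)).comp (up i k)

/-- `k` steps down from vertex `i`. -/
def dn (i : ℕ) : ℕ → Module.End A E
  | 0 => LinearMap.id
  | k + 1 => (G (i - (k + 1))).comp (dn i k)

/-- The transition map from vertex `i` to vertex `j`. -/
def tr (i j : ℕ) : Module.End A E := if i ≤ j then up F i (j - i) else dn G i (i - j)

theorem tr_self (i : ℕ) : tr F G i i = LinearMap.id := by
  rw [tr, if_pos le_rfl, Nat.sub_self]; rfl

theorem F_tr {i j : ℕ} (h : i ≤ j) : (F j).comp (tr F G i j) = tr F G i (j + 1) := by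
  rw [tr, if_pos h, tr, if_pos (by omega)]
  have h1 : j + 1 - i = (j - i) + 1 := by omega
  rw [h1]
  change _ = (F (i + (j - i))).comp (up F i (j - i))
  have h2 : i + (j - i) = j := by omega
  rw [h2]

theorem G_tr {i j : ℕ} (h : j + 1 ≤ i) : (G j).comp (tr F G i (j + 1)) = tr F G i j := by
  rcases Nat.lt_or_ge (j + 1) i with h' | h'
  · rw [tr, if_neg (by omega), tr, if_neg (by omega)]
    have h1 : i - j = (i - (j + 1)) + 1 := by omega
    rw [h1]
    change _ = (G (i - (i - (j + 1) + 1))).comp (dn G i (i - (j + 1)))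
    have h2 : i - (i - (j + 1) + 1) = j := by omega
    rw [h2]
  · have h3 : i = j + 1 := by omega
    subst h3
    rw [tr_self, tr, if_neg (by omega)]
    have h1 : j + 1 - j = 0 + 1 := by omega
    rw [h1]
    change _ = (G (j + 1 - (0 + 1))).comp LinearMap.id
    have h2 : j + 1 - (0 + 1) = j := by omega
    rw [h2]

theorem F_tr' {s : A} {i j : ℕ} (h : j + 1 ≤ i) (hFG : (F j).comp (G j) = s • LinearMap.id) :
    (F j).comp (tr F G i j) = s • tr F G i (j + 1) := by
  rw [← G_tr F G h, ← LinearMap.comp_assoc, hFG]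
  ext x; simp

theorem G_tr' {s : A} {i j : ℕ} (h : i ≤ j) (hGF : (G j).comp (F j) = s • LinearMap.id) :
    (G j).comp (tr F G i (j + 1)) = s • tr F G i j := by
  rw [← F_tr F G h, ← LinearMap.comp_assoc, hGF]
  ext x; simp

/-- Transition maps preserve linked chains. -/
theorem tr_mem {n : ℕ} {V : ℕ → Submodule A E} (hF : ∀ i < n, (V i).map (F i) ≤ V (i + 1))
    (hG : ∀ i < n, (V (i + 1)).map (G i) ≤ V i) {i j : ℕ} (hi : i ≤ n) (hj : j ≤ n) {x : E}
    (hx : x ∈ V i) : tr F G i j x ∈ V j := by
  rcases Nat.le_total i j with h | h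
  · induction j, h using Nat.le_induction with
    | base => rw [tr_self]; exact hx
    | succ j h ih =>
      rw [← F_tr F G h]
      exact hF j (by omega) ⟨_, ih (by omega), rfl⟩
  · have key : ∀ k, k ≤ i → tr F G i (i - k) x ∈ V (i - k) := by
      intro k
      induction k with
      | zero => intro _; rw [Nat.sub_zero, tr_self]; exact hx
      | succ k ih =>
        intro hk
        have h1 := ih (by omega)
        have h2 : i - k = (i - (k + 1)) + 1 := by omega
        rw [h2] at h1
        rw [← G_tr F G (j := i - (k + 1)) (by omega)]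
        exact hG _ (by omega) ⟨_, h1, rfl⟩
    have := key (i - j) (by omega)
    have h3 : i - (i - j) = j := by omega
    rwa [h3] at this

end Tr

section Field

variable {K E : Type*} [Field K] [AddCommGroup E] [Module K E]
variable (F G : ℕ → Module.End K E)

/-- The part of `V j` coming from the left. -/
def Lp (V : ℕ → Submodule K E) : ℕ → Submodule K E
  | 0 => ⊥
  | j + 1 => (V j).map (F j)

/-- The part of `V j` coming from the right. -/
def Rp (n : ℕ) (V : ℕ → Submodule K E) (j : ℕ) : Submodule K E :=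
  if j < n then (V (j + 1)).map (G j) else ⊥

/-- The span of the vectors at all vertices. -/
def Sp (n : ℕ) (W : ℕ → Submodule K E) (j : ℕ) : Submodule K E :=
  ⨆ i : Fin (n + 1), (W i).map (tr F G i j)

variable {F G}

theorem map_tr_le_Sp {n : ℕ} (W : ℕ → Submodule K E) {i : ℕ} (hi : i ≤ n) (j : ℕ) :
    (W i).map (tr F G i j) ≤ Sp F G n W j :=
  le_iSup (fun i : Fin (n + 1) => (W i).map (tr F G i j)) ⟨i, by omega⟩

/-- Generation of an exact chain with vanishing scalar. -/
theorem le_Sp_of_zero {n : ℕ} (hFG : ∀ i < n, (F i).comp (G i) = 0)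
    (hGF : ∀ i < n, (G i).comp (F i) = 0) (V W : ℕ → Submodule K E)
    (hV : ∀ j ≤ n, V j ≤ Lp F V j ⊔ Rp G n V j ⊔ W j) :
    ∀ j ≤ n, V j ≤ Sp F G n W j := by
  -- the left parts
  have hL : ∀ j ≤ n, Lp F V j ≤ ⨆ i : Fin (n + 1), ⨆ _ : (i : ℕ) < j, (W i).map (tr F G i j) := by
    intro j
    induction j with
    | zero => intro _; exact bot_le
    | succ j ih =>
      intro hj
      change (V j).map (F j) ≤ _
      refine (Submodule.map_mono (hV j (by omega))).trans ?_
      rw [Submodule.map_sup, Submodule.map_sup, sup_le_iff, sup_le_iff]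
      refine ⟨⟨?_, ?_⟩, ?_⟩
      · refine (Submodule.map_mono (ih (by omega))).trans ?_
        rw [Submodule.map_iSup]
        refine iSup_le fun i => ?_
        rw [Submodule.map_iSup]
        refine iSup_le fun hi => ?_
        rw [← Submodule.map_comp, F_tr F G (by omega)]
        exact le_iSup₂_of_le i (by omega) le_rfl
      · rw [Rp, if_pos (by omega), ← Submodule.map_comp, hFG j (by omega), Submodule.map_zero]
        exact bot_le
      · refine le_iSup₂_of_le ⟨j, by omega⟩ (by simp) ?_
        change (W j).map (F j) ≤ (W j).map (tr F G j (j + 1))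
        rw [← F_tr F G le_rfl, tr_self, LinearMap.comp_id]
  -- the right parts
  have hR : ∀ k ≤ n, Rp G n V (n - k) ≤ ⨆ i : Fin (n + 1), ⨆ _ : n - k < (i : ℕ),
      (W i).map (tr F G i (n - k)) := by
    intro k
    induction k with
    | zero => intro _; rw [Nat.sub_zero, Rp, if_neg (lt_irrefl n)]; exact bot_le
    | succ k ih =>
      intro hk
      have h2 : n - k = (n - (k + 1)) + 1 := by omega
      have ih' := ih (by omega)
      rw [h2] at ih'
      set j := n - (k + 1) with hj
      rw [Rp, if_pos (by omega)]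
      refine (Submodule.map_mono (hV (j + 1) (by omega))).trans ?_
      rw [Submodule.map_sup, Submodule.map_sup, sup_le_iff, sup_le_iff]
      refine ⟨⟨?_, ?_⟩, ?_⟩
      · change ((V j).map (F j)).map (G j) ≤ _
        rw [← Submodule.map_comp, hGF j (by omega), Submodule.map_zero]
        exact bot_le
      · refine (Submodule.map_mono ih').trans ?_
        rw [Submodule.map_iSup]
        refine iSup_le fun i => ?_
        rw [Submodule.map_iSup]
        refine iSup_le fun hi => ?_
        rw [← Submodule.map_comp, G_tr F G (by omega)]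
        exact le_iSup₂_of_le i (by omega) le_rfl
      · refine le_iSup₂_of_le ⟨j + 1, by omega⟩ (by simp) ?_
        change (W (j + 1)).map (G j) ≤ (W (j + 1)).map (tr F G (j + 1) j)
        rw [← G_tr F G le_rfl, tr_self, LinearMap.comp_id]
  intro j hj
  refine (hV j hj).trans ?_
  rw [sup_le_iff, sup_le_iff]
  refine ⟨⟨?_, ?_⟩, ?_⟩
  · refine (hL j hj).trans (iSup_le fun i => iSup_le fun _ => ?_)
    exact map_tr_le_Sp W (by omega) j
  · have h3 : n - (n - j) = j := by omega
    have := hR (n - j) (by omega)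
    rw [h3] at this
    refine this.trans (iSup_le fun i => iSup_le fun _ => ?_)
    exact map_tr_le_Sp W (by omega) j
  · have := map_tr_le_Sp (F := F) (G := G) W hj j
    rwa [tr_self, Submodule.map_id] at this

/-- Rank–nullity for the restriction of a linear map to a subspace. -/
theorem finrank_map_add_finrank_ker_inf [FiniteDimensional K E] (φ : E →ₗ[K] E)
    (V : Submodule K E) :
    Module.finrank K ↥(V.map φ) + Module.finrank K ↥(LinearMap.ker φ ⊓ V) = Module.finrank K V := by
  have h := LinearMap.finrank_range_add_finrank_ker (φ.domRestrict V)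
  rw [LinearMap.range_domRestrict] at h
  rw [← h]
  congr 1
  have e : LinearMap.ker (φ.domRestrict V) = (LinearMap.ker φ ⊓ V).comap V.subtype := by
    ext x
    simp
  rw [e]
  exact (Submodule.comapSubtypeEquivOfLe inf_le_right).finrank_eq.symm

/-- The type of a chain in terms of the ranks of the forward maps: `m j = a j - a (j - 1)` with
`a n = r` and `a (-1) = 0`. -/
def typ (n r : ℕ) (a : ℕ → ℕ) (j : ℕ) : ℕ :=
  (if j < n then a j else r) - (if j = 0 then 0 else a (j - 1))

theorem typ_lt {n r : ℕ} {a : ℕ → ℕ} {j : ℕ} (h : j < n) :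
    typ n r a j = a j - (if j = 0 then 0 else a (j - 1)) := by
  rw [typ, if_pos h]

theorem typ_last {n r : ℕ} {a : ℕ → ℕ} :
    typ n r a n = r - (if n = 0 then 0 else a (n - 1)) := by
  rw [typ, if_neg (lt_irrefl n)]

theorem sum_typ {n r : ℕ} {a : ℕ → ℕ} (hmono : ∀ j, j + 1 < n → a j ≤ a (j + 1))
    (hr : ∀ j < n, a j ≤ r) : ∑ j ∈ Finset.range (n + 1), typ n r a j = r := by
  have key : ∀ k, k ≤ n → ∑ j ∈ Finset.range k, typ n r a j = if k = 0 then 0 else a (k - 1) := by
    intro k
    induction k with
    | zero => intro _; simp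
    | succ k ih =>
      intro hk
      rw [Finset.sum_range_succ, ih (by omega), typ_lt (by omega)]
      rcases k with _ | k
      · simp
      · have := hmono k (by omega)
        simp only [Nat.succ_ne_zero, if_false, Nat.add_sub_cancel]
        omega
  rw [Finset.sum_range_succ, key n le_rfl, typ_last]
  rcases n with _ | n
  · simp
  · have := hr n (by omega)
    simp only [Nat.succ_ne_zero, if_false, Nat.add_sub_cancel]
    omega

variable [FiniteDimensional K E]

/-- Exact chains with vanishing scalar are generated by vectors at the vertices, in numbers given by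
the ranks of the forward maps. -/
theorem exists_generators_zero {n r : ℕ} (hFG : ∀ i < n, (F i).comp (G i) = 0)
    (hGF : ∀ i < n, (G i).comp (F i) = 0)
    (hIII : ∀ i, i + 1 < n → LinearMap.range (F i) ⊓ LinearMap.ker (F (i + 1)) = ⊥)
    (V : ℕ → Submodule K E) (hr : ∀ j ≤ n, Module.finrank K (V j) = r)
    (hF : ∀ i < n, (V i).map (F i) ≤ V (i + 1)) (hG : ∀ i < n, (V (i + 1)).map (G i) ≤ V i)
    (hex : ∀ i < n, LinearMap.ker (F i) ⊓ V i ≤ (V (i + 1)).map (G i)) :
    ∃ W : ℕ → Submodule K E, (∀ j ≤ n, W j ≤ V j) ∧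
      (∀ j ≤ n, Module.finrank K (W j) =
        typ n r (fun i => Module.finrank K ((V i).map (F i))) j) ∧
      ∀ j ≤ n, V j ≤ Sp F G n W j := by
  -- ranks
  have hker : ∀ i < n, LinearMap.ker (F i) ⊓ V i = (V (i + 1)).map (G i) := by
    intro i hi
    refine le_antisymm (hex i hi) (le_inf ?_ (hG i hi))
    rintro _ ⟨x, -, rfl⟩
    exact LinearMap.congr_fun (hFG i hi) x
  have hab : ∀ i < n, Module.finrank K ((V i).map (F i)) +
      Module.finrank K ((V (i + 1)).map (G i)) = r := by
    intro i hi
    rw [← hker i hi, finrank_map_add_finrank_ker_inf, hr i (by omega)]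
  have hLle : ∀ j ≤ n, Lp F V j ≤ V j := by
    intro j hj
    rcases j with _ | j
    · exact bot_le
    · exact hF j (by omega)
  have hRle : ∀ j ≤ n, Rp G n V j ≤ V j := by
    intro j hj
    rw [Rp]
    split_ifs with h
    · exact hG j h
    · exact bot_le
  have hdisj : ∀ j ≤ n, Lp F V j ⊓ Rp G n V j = ⊥ := by
    intro j hj
    rcases j with _ | j
    · exact bot_inf_eq _
    · rw [Rp]
      split_ifs with h
      · rw [eq_bot_iff, ← hIII j h]
        refine inf_le_inf ?_ ?_
        · rintro _ ⟨x, -, rfl⟩; exact ⟨x, rfl⟩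
        · rintro _ ⟨x, -, rfl⟩
          exact LinearMap.congr_fun (hFG (j + 1) h) x
      · exact inf_bot_eq _
  -- choose complements inside `V j`
  have hW : ∀ j : ℕ, ∃ W : Submodule K E, (j ≤ n → W ≤ V j ∧
      Module.finrank K W = typ n r (fun i => Module.finrank K ((V i).map (F i))) j ∧
      V j ≤ Lp F V j ⊔ Rp G n V j ⊔ W) := by
    intro j
    by_cases hj : j ≤ n
    swap
    · exact ⟨⊥, fun h => absurd h hj⟩
    have hle : Lp F V j ⊔ Rp G n V j ≤ V j := sup_le (hLle j hj) (hRle j hj)
    obtain ⟨W', hW'⟩ := Submodule.exists_isCompl (Lp F V j ⊔ Rp G n V j)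
    have hWV : (Lp F V j ⊔ Rp G n V j) ⊔ (W' ⊓ V j) = V j := by
      rw [← sup_inf_assoc_of_le W' hle, hW'.sup_eq_top, top_inf_eq]
    have hWd : (Lp F V j ⊔ Rp G n V j) ⊓ (W' ⊓ V j) = ⊥ := by
      rw [← inf_assoc, hW'.inf_eq_bot, bot_inf_eq]
    refine ⟨W' ⊓ V j, fun _ => ⟨inf_le_right, ?_, hWV.ge⟩⟩
    have d1 := Submodule.finrank_sup_add_finrank_inf_eq (Lp F V j ⊔ Rp G n V j) (W' ⊓ V j)
    rw [hWV, hWd, finrank_bot, add_zero, hr j hj] at d1
    have d2 := Submodule.finrank_sup_add_finrank_inf_eq (Lp F V j) (Rp G n V j)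
    rw [hdisj j hj, finrank_bot, add_zero] at d2
    have d3 : Module.finrank K (Lp F V j) =
        if j = 0 then 0 else Module.finrank K ((V (j - 1)).map (F (j - 1))) := by
      rcases j with _ | j
      · change Module.finrank K (⊥ : Submodule K E) = _
        rw [finrank_bot, if_pos rfl]
      · rw [if_neg (by omega)]; rfl
    have d4 : Module.finrank K (Rp G n V j) +
        (if j < n then Module.finrank K ((V j).map (F j)) else r) = r := by
      by_cases h : j < n
      · rw [if_pos h, Rp, if_pos h, add_comm]; exact hab j h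
      · rw [if_neg h, Rp, if_neg h, finrank_bot, zero_add]
    rw [typ]
    omega
  choose W hW using hW
  refine ⟨W, fun j hj => (hW j hj).1, fun j hj => (hW j hj).2.1, ?_⟩
  exact le_Sp_of_zero hFG hGF V W fun j hj => (hW j hj).2.2

/-- Chains with invertible scalar are generated at vertex `0`. -/
theorem exists_generators_unit {n r : ℕ} {s : K} (hs : s ≠ 0)
    (hGF : ∀ i < n, (G i).comp (F i) = s • LinearMap.id)
    (V : ℕ → Submodule K E) (hr : ∀ j ≤ n, Module.finrank K (V j) = r)
    (hF : ∀ i < n, (V i).map (F i) ≤ V (i + 1)) :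
    ∃ W : ℕ → Submodule K E, (∀ j ≤ n, W j ≤ V j) ∧
      (∀ j ≤ n, Module.finrank K (W j) =
        typ n r (fun i => Module.finrank K ((V i).map (F i))) j) ∧
      ∀ j ≤ n, V j ≤ Sp F G n W j := by
  have hinj : ∀ i < n, Function.Injective (F i) := by
    intro i hi x y hxy
    have h1 := LinearMap.congr_fun (hGF i hi) x
    have h2 := LinearMap.congr_fun (hGF i hi) y
    rw [LinearMap.comp_apply] at h1 h2
    rw [hxy, h2] at h1
    simp only [LinearMap.smul_apply, LinearMap.id_apply] at h1
    exact (smul_right_injective E hs h1).symm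
  have ha : ∀ i < n, Module.finrank K ((V i).map (F i)) = r := by
    intro i hi
    have h := finrank_map_add_finrank_ker_inf (F i) (V i)
    rwa [LinearMap.ker_eq_bot.2 (hinj i hi), bot_inf_eq, finrank_bot, add_zero,
      hr i (by omega)] at h
  have hVF : ∀ i < n, (V i).map (F i) = V (i + 1) := by
    intro i hi
    exact Submodule.eq_of_le_of_finrank_eq (hF i hi) (by rw [ha i hi, hr (i + 1) (by omega)])
  obtain ⟨W, hW0, hW1⟩ : ∃ W : ℕ → Submodule K E, W 0 = V 0 ∧ ∀ j, j ≠ 0 → W j = ⊥ :=
    ⟨fun j => if j = 0 then V 0 else ⊥, if_pos rfl, fun j hj => if_neg hj⟩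
  refine ⟨W, ?_, ?_, ?_⟩
  · intro j hj
    by_cases h : j = 0
    · subst h; rw [hW0]
    · rw [hW1 j h]; exact bot_le
  · intro j hj
    by_cases h : j = 0
    · subst h
      rw [hW0, hr 0 (Nat.zero_le n), typ, if_pos rfl, Nat.sub_zero]
      by_cases hn : 0 < n
      · rw [if_pos hn]; exact (ha 0 hn).symm
      · rw [if_neg hn]
    · rw [hW1 j h, finrank_bot, typ, if_neg h]
      have h1 := ha (j - 1) (by omega)
      by_cases hn : j < n
      · rw [if_pos hn]
        have h2 := ha j hn
        omega
      · rw [if_neg hn]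
        omega
  · intro j hj
    have h1 : V j = (V 0).map (tr F G 0 j) := by
      clear hr ha
      induction j with
      | zero => rw [tr_self, Submodule.map_id]
      | succ j ih =>
        rw [← F_tr F G (Nat.zero_le j), Submodule.map_comp, ← ih (by omega), hVF j (by omega)]
    have h2 := map_tr_le_Sp (F := F) (G := G) W (Nat.zero_le n) j
    rw [hW0] at h2
    rw [h1]
    exact h2

end Field

end K808.LE
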