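import Groth.Agent.W4c1limliniiii.K808.LN
import Groth.Agent.W4c1limliniiii.K808.LE
import Mathlib.RingTheory.PowerSeries.Inverse
import Mathlib.RingTheory.Localization.FractionRing

/-!
Extension of endomorphisms along ring maps, and the deformation of a non-exact chain over the ring of
power series.
-/

set_option autoImplicit false

universe u

namespace K808.LD

open K808.LC K808.LN K808.LE

section Lext

variable {ι : Type*} [Fintype ι] [DecidableEq ι] {A B C : Type*} [CommRing A] [CommRing B] [CommRing C]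

theorem lext_comp (φ : A →+* B) (h h' : (ι → A) →ₗ[A] (ι → A)) :
    lext φ (h.comp h') = (lext φ h).comp (lext φ h') := by
  rw [lext, lext, lext, LinearMap.toMatrix'_comp, Matrix.map_mul, Matrix.mulVecLin_mul]

theorem lext_id_map (φ : A →+* B) :
    lext φ (LinearMap.id : (ι → A) →ₗ[A] (ι → A)) = LinearMap.id := by
  rw [lext, LinearMap.toMatrix'_id, Matrix.map_one _ (map_zero φ) (map_one φ),
    Matrix.mulVecLin_one]

theorem lext_smul (φ : A →+* B) (s : A) (h : (ι → A) →ₗ[A] (ι → A)) :
    lext φ (s • h) = φ s • lext φ h := by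
  rw [lext, lext, map_smul]
  have : (s • LinearMap.toMatrix' h).map φ = φ s • (LinearMap.toMatrix' h).map φ := by
    ext i j; simp
  rw [this]
  exact LinearMap.ext fun x => Matrix.smul_mulVec _ _ _

theorem lext_lext (φ : A →+* B) (ψ : B →+* C) (h : (ι → A) →ₗ[A] (ι → A)) :
    lext ψ (lext φ h) = lext (ψ.comp φ) h := by
  rw [lext, lext, lext]
  congr 1
  rw [← Matrix.toLin'_apply', LinearMap.toMatrix'_toLin', Matrix.map_map]
  rfl

theorem lext_id (h : (ι → A) →ₗ[A] (ι → A)) : lext (RingHom.id A) h = h := by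
  rw [lext]
  change (Matrix.map (LinearMap.toMatrix' h) id).mulVecLin = h
  rw [Matrix.map_id, ← Matrix.toLin'_apply', Matrix.toLin'_toMatrix']

theorem lext_sc' (φ : A →+* B) (ψ : B →+* C) (h : (ι → A) →ₗ[A] (ι → A)) (x : ι → B) :
    lext (ψ.comp φ) h (sc ψ x) = sc ψ (lext φ h x) := by
  rw [← lext_lext, lext_sc]

theorem map_lext_ext (ψ : B →+* C) (h : (ι → B) →ₗ[B] (ι → B)) (N : Submodule B (ι → B)) :
    (ext ψ N).map (lext ψ h) = ext ψ (N.map h) := by
  rw [ext, Submodule.map_span, ext]
  congr 1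
  ext y
  constructor
  · rintro ⟨_, ⟨x, hx, rfl⟩, rfl⟩
    exact ⟨h x, ⟨x, hx, rfl⟩, (lext_sc ψ h x).symm⟩
  · rintro ⟨_, ⟨x, hx, rfl⟩, rfl⟩
    exact ⟨sc ψ x, ⟨x, hx, rfl⟩, lext_sc ψ h x⟩

theorem map_lext_ext' (φ : A →+* B) (ψ : B →+* C) (h : (ι → A) →ₗ[A] (ι → A))
    (N : Submodule B (ι → B)) :
    (ext ψ N).map (lext (ψ.comp φ) h) = ext ψ (N.map (lext φ h)) := by
  rw [← lext_lext, map_lext_ext]

theorem ext_top (ψ : B →+* C) : ext ψ (⊤ : Submodule B (ι → B)) = ⊤ := by
  rw [eq_top_iff]
  intro y _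
  rw [pi_eq_sum_univ' y]
  refine Submodule.sum_mem _ fun i _ => Submodule.smul_mem _ _ ?_
  refine Submodule.subset_span ⟨Pi.single i 1, Submodule.mem_top, ?_⟩
  ext j
  rw [sc_apply, Pi.single_apply, Pi.single_apply]
  split_ifs <;> simp

theorem range_lext (ψ : B →+* C) (h : (ι → B) →ₗ[B] (ι → B)) :
    LinearMap.range (lext ψ h) = ext ψ (LinearMap.range h) := by
  rw [LinearMap.range_eq_map, LinearMap.range_eq_map, ← map_lext_ext, ext_top]

end Lext

section Field

variable {K K' : Type*} [Field K] [Field K'] {ι : Type*} [Fintype ι] [DecidableEq ι]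

theorem finrank_range_lext (φ : K →+* K') (h : (ι → K) →ₗ[K] (ι → K)) :
    Module.finrank K' (LinearMap.range (lext φ h)) = Module.finrank K (LinearMap.range h) := by
  rw [range_lext, finrank_ext]

omit [DecidableEq ι] in
/-- Triviality of the intersection with a kernel is a condition on ranks. -/
theorem inf_ker_eq_bot_iff (h : (ι → K) →ₗ[K] (ι → K)) (N : Submodule K (ι → K)) :
    N ⊓ LinearMap.ker h = ⊥ ↔ Module.finrank K (N.map h) = Module.finrank K N := by
  have h1 := finrank_map_add_finrank_ker_inf h N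
  rw [inf_comm, ← Submodule.finrank_eq_zero (R := K)]
  omega

theorem inf_ker_lext (φ : K →+* K') (h : (ι → K) →ₗ[K] (ι → K)) (N : Submodule K (ι → K))
    (hN : N ⊓ LinearMap.ker h = ⊥) : ext φ N ⊓ LinearMap.ker (lext φ h) = ⊥ := by
  rw [inf_ker_eq_bot_iff] at hN ⊢
  rw [map_lext_ext, finrank_ext, finrank_ext, hN]

end Field

section Def

variable {K : Type u} [Field K] {d : ℕ}

local notation "T" => PowerSeries K

/-- The deformation of a vector. -/
noncomputable def th (lam : (Fin d → K) →ₗ[K] K) (w x : Fin d → K) : Fin d → PowerSeries K :=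
  sc (PowerSeries.C) x + (PowerSeries.X * PowerSeries.C (lam x)) • sc (PowerSeries.C) w

theorem th_add (lam : (Fin d → K) →ₗ[K] K) (w x y : Fin d → K) :
    th lam w (x + y) = th lam w x + th lam w y := by
  rw [th, th, th, sc_add, map_add, map_add, mul_add, add_smul]
  abel

theorem th_smul (lam : (Fin d → K) →ₗ[K] K) (w : Fin d → K) (c : K) (x : Fin d → K) :
    th lam w (c • x) = PowerSeries.C c • th lam w x := by
  rw [th, th, sc_smul, map_smul, smul_eq_mul, map_mul, smul_add, smul_smul]
  congr 2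
  ring

theorem th_zero (lam : (Fin d → K) →ₗ[K] K) (w : Fin d → K) : th lam w 0 = 0 := by
  have := th_smul lam w 0 0
  rwa [zero_smul, map_zero, zero_smul] at this

theorem th_of_lam_eq_zero {lam : (Fin d → K) →ₗ[K] K} {w x : Fin d → K} (h : lam x = 0) :
    th lam w x = sc PowerSeries.C x := by
  rw [th, h, map_zero, mul_zero, zero_smul, add_zero]

/-- The deformation of a subspace. -/
noncomputable def Dm (lam : (Fin d → K) →ₗ[K] K) (w : Fin d → K) (V : Submodule K (Fin d → K)) :
    Submodule (PowerSeries K) (Fin d → PowerSeries K) :=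
  Submodule.span _ (th lam w '' (V : Set (Fin d → K)))

theorem th_mem_Dm {lam : (Fin d → K) →ₗ[K] K} {w x : Fin d → K} {V : Submodule K (Fin d → K)}
    (hx : x ∈ V) : th lam w x ∈ Dm lam w V := Submodule.subset_span ⟨x, hx, rfl⟩

theorem Dm_span (lam : (Fin d → K) →ₗ[K] K) (w : Fin d → K) {κ : Type*} (x : κ → Fin d → K) :
    Dm lam w (Submodule.span K (Set.range x)) =
      Submodule.span _ (Set.range fun a => th lam w (x a)) := by
  apply le_antisymm
  · rw [Dm, Submodule.span_le]
    rintro _ ⟨y, hy, rfl⟩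
    rw [SetLike.mem_coe] at hy
    induction hy using Submodule.span_induction with
    | mem y hy => obtain ⟨a, rfl⟩ := hy; exact Submodule.subset_span ⟨a, rfl⟩
    | zero => rw [th_zero]; exact zero_mem _
    | add y z _ _ hy hz => rw [th_add]; exact add_mem hy hz
    | smul c y _ hy => rw [th_smul]; exact Submodule.smul_mem _ _ hy
  · rw [Submodule.span_le]
    rintro _ ⟨a, rfl⟩
    exact th_mem_Dm (Submodule.subset_span ⟨a, rfl⟩)

theorem sc_constantCoeff_th (lam : (Fin d → K) →ₗ[K] K) (w x : Fin d → K) :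
    sc PowerSeries.constantCoeff (th lam w x) = x := by
  ext i
  simp [th]

theorem ext_constantCoeff_Dm (lam : (Fin d → K) →ₗ[K] K) (w : Fin d → K)
    (V : Submodule K (Fin d → K)) :
    ext PowerSeries.constantCoeff (Dm lam w V) = V := by
  rw [Dm, ext_span, ← Set.image_comp]
  have : (sc PowerSeries.constantCoeff ∘ th lam w) = id := by
    funext x; exact sc_constantCoeff_th lam w x
  rw [this, Set.image_id, Submodule.span_eq]

theorem nice_Dm (lam : (Fin d → K) →ₗ[K] K) (w : Fin d → K) (V : Submodule K (Fin d → K)) {r : ℕ}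
    (hV : Module.finrank K V = r) : Nice (d - r) (Dm lam w V) := by
  subst hV
  obtain ⟨x, hx, hVx⟩ := exists_basis_span V
  obtain ⟨l, hl⟩ := exists_functional hx
  have h1 : Dm lam w V = Submodule.span _ (Set.range fun a => th lam w (x a)) := by
    rw [← Dm_span, ← hVx]
  rw [h1]
  refine nice_of_det (Fintype.card_fin _) _ (lext PowerSeries.C l) ?_
  rw [PowerSeries.isUnit_iff_constantCoeff, RingHom.map_det]
  have h2 : PowerSeries.constantCoeff.mapMatrix
      (Matrix.of fun i j => lext PowerSeries.C l (th lam w (x j)) i) = 1 := by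
    ext i j
    rw [RingHom.mapMatrix_apply, Matrix.map_apply, Matrix.of_apply, th, map_add, map_smul,
      lext_sc, lext_sc, hl, Pi.add_apply, Pi.smul_apply, sc_apply, sc_apply, map_add, smul_eq_mul,
      map_mul, map_mul, PowerSeries.constantCoeff_X, zero_mul, zero_mul, add_zero,
      PowerSeries.constantCoeff_C, Matrix.one_apply, Pi.single_apply]
  rw [h2, Matrix.det_one]
  exact isUnit_one

/-- The functional at vertex `i` induced by a functional at vertex `0`. -/
def lamF (G : ℕ → Module.End K (Fin d → K)) (l0 : (Fin d → K) →ₗ[K] K) :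
    ℕ → ((Fin d → K) →ₗ[K] K)
  | 0 => l0
  | i + 1 => (lamF G l0 i).comp (G i)

/-- The descent from vertex `i` to vertex `0`. -/
def DG (G : ℕ → Module.End K (Fin d → K)) : ℕ → Module.End K (Fin d → K)
  | 0 => LinearMap.id
  | i + 1 => (DG G i).comp (G i)

theorem lamF_eq (G : ℕ → Module.End K (Fin d → K)) (l0 : (Fin d → K) →ₗ[K] K) (i : ℕ)
    (x : Fin d → K) : lamF G l0 i x = l0 (DG G i x) := by
  induction i generalizing x with
  | zero => rfl
  | succ i ih => exact ih (G i x)

theorem DG_inj {n : ℕ} {G : ℕ → Module.End K (Fin d → K)}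
    (hIII : ∀ i, i + 1 < n → LinearMap.range (G (i + 1)) ⊓ LinearMap.ker (G i) = ⊥) {j : ℕ}
    (hj : j < n) {z : Fin d → K} (hz : z ∈ LinearMap.range (G j)) (h0 : DG G j z = 0) : z = 0 := by
  induction j generalizing z with
  | zero => exact h0
  | succ j ih =>
    have h1 : G j z = 0 := ih (by omega) ⟨z, rfl⟩ h0
    have h2 : z ∈ LinearMap.range (G (j + 1)) ⊓ LinearMap.ker (G j) := ⟨hz, h1⟩
    rw [hIII j hj] at h2
    exact h2

/-- A family of functionals and vectors deforms a chain. -/
theorem Dm_chain {n : ℕ} {F G : ℕ → Module.End K (Fin d → K)}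
    (hGF : ∀ i < n, (G i).comp (F i) = 0)
    {V : ℕ → Submodule K (Fin d → K)}
    (hF : ∀ i < n, (V i).map (F i) ≤ V (i + 1)) (hG : ∀ i < n, (V (i + 1)).map (G i) ≤ V i)
    (lam : ℕ → ((Fin d → K) →ₗ[K] K)) (w : ℕ → Fin d → K)
    (ha : ∀ i < n, ∀ x ∈ V (i + 1), lam i (G i x) = lam (i + 1) x)
    (hc : ∀ i < n, lam i = 0 ∨ (F i (w i) ∈ V (i + 1) ∧ lam (i + 1) (F i (w i)) = 0))
    (hd : ∀ i < n, lam (i + 1) = 0 ∨ G i (w (i + 1)) = w i) :
    (∀ i < n, (Dm (lam i) (w i) (V i)).map (lext PowerSeries.C (F i)) ≤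
      Dm (lam (i + 1)) (w (i + 1)) (V (i + 1))) ∧
    (∀ i < n, (Dm (lam (i + 1)) (w (i + 1)) (V (i + 1))).map (lext PowerSeries.C (G i)) ≤
      Dm (lam i) (w i) (V i)) := by
  have key : ∀ (h : Module.End K (Fin d → K)) (l : (Fin d → K) →ₗ[K] K) (v x : Fin d → K),
      lext PowerSeries.C h (th l v x) =
        sc PowerSeries.C (h x) + (PowerSeries.X * PowerSeries.C (l x)) • sc PowerSeries.C (h v) := by
    intro h l v x
    rw [th, map_add, map_smul, lext_sc, lext_sc]
  constructor
  · intro i hi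
    rw [Dm, Submodule.map_span_le]
    rintro _ ⟨x, hx, rfl⟩
    rw [key]
    have h1 : F i x ∈ V (i + 1) := hF i hi ⟨x, hx, rfl⟩
    have h2 : lam (i + 1) (F i x) = 0 := by
      rw [← ha i hi _ h1]
      have := LinearMap.congr_fun (hGF i hi) x
      rw [LinearMap.comp_apply, LinearMap.zero_apply] at this
      rw [this, map_zero]
    refine add_mem ?_ ?_
    · rw [← th_of_lam_eq_zero (w := w (i + 1)) h2]
      exact th_mem_Dm h1
    · rcases hc i hi with h | ⟨h, h'⟩
      · rw [h, LinearMap.zero_apply, map_zero, mul_zero, zero_smul]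
        exact zero_mem _
      · rw [← th_of_lam_eq_zero (w := w (i + 1)) h']
        exact Submodule.smul_mem _ _ (th_mem_Dm h)
  · intro i hi
    rw [Dm, Submodule.map_span_le]
    rintro _ ⟨x, hx, rfl⟩
    rw [key]
    have h1 : G i x ∈ V i := hG i hi ⟨x, hx, rfl⟩
    have h2 : sc PowerSeries.C (G i x) + (PowerSeries.X * PowerSeries.C (lam (i + 1) x)) •
        sc PowerSeries.C (G i (w (i + 1))) = th (lam i) (w i) (G i x) := by
      rw [th, ha i hi x hx]
      rcases hd i hi with h | h
      · rw [h, LinearMap.zero_apply, map_zero, mul_zero, zero_smul, zero_smul]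
      · rw [h]
    rw [h2]
    exact th_mem_Dm h1

/-- A chain which is not exact at the edge `j` deforms to one with larger rank of `F j`. -/
theorem exists_deformation {n r : ℕ} (F G : ℕ → Module.End K (Fin d → K))
    (hFG : ∀ i < n, (F i).comp (G i) = 0) (hGF : ∀ i < n, (G i).comp (F i) = 0)
    (hkF : ∀ i < n, LinearMap.ker (F i) ≤ LinearMap.range (G i))
    (hkG : ∀ i < n, LinearMap.ker (G i) ≤ LinearMap.range (F i))
    (hIII : ∀ i, i + 1 < n → LinearMap.range (G (i + 1)) ⊓ LinearMap.ker (G i) = ⊥)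
    (V : ℕ → Submodule K (Fin d → K)) (hr : ∀ j ≤ n, Module.finrank K (V j) = r)
    (hF : ∀ i < n, (V i).map (F i) ≤ V (i + 1)) (hG : ∀ i < n, (V (i + 1)).map (G i) ≤ V i)
    {j : ℕ} (hj : j < n)
    (hne : Module.finrank K ((V j).map (F j)) + Module.finrank K ((V (j + 1)).map (G j)) < r) :
    ∃ V' : ℕ → Submodule (PowerSeries K) (Fin d → PowerSeries K),
      (∀ i ≤ n, Nice (d - r) (V' i)) ∧
      (∀ i < n, (V' i).map (lext PowerSeries.C (F i)) ≤ V' (i + 1)) ∧
      (∀ i < n, (V' (i + 1)).map (lext PowerSeries.C (G i)) ≤ V' i) ∧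
      (∀ i ≤ n, ext PowerSeries.constantCoeff (V' i) = V i) ∧
      ∀ (Q : Type u) [Field Q] (ψ : PowerSeries K →+* Q), Function.Injective ψ →
        Module.finrank K ((V j).map (F j)) <
          Module.finrank Q ((ext ψ (V' j)).map (lext (ψ.comp PowerSeries.C) (F j))) ∧
        Module.finrank Q ((ext ψ (V' (j + 1))).map (lext (ψ.comp PowerSeries.C) (G j))) =
          Module.finrank K ((V (j + 1)).map (G j)) := by
  -- the vector `u`
  have hu : ¬ LinearMap.ker (F j) ⊓ V j ≤ (V (j + 1)).map (G j) := by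
    intro h
    have h1 := finrank_map_add_finrank_ker_inf (F j) (V j)
    have h2 := Submodule.finrank_mono h
    rw [hr j (by omega)] at h1
    omega
  have hv : ¬ LinearMap.ker (G j) ⊓ V (j + 1) ≤ (V j).map (F j) := by
    intro h
    have h1 := finrank_map_add_finrank_ker_inf (G j) (V (j + 1))
    have h2 := Submodule.finrank_mono h
    rw [hr (j + 1) (by omega)] at h1
    omega
  obtain ⟨u, ⟨huF, huV⟩, huG⟩ := SetLike.not_le_iff_exists.1 hu
  obtain ⟨v, ⟨hvG, hvV⟩, hvF⟩ := SetLike.not_le_iff_exists.1 hv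
  obtain ⟨vt, hvt⟩ := hkG j hj hvG
  -- the functional at vertex `0`
  have hl0 : DG G j u ∉ ((V (j + 1)).map (G j)).map (DG G j) := by
    rintro ⟨z, hz, hzu⟩
    obtain ⟨y, hy, rfl⟩ := hz
    have h1 : DG G j (u - G j y) = 0 := by rw [map_sub, hzu, sub_self]
    have h2 : u - G j y ∈ LinearMap.range (G j) := by
      refine sub_mem (hkF j hj huF) ⟨y, rfl⟩
    have h3 := DG_inj hIII hj h2 h1
    apply huG
    rw [sub_eq_zero.1 h3]
    exact ⟨y, hy, rfl⟩
  obtain ⟨l0', hl0', hl0k⟩ := Submodule.exists_le_ker_of_notMem hl0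
  set l0 : (Fin d → K) →ₗ[K] K := (l0' (DG G j u))⁻¹ • l0' with hl0def
  have hl0u : l0 (DG G j u) = 1 := by
    rw [hl0def, LinearMap.smul_apply, smul_eq_mul, inv_mul_cancel₀ hl0']
  have hl0G : ∀ y ∈ V (j + 1), l0 (DG G j (G j y)) = 0 := by
    intro y hy
    have h1 : l0' (DG G j (G j y)) = 0 := hl0k ⟨_, ⟨y, hy, rfl⟩, rfl⟩
    rw [hl0def, LinearMap.smul_apply, h1, smul_zero]
  -- the families
  let lam : ℕ → ((Fin d → K) →ₗ[K] K) := fun i => if i ≤ j then lamF G l0 i else 0
  let w : ℕ → Fin d → K := fun i => tr F G j i vt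
  have hlam : ∀ i, i ≤ j → lam i = lamF G l0 i := fun i hi => if_pos hi
  have hlam' : ∀ i, j < i → lam i = 0 := fun i hi => if_neg (by omega)
  have hw : w j = vt := by
    change tr F G j j vt = vt
    rw [tr_self]; rfl
  have hchain := Dm_chain (n := n) hGF hF hG lam w
    (by
      intro i hi x hx
      rcases Nat.lt_trichotomy i j with h | h | h
      · rw [hlam i h.le, hlam (i + 1) h]; rfl
      · subst h
        rw [hlam i le_rfl, hlam' (i + 1) (by omega), lamF_eq, hl0G x hx, LinearMap.zero_apply]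
      · rw [hlam' i h, hlam' (i + 1) (by omega), LinearMap.zero_apply, LinearMap.zero_apply])
    (by
      intro i hi
      rcases Nat.lt_trichotomy i j with h | h | h
      · refine Or.inr ?_
        have h1 : w i = G i (w (i + 1)) := by
          change tr F G j i vt = G i (tr F G j (i + 1) vt)
          rw [← G_tr F G h]; rfl
        have h2 : F i (w i) = 0 := by
          rw [h1]; exact LinearMap.congr_fun (hFG i hi) _
        rw [h2, map_zero]
        exact ⟨zero_mem _, rfl⟩
      · subst h
        refine Or.inr ?_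
        rw [hw, hvt, hlam' (i + 1) (by omega)]
        exact ⟨hvV, rfl⟩
      · exact Or.inl (hlam' i h))
    (by
      intro i hi
      rcases Nat.lt_or_ge i j with h | h
      · refine Or.inr ?_
        change G i (tr F G j (i + 1) vt) = tr F G j i vt
        rw [← G_tr F G h]; rfl
      · exact Or.inl (hlam' _ (by omega)))
  refine ⟨fun i => Dm (lam i) (w i) (V i), fun i hi => nice_Dm _ _ _ (hr i hi), hchain.1, hchain.2,
    fun i _ => ext_constantCoeff_Dm _ _ _, ?_⟩
  intro Q _ ψ hψ
  constructor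
  · -- the rank of `F j` grows
    have hlu : lam j u = 1 := by rw [hlam j le_rfl, lamF_eq, hl0u]
    have hle : ext (ψ.comp PowerSeries.C) ((V j).map (F j) ⊔ Submodule.span K {v}) ≤
        (ext ψ (Dm (lam j) (w j) (V j))).map (lext (ψ.comp PowerSeries.C) (F j)) := by
      rw [map_lext_ext', ext_comp]
      rw [ext_sup, ext_sup]
      refine sup_le ?_ ?_
      · refine ext_mono ψ ?_
        rw [ext_le_iff]
        rintro _ ⟨x, hx, rfl⟩
        have h1 : F j x = F j (x - lam j x • u) := by
          rw [map_sub, map_smul, LinearMap.mem_ker.1 huF, smul_zero, sub_zero]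
        have h2 : lam j (x - lam j x • u) = 0 := by
          rw [map_sub, map_smul, hlu, smul_eq_mul, mul_one, sub_self]
        rw [h1, ← lext_sc]
        refine Submodule.mem_map_of_mem ?_
        rw [← th_of_lam_eq_zero (w := w j) h2]
        exact th_mem_Dm (sub_mem hx (Submodule.smul_mem _ _ huV))
      · have h3 : ext PowerSeries.C (Submodule.span K {v}) =
            Submodule.span (PowerSeries K) {sc PowerSeries.C v} := by
          rw [ext_span, Set.image_singleton]
        rw [h3, ext_span, Set.image_singleton, Submodule.span_singleton_le_iff_mem]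
        have h4 : lext PowerSeries.C (F j) (th (lam j) (w j) u) =
            (PowerSeries.X : PowerSeries K) • sc PowerSeries.C v := by
          rw [th, map_add, map_smul, lext_sc, lext_sc, LinearMap.mem_ker.1 huF, sc_zero, zero_add,
            hlu, map_one, mul_one, hw, hvt]
        have h5 : (PowerSeries.X : PowerSeries K) • sc PowerSeries.C v ∈
            (Dm (lam j) (w j) (V j)).map (lext PowerSeries.C (F j)) :=
          ⟨_, th_mem_Dm huV, h4⟩
        have h6 := sc_mem_ext ψ h5
        rw [sc_smul] at h6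
        have h7 : ψ PowerSeries.X ≠ 0 := fun h0 =>
          PowerSeries.X_ne_zero (hψ (h0.trans (map_zero ψ).symm))
        exact (Submodule.smul_mem_iff _ h7).1 h6
    have h8 := Submodule.finrank_mono hle
    rw [finrank_ext] at h8
    refine lt_of_lt_of_le ?_ h8
    refine Submodule.finrank_lt_finrank_of_lt ?_
    refine lt_of_le_of_ne le_sup_left fun h => hvF ?_
    rw [h]
    exact le_sup_right (a := (V j).map (F j)) (Submodule.mem_span_singleton_self v)
  · have h1 : Dm (lam (j + 1)) (w (j + 1)) (V (j + 1)) = ext PowerSeries.C (V (j + 1)) := by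
      rw [Dm, ext]
      congr 1
      refine Set.image_congr fun x _ => ?_
      exact th_of_lam_eq_zero (by rw [hlam' (j + 1) (by omega)]; rfl)
    have h2 : ∀ N : Submodule (PowerSeries K) (Fin d → PowerSeries K),
        N = ext PowerSeries.C (V (j + 1)) →
        Module.finrank Q ((ext ψ N).map (lext (ψ.comp PowerSeries.C) (G j))) =
          Module.finrank K ((V (j + 1)).map (G j)) := by
      rintro _ rfl
      rw [← ext_comp, map_lext_ext, finrank_ext]
    exact h2 _ h1

end Def

end K808.LD
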