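import Groth.Prelude.Def_W4c1limliniiiiLG
import Mathlib.LinearAlgebra.TensorProduct.RightExactness
import Mathlib.LinearAlgebra.FiniteDimensional.Lemmas
import Mathlib.LinearAlgebra.Determinant
import Mathlib.RingTheory.LocalRing.ResidueField.Ideal
import Mathlib.RingTheory.Localization.FractionRing
import Mathlib.RingTheory.Localization.Integer
import Mathlib.Tactic

/-!
Base change of submodules of `A ⊗ M` along maps of algebras, and the Grassmannian points.
-/

set_option autoImplicit false

universe u v w

open TensorProduct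

namespace K808.LGa

section Ext

variable {R : Type*} [CommRing R] {M : Type*} [AddCommGroup M] [Module R M]
variable {M' : Type*} [AddCommGroup M'] [Module R M']
variable {A B C : Type*} [CommRing A] [Algebra R A] [CommRing B] [Algebra R B] [CommRing C]
  [Algebra R C]

/-- The semilinear map `A ⊗ M → B ⊗ M` induced by `φ : A → B`. -/
noncomputable def scal (φ : A →ₐ[R] B) : A ⊗[R] M →ₗ[R] B ⊗[R] M :=
  TensorProduct.map φ.toLinearMap LinearMap.id

@[simp] theorem scal_tmul (φ : A →ₐ[R] B) (a : A) (m : M) :
    scal φ (a ⊗ₜ[R] m) = φ a ⊗ₜ[R] m := rfl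

theorem scal_smul (φ : A →ₐ[R] B) (a : A) (x : A ⊗[R] M) : scal φ (a • x) = φ a • scal φ x := by
  induction x using TensorProduct.induction_on with
  | zero => simp
  | tmul b m => simp [TensorProduct.smul_tmul']
  | add x y hx hy => rw [smul_add, map_add, hx, hy, map_add, smul_add]

theorem scal_comp (φ : A →ₐ[R] B) (ψ : B →ₐ[R] C) (x : A ⊗[R] M) :
    scal (ψ.comp φ) x = scal ψ (scal φ x) := by
  induction x using TensorProduct.induction_on with
  | zero => simp
  | tmul b m => simp
  | add x y hx hy => rw [map_add, hx, hy, map_add, map_add]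

theorem scal_id (x : A ⊗[R] M) : scal (AlgHom.id R A) x = x := by
  induction x using TensorProduct.induction_on with
  | zero => simp
  | tmul b m => simp
  | add x y hx hy => rw [map_add, hx, hy]

theorem scal_surjective {φ : A →ₐ[R] B} (hφ : Function.Surjective φ) :
    Function.Surjective (scal (M := M) φ) :=
  TensorProduct.map_surjective hφ Function.surjective_id

theorem baseChange_scal (φ : A →ₐ[R] B) (h : M →ₗ[R] M') (x : A ⊗[R] M) :
    h.baseChange B (scal φ x) = scal φ (h.baseChange A x) := by
  induction x using TensorProduct.induction_on with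
  | zero => simp
  | tmul b m => simp
  | add x y hx hy => rw [map_add, map_add, hx, hy, map_add, map_add]

/-- The `B`-submodule generated by the image of an `A`-submodule. -/
noncomputable def ext (φ : A →ₐ[R] B) (N : Submodule A (A ⊗[R] M)) : Submodule B (B ⊗[R] M) :=
  Submodule.span B (scal φ '' (N : Set (A ⊗[R] M)))

theorem scal_mem_ext (φ : A →ₐ[R] B) {N : Submodule A (A ⊗[R] M)} {x : A ⊗[R] M} (hx : x ∈ N) :
    scal φ x ∈ ext φ N := Submodule.subset_span ⟨x, hx, rfl⟩

theorem ext_le_iff (φ : A →ₐ[R] B) {N : Submodule A (A ⊗[R] M)} {N' : Submodule B (B ⊗[R] M)} :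
    ext φ N ≤ N' ↔ ∀ x ∈ N, scal φ x ∈ N' := by
  rw [ext, Submodule.span_le]
  constructor
  · intro h x hx
    exact h ⟨x, hx, rfl⟩
  · rintro h _ ⟨x, hx, rfl⟩
    exact h x hx

theorem ext_mono (φ : A →ₐ[R] B) {N N' : Submodule A (A ⊗[R] M)} (h : N ≤ N') :
    ext φ N ≤ ext φ N' :=
  Submodule.span_mono (Set.image_mono h)

theorem ext_span (φ : A →ₐ[R] B) (S : Set (A ⊗[R] M)) :
    ext φ (Submodule.span A S) = Submodule.span B (scal φ '' S) := by
  apply le_antisymm
  · rw [ext_le_iff]
    intro x hx
    induction hx using Submodule.span_induction with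
    | mem x hx => exact Submodule.subset_span ⟨x, hx, rfl⟩
    | zero => rw [map_zero]; exact zero_mem _
    | add x y _ _ hx hy => rw [map_add]; exact add_mem hx hy
    | smul a x _ hx => rw [scal_smul]; exact Submodule.smul_mem _ _ hx
  · rw [Submodule.span_le]
    rintro _ ⟨x, hx, rfl⟩
    exact scal_mem_ext φ (Submodule.subset_span hx)

theorem ext_comp (φ : A →ₐ[R] B) (ψ : B →ₐ[R] C) (N : Submodule A (A ⊗[R] M)) :
    ext (ψ.comp φ) N = ext ψ (ext φ N) := by
  have h : ext ψ (ext φ N) = Submodule.span C (scal ψ '' (scal φ '' (N : Set (A ⊗[R] M)))) :=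
    ext_span ψ _
  rw [h, ext]
  congr 1
  rw [← Set.image_comp]
  refine Set.image_congr fun x _ => ?_
  rw [scal_comp]; rfl

theorem ext_id (N : Submodule A (A ⊗[R] M)) : ext (AlgHom.id R A) N = N := by
  rw [ext]
  have : (scal (M := M) (AlgHom.id R A)) '' (N : Set (A ⊗[R] M)) = N := by
    have : (scal (M := M) (AlgHom.id R A) : A ⊗[R] M → A ⊗[R] M) = id := by
      ext x; exact scal_id x
    rw [this, Set.image_id]
  rw [this, Submodule.span_eq]

theorem map_ext (φ : A →ₐ[R] B) (h : M →ₗ[R] M') (N : Submodule A (A ⊗[R] M)) :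
    (ext φ N).map (h.baseChange B) = ext φ (N.map (h.baseChange A)) := by
  rw [ext, Submodule.map_span, ext]
  congr 1
  ext y
  constructor
  · rintro ⟨_, ⟨x, hx, rfl⟩, rfl⟩
    exact ⟨h.baseChange A x, ⟨x, hx, rfl⟩, (baseChange_scal φ h x).symm⟩
  · rintro ⟨_, ⟨x, hx, rfl⟩, rfl⟩
    exact ⟨scal φ x, ⟨x, hx, rfl⟩, baseChange_scal φ h x⟩

/-- Over a surjection every element of the extension is an image. -/
theorem exists_of_mem_ext {φ : A →ₐ[R] B} (hφ : Function.Surjective φ)
    {N : Submodule A (A ⊗[R] M)} {y : B ⊗[R] M} (hy : y ∈ ext φ N) : ∃ x ∈ N, scal φ x = y := by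
  rw [ext] at hy
  induction hy using Submodule.span_induction with
  | mem y hy => obtain ⟨x, hx, rfl⟩ := hy; exact ⟨x, hx, rfl⟩
  | zero => exact ⟨0, zero_mem _, map_zero _⟩
  | add y z _ _ hy hz =>
    obtain ⟨x, hx, rfl⟩ := hy; obtain ⟨x', hx', rfl⟩ := hz
    exact ⟨x + x', add_mem hx hx', map_add _ _ _⟩
  | smul b y _ hy =>
    obtain ⟨x, hx, rfl⟩ := hy
    obtain ⟨a, rfl⟩ := hφ b
    exact ⟨a • x, Submodule.smul_mem _ _ hx, scal_smul φ a x⟩

/-- Extension of linear maps `A ⊗ M → A ^ ι`. -/
noncomputable def lext {ι : Type*} (φ : A →ₐ[R] B) (l : A ⊗[R] M →ₗ[A] (ι → A)) :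
    B ⊗[R] M →ₗ[B] (ι → B) :=
  LinearMap.liftBaseChange B
    ((LinearMap.compLeft φ.toLinearMap ι).comp
      ((l.restrictScalars R).comp (TensorProduct.mk R A M 1)))

theorem lext_scal {ι : Type*} (φ : A →ₐ[R] B) (l : A ⊗[R] M →ₗ[A] (ι → A)) (x : A ⊗[R] M) (i : ι) :
    lext φ l (scal φ x) i = φ (l x i) := by
  induction x using TensorProduct.induction_on with
  | zero => simp
  | tmul a m =>
    have h1 : l (a ⊗ₜ[R] m) = a • l (1 ⊗ₜ[R] m) := by
      rw [← map_smul, TensorProduct.smul_tmul', smul_eq_mul, mul_one]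
    rw [scal_tmul, lext, LinearMap.liftBaseChange_tmul, h1]
    simp
  | add x y hx hy => rw [map_add, map_add, Pi.add_apply, hx, hy, map_add, Pi.add_apply, map_add]

end Ext

section Map

variable {R : Type u} [CommRing R] {M : Type v} [AddCommGroup M] [Module R M] {k : ℕ}
variable {A B : Type w} [CommRing A] [Algebra R A] [CommRing B] [Algebra R B]

theorem exact_lTensor_mkQ {A₁ B₁ M₁ : Type*} [CommRing A₁] [AddCommGroup M₁] [Module A₁ M₁]
    [CommRing B₁] [Algebra A₁ B₁] (N : Submodule A₁ M₁) :
    Function.Exact (N.subtype.lTensor B₁) (N.mkQ.lTensor B₁) := by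
  have h1 := LinearMap.exact_subtype_mkQ N
  exact lTensor_exact (R := A₁) (M := N) (N := M₁) (P := M₁ ⧸ N) B₁ (f := N.subtype) (g := N.mkQ) h1
    (Submodule.mkQ_surjective _)

/-- The submodule underlying the base change of a point of the Grassmannian. -/
theorem map_toSubmodule_eq (φ : A →ₐ[R] B) (N : Module.Grassmannian A (A ⊗[R] M) k) :
    (Module.Grassmannian.map φ N).toSubmodule = ext φ N.toSubmodule := by
  letI : Algebra A B := φ.toAlgebra
  haveI : IsScalarTower R A B :=
    IsScalarTower.of_algebraMap_eq' <| IsScalarTower.algebraMap_eq R A B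
  have h1 : (Module.Grassmannian.map φ N).toSubmodule =
      (Module.Grassmannian.baseChangeMkQ B N.toSubmodule).ker :=
    Module.Grassmannian.map_toSubmodule φ N
  rw [h1]
  have hex : Function.Exact (N.toSubmodule.subtype.lTensor B) (N.toSubmodule.mkQ.lTensor B) :=
    exact_lTensor_mkQ N.toSubmodule
  apply le_antisymm
  · intro x hx
    rw [LinearMap.mem_ker] at hx
    have h2 : (N.toSubmodule.mkQ.lTensor B)
        ((AlgebraTensorModule.cancelBaseChange R A B B M).symm x) = 0 := hx
    obtain ⟨z, hz⟩ := (hex _).1 h2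
    have h3 : x = AlgebraTensorModule.cancelBaseChange R A B B M (N.toSubmodule.subtype.lTensor B z) := by
      rw [hz, LinearEquiv.apply_symm_apply]
    rw [h3]
    clear h3 hz h2 hx
    induction z using TensorProduct.induction_on with
    | zero => rw [map_zero, map_zero]; exact zero_mem _
    | tmul b y =>
      have h4 : ∀ y : A ⊗[R] M, AlgebraTensorModule.cancelBaseChange R A B B M (b ⊗ₜ[A] y) =
          b • scal φ y := by
        intro y
        induction y using TensorProduct.induction_on with
        | zero => simp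
        | tmul a m =>
          rw [AlgebraTensorModule.cancelBaseChange_tmul, scal_tmul, TensorProduct.smul_tmul',
            Algebra.smul_def, smul_eq_mul, mul_comm]
          rfl
        | add y z hy hz => rw [TensorProduct.tmul_add, map_add, hy, hz, map_add, smul_add]
      rw [LinearMap.lTensor_tmul, h4]
      exact Submodule.smul_mem _ _ (scal_mem_ext φ y.2)
    | add y z hy hz => rw [map_add, map_add]; exact add_mem hy hz
  · rw [ext_le_iff]
    intro x hx
    rw [LinearMap.mem_ker]
    have h4 : (AlgebraTensorModule.cancelBaseChange R A B B M).symm (scal φ x) = 1 ⊗ₜ[A] x := by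
      clear hx
      rw [LinearEquiv.symm_apply_eq]
      induction x using TensorProduct.induction_on with
      | zero => simp
      | tmul a m =>
        rw [AlgebraTensorModule.cancelBaseChange_tmul, scal_tmul, Algebra.smul_def, mul_one]
        rfl
      | add y z hy hz => rw [map_add, hy, hz, TensorProduct.tmul_add, map_add]
    change (N.toSubmodule.mkQ.lTensor B)
        ((AlgebraTensorModule.cancelBaseChange R A B B M).symm (scal φ x)) = 0
    rw [h4, LinearMap.lTensor_tmul]
    have : N.toSubmodule.mkQ x = 0 := by simpa using hx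
    rw [this, TensorProduct.tmul_zero]

end Map

end K808.LGa
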