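import Groth.Agent.W4c1limliniiii.K808.LD
import Mathlib.LinearAlgebra.Dimension.OrzechProperty
import Mathlib.RingTheory.Smooth.Basic
import Mathlib.RingTheory.Localization.Away.Basic
import Mathlib.RingTheory.MvPolynomial.Basic

/-!
The parameter space of the chains of given type.
-/

set_option autoImplicit false

universe u

namespace K808.LP

open K808.LC K808.LN K808.LD K808.LE

/-- Indices of the generators of a chain of type `m`. -/
abbrev Ix (n : ℕ) (m : ℕ → ℕ) : Type := Σ j : Fin (n + 1), Fin (m j)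

section Gen

variable {R : Type*} [CommRing R] {d n : ℕ} (F G : ℕ → Module.End R (Fin d → R)) {m : ℕ → ℕ}
variable {A B : Type*} [CommRing A] [CommRing B]

/-- The generators at vertex `j`. -/
noncomputable def gv (ρ : R →+* A) (w : Ix n m → Fin d → A) (j : ℕ) (a : Ix n m) : Fin d → A :=
  lext ρ (tr F G a.1 j) (w a)

/-- The chain with given generators. -/
noncomputable def vc (ρ : R →+* A) (w : Ix n m → Fin d → A) (j : ℕ) : Submodule A (Fin d → A) :=
  Submodule.span A (Set.range (gv F G ρ w j))

/-- The determinants of the functionals on the generators. -/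
noncomputable def gd (ρ : R →+* A) (w : Ix n m → Fin d → A)
    (l : Fin (n + 1) → Matrix (Ix n m) (Fin d) A) (j : Fin (n + 1)) : A :=
  (Matrix.of fun a b => (l j).mulVec (gv F G ρ w j b) a).det

theorem gv_map (ρ : R →+* A) (φ : A →+* B) (w : Ix n m → Fin d → A) (j : ℕ) (a : Ix n m) :
    gv F G (φ.comp ρ) (fun a => sc φ (w a)) j a = sc φ (gv F G ρ w j a) := by
  rw [gv, lext_sc']; rfl

theorem ext_vc (ρ : R →+* A) (φ : A →+* B) (w : Ix n m → Fin d → A) (j : ℕ) :
    ext φ (vc F G ρ w j) = vc F G (φ.comp ρ) (fun a => sc φ (w a)) j := by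
  rw [vc, ext_span_range, vc]
  congr 2
  funext a
  exact (gv_map F G ρ φ w j a).symm

theorem gd_map (ρ : R →+* A) (φ : A →+* B) (w : Ix n m → Fin d → A)
    (l : Fin (n + 1) → Matrix (Ix n m) (Fin d) A) (j : Fin (n + 1)) :
    gd F G (φ.comp ρ) (fun a => sc φ (w a)) (fun j => (l j).map φ) j = φ (gd F G ρ w l j) := by
  rw [gd, gd, RingHom.map_det]
  congr 1
  ext a b
  rw [Matrix.of_apply, RingHom.mapMatrix_apply, Matrix.map_apply, Matrix.of_apply, gv_map,
    RingHom.map_mulVec]
  rfl

theorem vc_nice {r : ℕ} (hm : Fintype.card (Ix n m) = r) (ρ : R →+* A) (w : Ix n m → Fin d → A)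
    (l : Fin (n + 1) → Matrix (Ix n m) (Fin d) A) (hl : ∀ j, IsUnit (gd F G ρ w l j)) {j : ℕ}
    (hj : j ≤ n) : Nice (d - r) (vc F G ρ w j) :=
  nice_of_det hm _ (l ⟨j, by omega⟩).mulVecLin (hl ⟨j, by omega⟩)

variable {F G}

theorem vc_fwd {s : R} (hFG : ∀ i < n, (F i).comp (G i) = s • LinearMap.id) (ρ : R →+* A)
    (w : Ix n m → Fin d → A) {j : ℕ} (hj : j < n) :
    (vc F G ρ w j).map (lext ρ (F j)) ≤ vc F G ρ w (j + 1) := by
  rw [vc, Submodule.map_span_le]
  rintro _ ⟨a, rfl⟩
  have h1 : lext ρ (F j) (gv F G ρ w j a) = lext ρ ((F j).comp (tr F G a.1 j)) (w a) := by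
    rw [lext_comp]; rfl
  rw [h1]
  rcases Nat.lt_or_ge j a.1 with h | h
  · rw [F_tr' F G h (hFG j hj), lext_smul]
    exact Submodule.smul_mem _ _ (Submodule.subset_span ⟨a, rfl⟩)
  · rw [F_tr F G h]
    exact Submodule.subset_span ⟨a, rfl⟩

theorem vc_bwd {s : R} (hGF : ∀ i < n, (G i).comp (F i) = s • LinearMap.id) (ρ : R →+* A)
    (w : Ix n m → Fin d → A) {j : ℕ} (hj : j < n) :
    (vc F G ρ w (j + 1)).map (lext ρ (G j)) ≤ vc F G ρ w j := by
  rw [vc, Submodule.map_span_le]
  rintro _ ⟨a, rfl⟩
  have h1 : lext ρ (G j) (gv F G ρ w (j + 1) a) = lext ρ ((G j).comp (tr F G a.1 (j + 1))) (w a) := by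
    rw [lext_comp]; rfl
  rw [h1]
  rcases Nat.lt_or_ge j a.1 with h | h
  · rw [G_tr F G h]
    exact Submodule.subset_span ⟨a, rfl⟩
  · rw [G_tr' F G h (hGF j hj), lext_smul]
    exact Submodule.smul_mem _ _ (Submodule.subset_span ⟨a, rfl⟩)

end Gen

section Univ

variable (R : Type u) [CommRing R] (d n : ℕ) (F G : ℕ → Module.End R (Fin d → R)) (m : ℕ → ℕ)

/-- The variables. -/
abbrev Vr : Type := (Ix n m × Fin d) ⊕ (Fin (n + 1) × Ix n m × Fin d)

/-- The universal generators. -/
noncomputable def w0 (a : Ix n m) (c : Fin d) : MvPolynomial (Vr d n m) R :=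
  MvPolynomial.X (Sum.inl (a, c))

/-- The universal functionals. -/
noncomputable def l0 (j : Fin (n + 1)) : Matrix (Ix n m) (Fin d) (MvPolynomial (Vr d n m) R) :=
  Matrix.of fun a c => MvPolynomial.X (Sum.inr (j, a, c))

/-- The discriminant. -/
noncomputable def dl : MvPolynomial (Vr d n m) R :=
  ∏ j : Fin (n + 1), gd F G MvPolynomial.C (w0 R d n m) (l0 R d n m) j

/-- The parameter ring. -/
def PB : Type u := Localization.Away (dl R d n F G m)

noncomputable instance : CommRing (PB R d n F G m) :=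
  inferInstanceAs (CommRing (Localization.Away (dl R d n F G m)))

noncomputable instance : Algebra (MvPolynomial (Vr d n m) R) (PB R d n F G m) :=
  inferInstanceAs (Algebra (MvPolynomial (Vr d n m) R) (Localization.Away (dl R d n F G m)))

instance : IsLocalization.Away (dl R d n F G m) (PB R d n F G m) :=
  inferInstanceAs (IsLocalization.Away (dl R d n F G m) (Localization.Away (dl R d n F G m)))

/-- The structure map of the parameter ring. -/
noncomputable def rB : R →+* PB R d n F G m :=
  (algebraMap (MvPolynomial (Vr d n m) R) (PB R d n F G m)).comp MvPolynomial.C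

/-- The generators over the parameter ring. -/
noncomputable def wB (a : Ix n m) : Fin d → PB R d n F G m :=
  sc (algebraMap (MvPolynomial (Vr d n m) R) (PB R d n F G m)) (w0 R d n m a)

/-- The functionals over the parameter ring. -/
noncomputable def lB (j : Fin (n + 1)) : Matrix (Ix n m) (Fin d) (PB R d n F G m) :=
  (l0 R d n m j).map (algebraMap (MvPolynomial (Vr d n m) R) (PB R d n F G m))

theorem isUnit_gdB (j : Fin (n + 1)) :
    IsUnit (gd F G (rB R d n F G m) (wB R d n F G m) (lB R d n F G m) j) := by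
  have h1 := gd_map F G MvPolynomial.C
    (algebraMap (MvPolynomial (Vr d n m) R) (PB R d n F G m)) (w0 R d n m) (l0 R d n m) j
  have h2 : IsUnit (algebraMap (MvPolynomial (Vr d n m) R) (PB R d n F G m) (dl R d n F G m)) :=
    IsLocalization.Away.algebraMap_isUnit _
  have h4 : algebraMap (MvPolynomial (Vr d n m) R) (PB R d n F G m) (dl R d n F G m) =
      ∏ j : Fin (n + 1), algebraMap (MvPolynomial (Vr d n m) R) (PB R d n F G m)
        (gd F G MvPolynomial.C (w0 R d n m) (l0 R d n m) j) := map_prod _ _ _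
  rw [h4] at h2
  have h3 := (IsUnit.prod_iff.1 h2) j (Finset.mem_univ j)
  rw [← h1] at h3
  exact h3

variable {R d n F G m}

/-- The universal property of the parameter ring. -/
theorem exists_hom {A : Type*} [CommRing A] (ρ : R →+* A) (w : Ix n m → Fin d → A)
    (l : Fin (n + 1) → Matrix (Ix n m) (Fin d) A) (hl : ∀ j, IsUnit (gd F G ρ w l j)) :
    ∃ φ : PB R d n F G m →+* A, φ.comp (rB R d n F G m) = ρ ∧
      ∀ a, sc φ (wB R d n F G m a) = w a := by
  let φ0 : MvPolynomial (Vr d n m) R →+* A :=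
    MvPolynomial.eval₂Hom ρ (Sum.elim (fun q => w q.1 q.2) (fun q => l q.1 q.2.1 q.2.2))
  have h1 : φ0.comp MvPolynomial.C = ρ := by
    ext x; simp [φ0]
  have h2 : (fun a => sc φ0 (w0 R d n m a)) = w := by
    funext a c; simp [φ0, w0, sc]
  have h3 : (fun j => (l0 R d n m j).map φ0) = l := by
    funext j; ext a c; simp [φ0, l0]
  have h4 : IsUnit (φ0 (dl R d n F G m)) := by
    rw [dl, map_prod, IsUnit.prod_iff]
    intro j _
    have h5 := gd_map F G MvPolynomial.C φ0 (w0 R d n m) (l0 R d n m) j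
    rw [h1, h2, h3] at h5
    rw [← h5]
    exact hl j
  refine ⟨IsLocalization.Away.lift (dl R d n F G m) h4, ?_, ?_⟩
  · rw [rB, ← RingHom.comp_assoc]
    have : (IsLocalization.Away.lift (S := PB R d n F G m) (dl R d n F G m) h4).comp
        (algebraMap (MvPolynomial (Vr d n m) R) (PB R d n F G m)) = φ0 :=
      IsLocalization.Away.lift_comp _ _
    rw [this, h1]
  · intro a
    rw [wB, ← sc_comp]
    have : (IsLocalization.Away.lift (S := PB R d n F G m) (dl R d n F G m) h4).comp
        (algebraMap (MvPolynomial (Vr d n m) R) (PB R d n F G m)) = φ0 :=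
      IsLocalization.Away.lift_comp _ _
    rw [this]
    exact congrFun h2 a

theorem isDomain_PB [IsDomain R] [Nontrivial (PB R d n F G m)] :
    IsDomain (PB R d n F G m) ∧ Function.Injective (rB R d n F G m) := by
  have h0 : dl R d n F G m ≠ 0 := by
    intro h
    have h2 : IsUnit (algebraMap (MvPolynomial (Vr d n m) R) (PB R d n F G m) (dl R d n F G m)) :=
      IsLocalization.Away.algebraMap_isUnit _
    have h3 : algebraMap (MvPolynomial (Vr d n m) R) (PB R d n F G m) (dl R d n F G m) = 0 := by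
      have : ∀ x : MvPolynomial (Vr d n m) R, x = 0 →
          algebraMap (MvPolynomial (Vr d n m) R) (PB R d n F G m) x = 0 := by
        rintro _ rfl
        exact map_zero _
      exact this _ h
    rw [h3] at h2
    exact not_isUnit_zero h2
  have h1 : Submonoid.powers (dl R d n F G m) ≤ nonZeroDivisors (MvPolynomial (Vr d n m) R) :=
    powers_le_nonZeroDivisors_of_noZeroDivisors h0
  refine ⟨IsLocalization.isDomain_localization h1, ?_⟩
  rw [rB]
  exact (IsLocalization.injective (PB R d n F G m) h1).comp (MvPolynomial.C_injective _ _)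

end Univ

section FieldPt

variable {R : Type u} [CommRing R] {d n r : ℕ} {F G : ℕ → Module.End R (Fin d → R)}
variable {K : Type u} [Field K]

theorem tr_lext {A : Type*} [CommRing A] (ρ : R →+* A) (i j : ℕ) :
    tr (fun i => lext ρ (F i)) (fun i => lext ρ (G i)) i j = lext ρ (tr F G i j) := by
  have hup : ∀ k, up (fun i => lext ρ (F i)) i k = lext ρ (up F i k) := by
    intro k
    induction k with
    | zero => exact (lext_id_map ρ).symm
    | succ k ih =>
      change (lext ρ (F (i + k))).comp (up _ i k) = lext ρ ((F (i + k)).comp (up F i k))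
      rw [ih, lext_comp]
  have hdn : ∀ k, dn (fun i => lext ρ (G i)) i k = lext ρ (dn G i k) := by
    intro k
    induction k with
    | zero => exact (lext_id_map ρ).symm
    | succ k ih =>
      change (lext ρ (G (i - (k + 1)))).comp (dn _ i k) =
        lext ρ ((G (i - (k + 1))).comp (dn G i k))
      rw [ih, lext_comp]
  rw [tr, tr]
  split_ifs
  · exact hup _
  · exact hdn _

/-- A chain over a field generated by subspaces at the vertices is a chain with generators. -/
theorem exists_gen_of_Sp (ρ : R →+* K) (V W : ℕ → Submodule K (Fin d → K)) {m : ℕ → ℕ}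
    (hm : Fintype.card (Ix n m) = r)
    (hr : ∀ j ≤ n, Module.finrank K (V j) = r)
    (hF : ∀ i < n, (V i).map (lext ρ (F i)) ≤ V (i + 1))
    (hG : ∀ i < n, (V (i + 1)).map (lext ρ (G i)) ≤ V i)
    (hWV : ∀ j ≤ n, W j ≤ V j) (hW : ∀ j ≤ n, Module.finrank K (W j) = m j)
    (hS : ∀ j ≤ n, V j ≤ Sp (fun i => lext ρ (F i)) (fun i => lext ρ (G i)) n W j) :
    ∃ (w : Ix n m → Fin d → K) (l : Fin (n + 1) → Matrix (Ix n m) (Fin d) K),
      (∀ j, IsUnit (gd F G ρ w l j)) ∧ ∀ j ≤ n, V j = vc F G ρ w j := by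
  have hx : ∀ j : Fin (n + 1), ∃ x : Fin (m j) → Fin d → K,
      W j = Submodule.span K (Set.range x) := by
    intro j
    obtain ⟨x, -, hx⟩ := exists_basis_span (W j)
    have h1 := hW j (by omega)
    refine ⟨fun a => x (Fin.cast h1.symm a), hx.trans ?_⟩
    congr 1
    ext y
    constructor
    · rintro ⟨a, rfl⟩; exact ⟨Fin.cast h1 a, rfl⟩
    · rintro ⟨a, rfl⟩; exact ⟨Fin.cast h1.symm a, rfl⟩
  choose x hx using hx
  let w : Ix n m → Fin d → K := fun a => x a.1 a.2
  have hV : ∀ j ≤ n, V j = vc F G ρ w j := by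
    intro j hj
    apply le_antisymm
    · refine (hS j hj).trans (iSup_le fun i => ?_)
      rw [hx i, Submodule.map_span, tr_lext, Submodule.span_le]
      rintro _ ⟨_, ⟨a, rfl⟩, rfl⟩
      exact Submodule.subset_span ⟨⟨i, a⟩, rfl⟩
    · rw [vc, Submodule.span_le]
      rintro _ ⟨⟨i, a⟩, rfl⟩
      have h1 : x i a ∈ V i := hWV i (by omega) (by rw [hx i]; exact Submodule.subset_span ⟨a, rfl⟩)
      have h2 := tr_mem (fun i => lext ρ (F i)) (fun i => lext ρ (G i)) (n := n) hF hG
        (i := i) (by omega) hj h1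
      rw [tr_lext] at h2
      exact h2
  have hli : ∀ j : Fin (n + 1), LinearIndependent K (gv F G ρ w j) := by
    intro j
    rw [linearIndependent_iff_card_eq_finrank_span, hm, Set.finrank]
    have h1 := hV j (by omega)
    rw [vc] at h1
    rw [← h1, hr j (by omega)]
  choose l hl using fun j => exists_functional (hli j)
  refine ⟨w, fun j => LinearMap.toMatrix' (l j), fun j => ?_, hV⟩
  have h1 : gd F G ρ w (fun j => LinearMap.toMatrix' (l j)) j = 1 := by
    rw [gd]
    have : (Matrix.of fun a b => (LinearMap.toMatrix' (l j)).mulVec (gv F G ρ w j b) a) =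
        (1 : Matrix (Ix n m) (Ix n m) K) := by
      ext a b
      rw [Matrix.of_apply, ← Matrix.toLin'_apply, Matrix.toLin'_toMatrix', hl, Matrix.one_apply,
        Pi.single_apply]
    rw [this, Matrix.det_one]
  rw [h1]
  exact isUnit_one

/-- The number of indices of a type. -/
theorem card_Ix {m : ℕ → ℕ} (h : ∑ j ∈ Finset.range (n + 1), m j = r) :
    Fintype.card (Ix n m) = r := by
  rw [Fintype.card_sigma]
  simp only [Fintype.card_fin]
  rw [Fin.sum_univ_eq_sum_range (fun j => m j) (n + 1)]
  exact h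

end FieldPt

end K808.LP
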