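import Groth.Agent.W4c1limliniiii.K808.LB
import Groth.Agent.W4c1limliniiii.K808.LD
import Mathlib.AlgebraicGeometry.AffineScheme

/-!
Schemes representing a linked Grassmannian, in coordinates.
-/

set_option autoImplicit false

universe u

open AlgebraicGeometry CategoryTheory

namespace K808.LR

open K808.LC K808.LN K808.LD K808.LB

/-- The structure map of a point of a scheme over `R` with values in a ring. -/
noncomputable def rh {R : Type u} [CommRing R] {X : Scheme.{u}} (p : X ⟶ Spec (CommRingCat.of R))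
    {A : Type u} [CommRing A] (h : Spec (CommRingCat.of A) ⟶ X) : R →+* A :=
  (Spec.preimage (h ≫ p)).hom

section rh

variable {R : Type u} [CommRing R] {X : Scheme.{u}} (p : X ⟶ Spec (CommRingCat.of R))

theorem map_rh {A : Type u} [CommRing A] (h : Spec (CommRingCat.of A) ⟶ X) :
    Spec.map (CommRingCat.ofHom (rh p h)) = h ≫ p := by
  rw [rh]
  exact Spec.map_preimage (h ≫ p)

theorem rh_eq_iff {A : Type u} [CommRing A] (h : Spec (CommRingCat.of A) ⟶ X) (ρ : R →+* A) :
    rh p h = ρ ↔ h ≫ p = Spec.map (CommRingCat.ofHom ρ) := by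
  constructor
  · rintro rfl
    exact (map_rh p h).symm
  · intro h1
    rw [← map_rh p h] at h1
    have := Spec.map_injective h1
    exact congrArg CommRingCat.Hom.hom this

theorem rh_comp {A B : Type u} [CommRing A] [CommRing B] (φ : A →+* B)
    (h : Spec (CommRingCat.of A) ⟶ X) :
    rh p (Spec.map (CommRingCat.ofHom φ) ≫ h) = φ.comp (rh p h) := by
  rw [rh_eq_iff, Category.assoc, ← map_rh p h, ← Spec.map_comp]
  rfl

end rh

/-- A scheme over `R` representing a linked Grassmannian, in coordinates. -/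
structure LRep (R : Type u) [CommRing R] (d r n : ℕ) (F G : ℕ → Module.End R (Fin d → R))
    (X : Scheme.{u}) (p : X ⟶ Spec (CommRingCat.of R)) where
  ch : ∀ {A : Type u} [CommRing A] (_ : Spec (CommRingCat.of A) ⟶ X), ℕ → Submodule A (Fin d → A)
  nice : ∀ {A : Type u} [CommRing A] (h : Spec (CommRingCat.of A) ⟶ X) (j : ℕ), j ≤ n →
    Nice (d - r) (ch h j)
  fwd : ∀ {A : Type u} [CommRing A] (h : Spec (CommRingCat.of A) ⟶ X) (j : ℕ), j < n →
    (ch h j).map (lext (rh p h) (F j)) ≤ ch h (j + 1)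
  bwd : ∀ {A : Type u} [CommRing A] (h : Spec (CommRingCat.of A) ⟶ X) (j : ℕ), j < n →
    (ch h (j + 1)).map (lext (rh p h) (G j)) ≤ ch h j
  comp : ∀ {A B : Type u} [CommRing A] [CommRing B] (φ : A →+* B)
    (h : Spec (CommRingCat.of A) ⟶ X) (j : ℕ), j ≤ n →
    ch (Spec.map (CommRingCat.ofHom φ) ≫ h) j = ext φ (ch h j)
  inj : ∀ {A : Type u} [CommRing A] (h h' : Spec (CommRingCat.of A) ⟶ X), h ≫ p = h' ≫ p →
    (∀ j ≤ n, ch h j = ch h' j) → h = h'
  surj : ∀ {A : Type u} [CommRing A] (ρ : R →+* A) (N : ℕ → Submodule A (Fin d → A)),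
    (∀ j ≤ n, Nice (d - r) (N j)) → (∀ j < n, (N j).map (lext ρ (F j)) ≤ N (j + 1)) →
    (∀ j < n, (N (j + 1)).map (lext ρ (G j)) ≤ N j) →
    ∃ h : Spec (CommRingCat.of A) ⟶ X,
      h ≫ p = Spec.map (CommRingCat.ofHom ρ) ∧ ∀ j ≤ n, ch h j = N j

section Build

variable {R : Type u} [CommRing R] {d r n : ℕ} {f g : Fin n → ((Fin d → R) →ₗ[R] (Fin d → R))}
variable {X : Over (Spec (CommRingCat.of R))}
  (e : ∀ A : CommAlgCat.{u} R,
      (Over.mk (Spec.map (CommRingCat.ofHom (algebraMap R A))) ⟶ X) ≃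
        CPoints R d r n f g A)
  (he : ∀ (A B : CommAlgCat.{u} R) (φ : A ⟶ B)
      (x : Over.mk (Spec.map (CommRingCat.ofHom (algebraMap R A))) ⟶ X)
      (x' : Over.mk (Spec.map (CommRingCat.ofHom (algebraMap R B))) ⟶ X),
      x'.left = Spec.map (CommRingCat.ofHom φ.hom.toRingHom) ≫ x.left →
        ∀ i, ((e B x').1 i).toSubmodule = LC.ext φ.hom.toRingHom ((e A x).1 i).toSubmodule)

/-- Extension of a finite family of endomorphisms by zero. -/
def fz (f : Fin n → ((Fin d → R) →ₗ[R] (Fin d → R))) (j : ℕ) : Module.End R (Fin d → R) :=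
  if h : j < n then f ⟨j, h⟩ else 0

theorem fz_lt (f : Fin n → ((Fin d → R) →ₗ[R] (Fin d → R))) {j : ℕ} (h : j < n) :
    fz f j = f ⟨j, h⟩ := dif_pos h

/-- The value ring of a point as an algebra. -/
noncomputable def cat {A : Type u} [CommRing A] (ρ : R →+* A) : CommAlgCat.{u} R :=
  @CommAlgCat.of R _ A _ ρ.toAlgebra

include he in
theorem he' (A B : CommAlgCat.{u} R) (φ : A →+* B)
    (hφ : φ.comp (algebraMap R A) = algebraMap R B)
    (x : Over.mk (Spec.map (CommRingCat.ofHom (algebraMap R A))) ⟶ X)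
    (x' : Over.mk (Spec.map (CommRingCat.ofHom (algebraMap R B))) ⟶ X)
    (hx : x'.left = Spec.map (CommRingCat.ofHom φ) ≫ x.left) (i : Fin (n + 1)) :
    ((e B x').1 i).toSubmodule = LC.ext φ ((e A x).1 i).toSubmodule := by
  have h1 : ∀ r, φ (algebraMap R A r) = algebraMap R B r := fun r => RingHom.congr_fun hφ r
  exact he A B (CommAlgCat.ofHom { toRingHom := φ, commutes' := h1 }) x x' hx i

/-- The point of the functor attached to a morphism. -/
noncomputable def mkx {A : Type u} [CommRing A] (h : Spec (CommRingCat.of A) ⟶ X.left) (ρ : R →+* A)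
    (hρ : h ≫ X.hom = Spec.map (CommRingCat.ofHom ρ)) :
    Over.mk (Spec.map (CommRingCat.ofHom (algebraMap R (cat ρ)))) ⟶ X :=
  Over.homMk h hρ

/-- The chain attached to a morphism. -/
noncomputable def chd {A : Type u} [CommRing A] (h : Spec (CommRingCat.of A) ⟶ X.left) (j : ℕ) :
    Submodule A (Fin d → A) :=
  if hj : j < n + 1 then
    ((e (cat (rh X.hom h)) (mkx h (rh X.hom h) (map_rh X.hom h).symm)).1 ⟨j, hj⟩).toSubmodule
  else ⊥

include he in
theorem chd_spec (A : CommAlgCat.{u} R)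
    (x : Over.mk (Spec.map (CommRingCat.ofHom (algebraMap R A))) ⟶ X) {j : ℕ} (hj : j < n + 1) :
    chd e (A := A) x.left j = ((e A x).1 ⟨j, hj⟩).toSubmodule := by
  have hw : x.left ≫ X.hom = Spec.map (CommRingCat.ofHom (algebraMap R A)) := Over.w x
  have hρ : rh X.hom (A := A) x.left = algebraMap R A :=
    (rh_eq_iff X.hom _ _).2 hw
  rw [chd, dif_pos hj]
  have h1 := he' e he A (cat (rh X.hom (A := A) x.left)) (RingHom.id A) hρ.symm x
    (mkx x.left _ (map_rh X.hom (A := A) x.left).symm)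
    (by
      change x.left = Spec.map (𝟙 _) ≫ x.left
      rw [Spec.map_id, Category.id_comp]) ⟨j, hj⟩
  exact h1.trans (LC.ext_id _)

theorem chd_of_lt {A : Type u} [CommRing A] (h : Spec (CommRingCat.of A) ⟶ X.left) {j : ℕ} (hj : j < n + 1) :
    chd e h j =
      ((e (cat (rh X.hom h)) (mkx h (rh X.hom h) (map_rh X.hom h).symm)).1 ⟨j, hj⟩).toSubmodule :=
  dif_pos hj

theorem chd_nice {A : Type u} [CommRing A] (h : Spec (CommRingCat.of A) ⟶ X.left) (j : ℕ) (hj : j ≤ n) :
    Nice (d - r) (chd e h j) := by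
  rw [chd_of_lt e h (Nat.lt_succ_of_le hj)]
  exact ⟨((e (cat (rh X.hom h)) (mkx h (rh X.hom h) (map_rh X.hom h).symm)).1 ⟨j, _⟩).finite_quotient,
    ((e (cat (rh X.hom h)) (mkx h (rh X.hom h) (map_rh X.hom h).symm)).1 ⟨j, _⟩).projective_quotient,
    ((e (cat (rh X.hom h)) (mkx h (rh X.hom h) (map_rh X.hom h).symm)).1 ⟨j, _⟩).rankAtStalk_eq⟩

theorem chd_fwd {A : Type u} [CommRing A] (h : Spec (CommRingCat.of A) ⟶ X.left) (j : ℕ) (hj : j < n) :
    (chd e h j).map (lext (rh X.hom h) (fz f j)) ≤ chd e h (j + 1) := by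
  rw [chd_of_lt e h (by omega : j < n + 1), chd_of_lt e h (by omega : j + 1 < n + 1), fz_lt f hj]
  exact ((e (cat (rh X.hom h)) (mkx h (rh X.hom h) (map_rh X.hom h).symm)).2 ⟨j, hj⟩).1

theorem chd_bwd {A : Type u} [CommRing A] (h : Spec (CommRingCat.of A) ⟶ X.left) (j : ℕ) (hj : j < n) :
    (chd e h (j + 1)).map (lext (rh X.hom h) (fz g j)) ≤ chd e h j := by
  rw [chd_of_lt e h (by omega : j < n + 1), chd_of_lt e h (by omega : j + 1 < n + 1), fz_lt g hj]
  exact ((e (cat (rh X.hom h)) (mkx h (rh X.hom h) (map_rh X.hom h).symm)).2 ⟨j, hj⟩).2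

include he in
theorem chd_comp {A B : Type u} [CommRing A] [CommRing B] (φ : A →+* B)
    (h : Spec (CommRingCat.of A) ⟶ X.left) (j : ℕ) (hj : j ≤ n) :
    chd e (Spec.map (CommRingCat.ofHom φ) ≫ h) j = LC.ext φ (chd e h j) := by
  rw [chd_of_lt e _ (Nat.lt_succ_of_le hj), chd_of_lt e _ (Nat.lt_succ_of_le hj)]
  exact he' e he (cat (rh X.hom h)) (cat (rh X.hom (Spec.map (CommRingCat.ofHom φ) ≫ h))) φ
    (rh_comp X.hom φ h).symm (mkx h (rh X.hom h) (map_rh X.hom h).symm) _ rfl _

include he in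
theorem chd_inj {A : Type u} [CommRing A] (h h' : Spec (CommRingCat.of A) ⟶ X.left) (hp : h ≫ X.hom = h' ≫ X.hom)
    (hc : ∀ j ≤ n, chd e h j = chd e h' j) : h = h' := by
  have h1 : ∀ j : ℕ, ∀ hj : j < n + 1,
      ((e (cat (rh X.hom h)) (mkx h (rh X.hom h) (map_rh X.hom h).symm)).1 ⟨j, hj⟩).toSubmodule =
      ((e (cat (rh X.hom h)) (mkx h' (rh X.hom h) (hp.symm.trans (map_rh X.hom h).symm))).1
        ⟨j, hj⟩).toSubmodule := by
    intro j hj
    rw [← chd_spec e he (cat (rh X.hom h)) _ hj, ← chd_spec e he (cat (rh X.hom h)) _ hj]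
    exact hc j (by omega)
  have h2 : e (cat (rh X.hom h)) (mkx h (rh X.hom h) (map_rh X.hom h).symm) =
      e (cat (rh X.hom h)) (mkx h' (rh X.hom h) (hp.symm.trans (map_rh X.hom h).symm)) := by
    apply Subtype.ext
    funext i
    apply Module.Grassmannian.ext
    exact h1 i.1 i.2
  have h3 := (e (cat (rh X.hom h))).injective h2
  exact congrArg CommaMorphism.left h3

/-- The point of the Grassmannian attached to a submodule. -/
def gr {A : Type*} [CommRing A] {k : ℕ} (N : Submodule A (Fin d → A)) (hN : Nice k N) :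
    Module.Grassmannian A (Fin d → A) k :=
  { toSubmodule := N
    finite_quotient := hN.fin
    projective_quotient := hN.proj
    rankAtStalk_eq := hN.rank }

include he in
theorem chd_surj {A : Type u} [CommRing A] (ρ : R →+* A) (N : ℕ → Submodule A (Fin d → A))
    (hN : ∀ j ≤ n, Nice (d - r) (N j))
    (hF : ∀ j < n, (N j).map (lext ρ (fz f j)) ≤ N (j + 1))
    (hG : ∀ j < n, (N (j + 1)).map (lext ρ (fz g j)) ≤ N j) :
    ∃ h : Spec (CommRingCat.of A) ⟶ X.left, h ≫ X.hom = Spec.map (CommRingCat.ofHom ρ) ∧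
      ∀ j ≤ n, chd e h j = N j := by
  let V : Fin (n + 1) → Module.Grassmannian (cat ρ) (Fin d → cat ρ) (d - r) :=
    fun i => gr (A := A) (N i) (hN i (by omega))
  have hV : V ∈ CPoints R d r n f g (cat ρ) := by
    intro i
    constructor
    · have h1 := hF i i.2
      rw [fz_lt f i.2] at h1
      exact h1
    · have h1 := hG i i.2
      rw [fz_lt g i.2] at h1
      exact h1
  let x := (e (cat ρ)).symm ⟨V, hV⟩
  refine ⟨x.left, Over.w x, ?_⟩
  intro j hj
  have h1 := chd_spec e he (cat ρ) x (j := j) (by omega)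
  refine h1.trans ?_
  have h2 : e (cat ρ) x = ⟨V, hV⟩ := (e (cat ρ)).apply_symm_apply _
  rw [h2]
  rfl

/-- The representation attached to a universal chain. -/
noncomputable def ofRep : LRep R d r n (fz f) (fz g) X.left X.hom where
  ch := chd e
  nice := chd_nice e
  fwd := chd_fwd e
  bwd := chd_bwd e
  comp := chd_comp e he
  inj := chd_inj e he
  surj := chd_surj e he

end Build

end K808.LR
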