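import Groth.Agent.W4c1limliniiii.K808.LR
import Mathlib.AlgebraicGeometry.ResidueField

/-!
Ranks at the points of a linked Grassmannian: semicontinuity and deformation of non-exact points.
-/

set_option autoImplicit false

universe u

open AlgebraicGeometry CategoryTheory

namespace K808.LS

open K808.LC K808.LN K808.LD K808.LR

variable {R : Type u} [CommRing R] {d r n : ℕ} {F G : ℕ → Module.End R (Fin d → R)}
  {X : Scheme.{u}} {p : X ⟶ Spec (CommRingCat.of R)}

section Ranks

variable (L : LRep R d r n F G X p)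

/-- The rank of the forward map at a field-valued point. -/
noncomputable def rkF {K : Type u} [Field K] (h : Spec (CommRingCat.of K) ⟶ X) (j : ℕ) : ℕ :=
  Module.finrank K ((L.ch h j).map (lext (rh p h) (F j)))

/-- The rank of the backward map at a field-valued point. -/
noncomputable def rkG {K : Type u} [Field K] (h : Spec (CommRingCat.of K) ⟶ X) (j : ℕ) : ℕ :=
  Module.finrank K ((L.ch h (j + 1)).map (lext (rh p h) (G j)))

/-- The map to a field-valued point from a bigger ring. -/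
theorem rkF_comp' {A : Type u} [CommRing A] {K : Type u} [Field K] (φ : A →+* K)
    (h : Spec (CommRingCat.of A) ⟶ X) {j : ℕ} (hj : j ≤ n) :
    rkF L (Spec.map (CommRingCat.ofHom φ) ≫ h) j =
      Module.finrank K (ext φ ((L.ch h j).map (lext (rh p h) (F j)))) := by
  rw [rkF, ← map_lext_ext']
  rw [L.comp φ h j hj, rh_comp p φ h]

theorem rkG_comp' {A : Type u} [CommRing A] {K : Type u} [Field K] (φ : A →+* K)
    (h : Spec (CommRingCat.of A) ⟶ X) {j : ℕ} (hj : j < n) :
    rkG L (Spec.map (CommRingCat.ofHom φ) ≫ h) j =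
      Module.finrank K (ext φ ((L.ch h (j + 1)).map (lext (rh p h) (G j)))) := by
  rw [rkG, ← map_lext_ext']
  rw [L.comp φ h (j + 1) hj, rh_comp p φ h]

theorem rkF_comp {K K' : Type u} [Field K] [Field K'] (φ : K →+* K')
    (h : Spec (CommRingCat.of K) ⟶ X) {j : ℕ} (hj : j ≤ n) :
    rkF L (Spec.map (CommRingCat.ofHom φ) ≫ h) j = rkF L h j :=
  (rkF_comp' L φ h hj).trans (finrank_ext φ _)

theorem rkG_comp {K K' : Type u} [Field K] [Field K'] (φ : K →+* K')
    (h : Spec (CommRingCat.of K) ⟶ X) {j : ℕ} (hj : j < n) :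
    rkG L (Spec.map (CommRingCat.ofHom φ) ≫ h) j = rkG L h j :=
  (rkG_comp' L φ h hj).trans (finrank_ext φ _)

/-- The residue field of a point, as a type. -/
def kap (ξ : X) : Type u := X.residueField ξ

noncomputable instance (ξ : X) : Field (kap ξ) := inferInstanceAs (Field (X.residueField ξ))

/-- The point as a morphism from the spectrum of its residue field. -/
noncomputable def ik (ξ : X) : Spec (CommRingCat.of (kap ξ)) ⟶ X := X.fromSpecResidueField ξ

theorem ik_closedPoint (ξ : X) : ik ξ (IsLocalRing.closedPoint (kap ξ)) = ξ :=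
  Scheme.fromSpecResidueField_apply _ _

/-- Field-valued points factor through the residue field. -/
theorem exists_ik {K : Type u} [Field K] (h : Spec (CommRingCat.of K) ⟶ X) :
    ∃ φ : kap (h (IsLocalRing.closedPoint K)) →+* K,
      Spec.map (CommRingCat.ofHom φ) ≫ ik (h (IsLocalRing.closedPoint K)) = h :=
  ⟨(X.descResidueField (Scheme.stalkClosedPointTo h)).hom,
    Scheme.descResidueField_stalkClosedPointTo_fromSpecResidueField K X h⟩

/-- The rank of the forward map at a point. -/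
noncomputable def ptF (ξ : X) (j : ℕ) : ℕ := rkF L (ik ξ) j

/-- The rank of the backward map at a point. -/
noncomputable def ptG (ξ : X) (j : ℕ) : ℕ := rkG L (ik ξ) j

theorem rkF_eq {K : Type u} [Field K] (h : Spec (CommRingCat.of K) ⟶ X) {j : ℕ} (hj : j ≤ n) :
    rkF L h j = ptF L (h (IsLocalRing.closedPoint K)) j := by
  obtain ⟨φ, hφ⟩ := exists_ik h
  conv_lhs => rw [← hφ]
  exact rkF_comp L φ _ hj

theorem rkG_eq {K : Type u} [Field K] (h : Spec (CommRingCat.of K) ⟶ X) {j : ℕ} (hj : j < n) :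
    rkG L h j = ptG L (h (IsLocalRing.closedPoint K)) j := by
  obtain ⟨φ, hφ⟩ := exists_ik h
  conv_lhs => rw [← hφ]
  exact rkG_comp L φ _ hj

/-- Every element of the residue field is a fraction. -/
theorem residueField_frac {A : Type u} [CommRing A] (P : Ideal A) [P.IsPrime] (z : P.ResidueField) :
    ∃ a b : A, algebraMap A P.ResidueField b ≠ 0 ∧
      z * algebraMap A P.ResidueField b = algebraMap A P.ResidueField a := by
  obtain ⟨⟨x, s⟩, h⟩ := IsLocalization.surj (nonZeroDivisors (A ⧸ P)) z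
  obtain ⟨a, rfl⟩ := Ideal.Quotient.mk_surjective x
  obtain ⟨b, hb⟩ := Ideal.Quotient.mk_surjective (s : A ⧸ P)
  refine ⟨a, b, ?_, ?_⟩
  · rw [Ne, Ideal.algebraMap_residueField_eq_zero]
    intro h1
    have h2 : (s : A ⧸ P) = 0 := by rw [← hb]; exact Ideal.Quotient.eq_zero_iff_mem.2 h1
    exact nonZeroDivisors.ne_zero s.2 h2
  · rw [← hb] at h
    exact h

/-- The image of the closed point. -/
theorem map_closedPoint {A : Type u} [CommRing A] {K : Type u} [Field K] (φ : A →+* K) :
    (Spec.map (CommRingCat.ofHom φ)) (IsLocalRing.closedPoint K) =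
      ⟨RingHom.ker φ, RingHom.ker_isPrime φ⟩ := by
  apply PrimeSpectrum.ext
  change Ideal.comap φ (IsLocalRing.maximalIdeal K) = RingHom.ker φ
  rw [IsLocalRing.maximalIdeal_eq_bot]
  rfl

theorem map_closedPoint_residueField {A : Type u} [CommRing A] (y : PrimeSpectrum A) :
    (Spec.map (CommRingCat.ofHom (algebraMap A y.asIdeal.ResidueField)))
      (IsLocalRing.closedPoint y.asIdeal.ResidueField) = y := by
  rw [map_closedPoint]
  apply PrimeSpectrum.ext
  exact Ideal.ker_algebraMap_residueField _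

/-- Ranks at the points of an affine open. -/
theorem ptF_open {A : Type u} [CommRing A] (h : Spec (CommRingCat.of A) ⟶ X)
    (y : PrimeSpectrum A) {j : ℕ} (hj : j ≤ n) :
    ptF L (h y) j = Module.finrank y.asIdeal.ResidueField
      (ext (algebraMap A y.asIdeal.ResidueField) ((L.ch h j).map (lext (rh p h) (F j)))) := by
  rw [← rkF_comp' L _ h hj, rkF_eq L _ hj]
  congr 1
  have := map_closedPoint_residueField y
  conv_lhs => rw [← this]
  rfl

theorem ptG_open {A : Type u} [CommRing A] (h : Spec (CommRingCat.of A) ⟶ X)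
    (y : PrimeSpectrum A) {j : ℕ} (hj : j < n) :
    ptG L (h y) j = Module.finrank y.asIdeal.ResidueField
      (ext (algebraMap A y.asIdeal.ResidueField) ((L.ch h (j + 1)).map (lext (rh p h) (G j)))) := by
  rw [← rkG_comp' L _ h hj, rkG_eq L _ hj]
  congr 1
  have := map_closedPoint_residueField y
  conv_lhs => rw [← this]
  rfl

/-- A function given on affine opens by the ranks of the fibres of a submodule is lower
semicontinuous. -/
theorem isOpen_of_local (P : X → Prop)
    (hP : ∀ (A : Type u) [CommRing A] (h : Spec (CommRingCat.of A) ⟶ X) [IsOpenImmersion h]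
      (y : PrimeSpectrum A), P (h y) → ∃ δ : A, δ ∉ y.asIdeal ∧
        ∀ z : PrimeSpectrum A, δ ∉ z.asIdeal → P (h z)) :
    IsOpen {ξ | P ξ} := by
  rw [isOpen_iff_forall_mem_open]
  intro ξ hξ
  obtain ⟨A, h, hh, hA, -⟩ := AlgebraicGeometry.Scheme.exists_affine_mem_range_and_range_subset
    (U := (⊤ : X.Opens)) (x := ξ) trivial
  obtain ⟨y, hy⟩ := hA
  have hξ' : P ((h : Spec (CommRingCat.of A) ⟶ X) y) := by
    have : (h : Spec (CommRingCat.of A) ⟶ X) y = ξ := hy
    rw [this]; exact hξ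
  obtain ⟨δ, hδ, hδ'⟩ := hP A h y hξ'
  refine ⟨h '' (PrimeSpectrum.basicOpen δ : Set (PrimeSpectrum A)), ?_, ?_, ?_⟩
  · rintro _ ⟨z, hz, rfl⟩
    exact hδ' z hz
  · exact h.isOpenEmbedding.isOpenMap _ (PrimeSpectrum.basicOpen δ).2
  · exact ⟨y, hδ, hy⟩

theorem isOpen_ptF {j : ℕ} (hj : j ≤ n) (m : ℕ) : IsOpen {ξ : X | m ≤ ptF L ξ j} := by
  refine isOpen_of_local _ ?_
  intro A _ h _ y hy
  rw [ptF_open L h y hj] at hy
  obtain ⟨δ, hδ, hδ'⟩ := exists_open_rank (algebraMap A y.asIdeal.ResidueField)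
    (residueField_frac _) _ m hy
  refine ⟨δ, fun h1 => hδ (Ideal.algebraMap_residueField_eq_zero.2 h1), fun z hz => ?_⟩
  rw [ptF_open L h z hj]
  exact hδ' _ _ fun h1 => hz (Ideal.algebraMap_residueField_eq_zero.1 h1)

theorem isOpen_ptG {j : ℕ} (hj : j < n) (m : ℕ) : IsOpen {ξ : X | m ≤ ptG L ξ j} := by
  refine isOpen_of_local _ ?_
  intro A _ h _ y hy
  rw [ptG_open L h y hj] at hy
  obtain ⟨δ, hδ, hδ'⟩ := exists_open_rank (algebraMap A y.asIdeal.ResidueField)
    (residueField_frac _) _ m hy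
  refine ⟨δ, fun h1 => hδ (Ideal.algebraMap_residueField_eq_zero.2 h1), fun z hz => ?_⟩
  rw [ptG_open L h z hj]
  exact hδ' _ _ fun h1 => hz (Ideal.algebraMap_residueField_eq_zero.1 h1)

theorem ptF_le_of_specializes {ξ' ξ : X} (hs : ξ' ⤳ ξ) {j : ℕ} (hj : j ≤ n) :
    ptF L ξ j ≤ ptF L ξ' j :=
  hs.mem_open (isOpen_ptF L hj (ptF L ξ j)) (show ptF L ξ j ≤ ptF L ξ j from le_rfl)

theorem ptG_le_of_specializes {ξ' ξ : X} (hs : ξ' ⤳ ξ) {j : ℕ} (hj : j < n) :
    ptG L ξ j ≤ ptG L ξ' j :=
  hs.mem_open (isOpen_ptG L hj (ptG L ξ j)) (show ptG L ξ j ≤ ptG L ξ j from le_rfl)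

/-- Exactness of a point, in terms of ranks. -/
def Ex (ξ : X) : Prop := ∀ j < n, r ≤ ptF L ξ j + ptG L ξ j

theorem isOpen_Ex : IsOpen {ξ : X | Ex L ξ} := by
  have h1 : {ξ : X | Ex L ξ} = ⋂ j : Fin n, ⋃ a : Fin (r + 1),
      ({ξ : X | (a : ℕ) ≤ ptF L ξ j} ∩ {ξ : X | r - a ≤ ptG L ξ j}) := by
    ext ξ
    simp only [Set.mem_ofPred_eq, Set.mem_iInter, Set.mem_iUnion, Set.mem_inter_iff]
    constructor
    · intro h j
      have h2 := h j j.2
      by_cases h3 : ptF L ξ j ≤ r
      · exact ⟨⟨ptF L ξ j, by omega⟩, le_rfl, by simp only; omega⟩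
      · exact ⟨⟨r, by omega⟩, by simp only; omega, by simp only; omega⟩
    · intro h j hj
      obtain ⟨a, h2, h3⟩ := h ⟨j, hj⟩
      simp only at h2 h3
      omega
  rw [h1]
  refine isOpen_iInter_of_finite fun j => isOpen_iUnion fun a => ?_
  exact (isOpen_ptF L j.2.le a).inter (isOpen_ptG L j.2 (r - a))

end Ranks

section Data

/-- The conditions on the chain of bundles of a linked Grassmannian, at all field-valued points. -/
structure LGd (R : Type u) [CommRing R] (d n : ℕ) (F G : ℕ → Module.End R (Fin d → R)) (s : R) :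
    Prop where
  hFG : ∀ i < n, (F i).comp (G i) = s • LinearMap.id
  hGF : ∀ i < n, (G i).comp (F i) = s • LinearMap.id
  hII : ∀ (K : Type u) [Field K] (ρ : R →+* K), ∀ i < n,
    d ≤ Module.finrank K (LinearMap.range (lext ρ (F i))) +
      Module.finrank K (LinearMap.range (lext ρ (G i)))
  hIIIF : ∀ (K : Type u) [Field K] (ρ : R →+* K), ∀ i, i + 1 < n →
    LinearMap.range (lext ρ (F i)) ⊓ LinearMap.ker (lext ρ (F (i + 1))) = ⊥
  hIIIG : ∀ (K : Type u) [Field K] (ρ : R →+* K), ∀ i, i + 1 < n →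
    LinearMap.range (lext ρ (G (i + 1))) ⊓ LinearMap.ker (lext ρ (G i)) = ⊥

variable {s : R} (D : LGd R d n F G s)

include D in
theorem LGd.lFG {A : Type u} [CommRing A] (ρ : R →+* A) {i : ℕ} (hi : i < n) :
    (lext ρ (F i)).comp (lext ρ (G i)) = ρ s • LinearMap.id := by
  rw [← lext_comp, D.hFG i hi, lext_smul, lext_id_map]

include D in
theorem LGd.lGF {A : Type u} [CommRing A] (ρ : R →+* A) {i : ℕ} (hi : i < n) :
    (lext ρ (G i)).comp (lext ρ (F i)) = ρ s • LinearMap.id := by
  rw [← lext_comp, D.hGF i hi, lext_smul, lext_id_map]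

/-- Equality of kernel and image from the ranks. -/
theorem ker_le_range {K : Type u} [Field K] {φ ψ : Module.End K (Fin d → K)}
    (h0 : φ.comp ψ = 0)
    (h : d ≤ Module.finrank K (LinearMap.range φ) + Module.finrank K (LinearMap.range ψ)) :
    LinearMap.ker φ ≤ LinearMap.range ψ := by
  have h1 : LinearMap.range ψ ≤ LinearMap.ker φ := by
    rintro _ ⟨x, rfl⟩
    exact LinearMap.congr_fun h0 x
  have h2 := LinearMap.finrank_range_add_finrank_ker φ
  rw [Module.finrank_fin_fun] at h2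
  have h3 := Submodule.finrank_mono h1
  exact (Submodule.eq_of_le_of_finrank_eq h1 (by omega)).ge

/-- The reversed data. -/
def rv (n : ℕ) (F : ℕ → Module.End R (Fin d → R)) (j : ℕ) : Module.End R (Fin d → R) :=
  F (n - 1 - j)

include D in
theorem LGd.rev : LGd R d n (rv n G) (rv n F) s where
  hFG := fun i hi => D.hGF _ (by omega)
  hGF := fun i hi => D.hFG _ (by omega)
  hII := fun K _ ρ i hi => by rw [add_comm]; exact D.hII K ρ _ (by omega)
  hIIIF := fun K _ ρ i hi => by
    have h1 := D.hIIIG K ρ (n - 1 - (i + 1)) (by omega)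
    have h2 : n - 1 - (i + 1) + 1 = n - 1 - i := by omega
    rw [h2] at h1
    exact h1
  hIIIG := fun K _ ρ i hi => by
    have h1 := D.hIIIF K ρ (n - 1 - (i + 1)) (by omega)
    have h2 : n - 1 - (i + 1) + 1 = n - 1 - i := by omega
    rw [h2] at h1
    exact h1

/-- The reversed representation. -/
def rev (L : LRep R d r n F G X p) : LRep R d r n (rv n G) (rv n F) X p where
  ch := fun h j => L.ch h (n - j)
  nice := fun h j hj => L.nice h _ (by omega)
  fwd := fun h j hj => by
    have h1 := L.bwd h (n - 1 - j) (by omega)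
    have h2 : n - 1 - j + 1 = n - j := by omega
    have h3 : n - (j + 1) = n - 1 - j := by omega
    rw [h2] at h1
    rw [h3]
    exact h1
  bwd := fun h j hj => by
    have h1 := L.fwd h (n - 1 - j) (by omega)
    have h2 : n - 1 - j + 1 = n - j := by omega
    have h3 : n - (j + 1) = n - 1 - j := by omega
    rw [h2] at h1
    rw [h3]
    exact h1
  comp := fun φ h j hj => L.comp φ h _ (by omega)
  inj := fun h h' hp hc => L.inj h h' hp fun j hj => by
    have h1 := hc (n - j) (by omega)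
    have h2 : n - (n - j) = j := by omega
    rw [h2] at h1
    exact h1
  surj := fun ρ N hN hF hG => by
    obtain ⟨h, h1, h2⟩ := L.surj ρ (fun j => N (n - j)) (fun j hj => hN _ (by omega))
      (fun j hj => by
        have h1 := hG (n - 1 - j) (by omega)
        have h2 : n - 1 - j + 1 = n - j := by omega
        have h3 : n - (j + 1) = n - 1 - j := by omega
        have h4 : n - 1 - (n - 1 - j) = j := by omega
        rw [h2, rv, h4] at h1
        rw [h3]
        exact h1)
      (fun j hj => by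
        have h1 := hF (n - 1 - j) (by omega)
        have h2 : n - 1 - j + 1 = n - j := by omega
        have h3 : n - (j + 1) = n - 1 - j := by omega
        have h4 : n - 1 - (n - 1 - j) = j := by omega
        rw [h2, rv, h4] at h1
        rw [h3]
        exact h1)
    refine ⟨h, h1, fun j hj => ?_⟩
    rw [h2 _ (by omega)]
    have h3 : n - (n - j) = j := by omega
    rw [h3]

theorem rkF_rev (L : LRep R d r n F G X p) {K : Type u} [Field K]
    (h : Spec (CommRingCat.of K) ⟶ X) {j : ℕ} (hj : j < n) :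
    rkF (rev L) h j = rkG L h (n - 1 - j) := by
  rw [rkF, rkG]
  have h2 : n - 1 - j + 1 = n - j := by omega
  rw [h2]
  rfl

theorem rkG_rev (L : LRep R d r n F G X p) {K : Type u} [Field K]
    (h : Spec (CommRingCat.of K) ⟶ X) {j : ℕ} (hj : j < n) :
    rkG (rev L) h j = rkF L h (n - 1 - j) := by
  have h3 : n - (j + 1) = n - 1 - j := by omega
  have h4 : (rev L).ch h (j + 1) = L.ch h (n - 1 - j) := by
    change L.ch h (n - (j + 1)) = _
    rw [h3]
  rw [rkF, rkG, h4]
  rfl

theorem ptF_rev (L : LRep R d r n F G X p) (ξ : X) {j : ℕ} (hj : j < n) :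
    ptF (rev L) ξ j = ptG L ξ (n - 1 - j) :=
  rkF_rev L (ik ξ) hj

theorem ptG_rev (L : LRep R d r n F G X p) (ξ : X) {j : ℕ} (hj : j < n) :
    ptG (rev L) ξ j = ptF L ξ (n - 1 - j) :=
  rkG_rev L (ik ξ) hj

end Data

section Deform

variable (L : LRep R d r n F G X p) {s : R} (D : LGd R d n F G s) (hrd : r ≤ d)

/-- The structure map of the residue field of a point. -/
noncomputable def rx (p : X ⟶ Spec (CommRingCat.of R)) (ξ : X) : R →+* kap ξ := rh p (ik ξ)

/-- Specializations through a ring. -/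
theorem specializes_of_ring {A : Type u} [CommRing A] [IsDomain A]
    (h : Spec (CommRingCat.of A) ⟶ X) {K Q : Type u} [Field K] [Field Q] (φ : A →+* K) (ψ : A →+* Q)
    (hψ : Function.Injective ψ) :
    (Spec.map (CommRingCat.ofHom ψ) ≫ h) (IsLocalRing.closedPoint Q) ⤳
      (Spec.map (CommRingCat.ofHom φ) ≫ h) (IsLocalRing.closedPoint K) := by
  change h ((Spec.map (CommRingCat.ofHom ψ)) (IsLocalRing.closedPoint Q)) ⤳
    h ((Spec.map (CommRingCat.ofHom φ)) (IsLocalRing.closedPoint K))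
  refine Specializes.map ?_ h.continuous
  rw [map_closedPoint, map_closedPoint]
  refine (PrimeSpectrum.le_iff_specializes _ _).1 ?_
  change RingHom.ker ψ ≤ RingHom.ker φ
  rw [(RingHom.injective_iff_ker_eq_bot ψ).1 hψ]
  exact bot_le

include D hrd in
/-- A non-exact point specializes from a point with larger rank of a forward map. -/
theorem exists_deform {ξ : X} (hs : rx p ξ s = 0) {j : ℕ} (hj : j < n)
    (hne : ptF L ξ j + ptG L ξ j < r) :
    ∃ ξ' : X, ξ' ⤳ ξ ∧ ptF L ξ j < ptF L ξ' j ∧ ptG L ξ' j = ptG L ξ j := by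
  set K := kap ξ with hK
  set i : Spec (CommRingCat.of K) ⟶ X := ik ξ with hi
  set ρ : R →+* K := rx p ξ with hρ
  have hz1 : ∀ i < n, (lext ρ (F i)).comp (lext ρ (G i)) = 0 := fun i hi => by
    rw [D.lFG ρ hi, hs, zero_smul]
  have hz2 : ∀ i < n, (lext ρ (G i)).comp (lext ρ (F i)) = 0 := fun i hi => by
    rw [D.lGF ρ hi, hs, zero_smul]
  obtain ⟨V', hN, hF', hG', hred, hrk⟩ := exists_deformation (K := K) (n := n) (r := r)
    (fun i => lext ρ (F i)) (fun i => lext ρ (G i)) hz1 hz2
    (fun i hi => ker_le_range (hz1 i hi) (D.hII K ρ i hi))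
    (fun i hi => ker_le_range (hz2 i hi) (by rw [add_comm]; exact D.hII K ρ i hi))
    (fun i hi => D.hIIIG K ρ i hi) (L.ch i)
    (fun j hj => (nice_iff_finrank hrd _).1 (L.nice i j hj)) (L.fwd i) (L.bwd i) hj hne
  obtain ⟨h, hp, hch⟩ := L.surj (A := PowerSeries K) ((PowerSeries.C).comp ρ) V' hN
    (fun j hj => by rw [← lext_lext]; exact hF' j hj)
    (fun j hj => by rw [← lext_lext]; exact hG' j hj)
  have hrh : rh p h = (PowerSeries.C).comp ρ := (rh_eq_iff p h _).2 hp
  -- the special point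
  have h0 : Spec.map (CommRingCat.ofHom (PowerSeries.constantCoeff (R := K))) ≫ h = i := by
    refine L.inj _ _ ?_ ?_
    · rw [Category.assoc, hp, ← Spec.map_comp, ← map_rh p i]
      congr 1
    · intro j hj
      rw [L.comp _ _ j hj, hch j hj, hred j hj]
  let Q := FractionRing (PowerSeries K)
  let ψ : PowerSeries K →+* Q := algebraMap _ _
  have hψ : Function.Injective ψ := IsFractionRing.injective _ _
  refine ⟨(Spec.map (CommRingCat.ofHom ψ) ≫ h) (IsLocalRing.closedPoint Q), ?_, ?_, ?_⟩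
  · have h1 := specializes_of_ring h (PowerSeries.constantCoeff (R := K)) ψ hψ
    have h2 : i (IsLocalRing.closedPoint K) = ξ := ik_closedPoint ξ
    rw [h0, h2] at h1
    exact h1
  · rw [← rkF_eq L _ hj.le, rkF_comp' L ψ h hj.le, ← map_lext_ext', hrh, hch j hj.le,
      ← RingHom.comp_assoc, ← lext_lext (φ := ρ)]
    exact (hrk Q ψ hψ).1
  · rw [← rkG_eq L _ hj, rkG_comp' L ψ h hj, ← map_lext_ext', hrh, hch (j + 1) hj,
      ← RingHom.comp_assoc, ← lext_lext (φ := ρ)]
    exact (hrk Q ψ hψ).2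

/-- The rank bound for vanishing scalar. -/
theorem add_le_of_zero (L : LRep R d r n F G X p) {s : R} (D : LGd R d n F G s) (hrd : r ≤ d)
    {ξ : X} (hs : rx p ξ s = 0) {j : ℕ} (hj : j < n) : ptF L ξ j + ptG L ξ j ≤ r := by
  set K := kap ξ with hK
  set i : Spec (CommRingCat.of K) ⟶ X := ik ξ with hi
  have h1 := K808.LE.finrank_map_add_finrank_ker_inf (lext (rh p i) (F j)) (L.ch i j)
  rw [(nice_iff_finrank hrd _).1 (L.nice i j hj.le)] at h1
  have h2 : (L.ch i (j + 1)).map (lext (rh p i) (G j)) ≤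
      LinearMap.ker (lext (rh p i) (F j)) ⊓ L.ch i j := by
    refine le_inf ?_ (L.bwd i j hj)
    rintro _ ⟨x, -, rfl⟩
    have h3 := D.lFG (rh p i) hj
    have h4 : rh p i s = 0 := hs
    rw [h4, zero_smul] at h3
    exact LinearMap.congr_fun h3 x
  have h3 := Submodule.finrank_mono h2
  change Module.finrank K ((L.ch i j).map (lext (rh p i) (F j))) +
    Module.finrank K ((L.ch i (j + 1)).map (lext (rh p i) (G j))) ≤ r
  omega

/-- The ranks for invertible scalar. -/
theorem eq_of_ne_zero (L : LRep R d r n F G X p) {s : R} (D : LGd R d n F G s) (hrd : r ≤ d)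
    {ξ : X} (hs : rx p ξ s ≠ 0) {j : ℕ} (hj : j < n) : ptF L ξ j = r ∧ ptG L ξ j = r := by
  set K := kap ξ with hK
  set i : Spec (CommRingCat.of K) ⟶ X := ik ξ with hi
  have hsi : rh p i s ≠ 0 := hs
  have key : ∀ (φ ψ : Module.End K (Fin d → K)), φ.comp ψ = rh p i s • LinearMap.id →
      LinearMap.ker ψ = ⊥ := by
    intro φ ψ h
    rw [LinearMap.ker_eq_bot']
    intro x hx
    have h1 := LinearMap.congr_fun h x
    rw [LinearMap.comp_apply, hx, map_zero, LinearMap.smul_apply, LinearMap.id_apply] at h1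
    exact (smul_eq_zero.1 h1.symm).resolve_left hsi
  constructor
  · have h1 := K808.LE.finrank_map_add_finrank_ker_inf (lext (rh p i) (F j)) (L.ch i j)
    rw [(nice_iff_finrank hrd _).1 (L.nice i j hj.le), key _ _ (D.lGF (rh p i) hj), bot_inf_eq,
      finrank_bot, add_zero] at h1
    exact h1
  · have h1 := K808.LE.finrank_map_add_finrank_ker_inf (lext (rh p i) (G j)) (L.ch i (j + 1))
    rw [(nice_iff_finrank hrd _).1 (L.nice i (j + 1) hj), key _ _ (D.lFG (rh p i) hj), bot_inf_eq,
      finrank_bot, add_zero] at h1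
    exact h1

include D hrd in
theorem exists_deform_rev {ξ : X} (hs : rx p ξ s = 0) {j : ℕ} (hj : j < n)
    (hne : ptF L ξ j + ptG L ξ j < r) :
    ∃ ξ' : X, ξ' ⤳ ξ ∧ ptG L ξ j < ptG L ξ' j ∧ ptF L ξ' j = ptF L ξ j := by
  have h1 : n - 1 - (n - 1 - j) = j := by omega
  obtain ⟨ξ', h2, h3, h4⟩ := exists_deform (rev L) D.rev hrd hs (j := n - 1 - j) (by omega) (by
    rw [ptF_rev L ξ (by omega), ptG_rev L ξ (by omega), h1]
    omega)
  rw [ptF_rev L ξ (by omega), ptF_rev L ξ' (by omega), h1] at h3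
  rw [ptG_rev L ξ (by omega), ptG_rev L ξ' (by omega), h1] at h4
  exact ⟨ξ', h2, h3, h4⟩

include D hrd in
/-- A point with vanishing scalar is the specialization of a point exact at a given edge, with the same
rank of the backward map. -/
theorem exists_full_deform (ξ : X) (hs : ∀ ξ' : X, rx p ξ' s = 0) {j : ℕ} (hj : j < n) :
    ∃ ξ' : X, ξ' ⤳ ξ ∧ ptF L ξ' j + ptG L ξ' j = r ∧ ptG L ξ' j = ptG L ξ j := by
  obtain ⟨k, hk⟩ : ∃ k, r = ptF L ξ j + ptG L ξ j + k :=
    ⟨r - (ptF L ξ j + ptG L ξ j), by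
      have := add_le_of_zero L D hrd (hs ξ) hj; omega⟩
  induction k using Nat.strong_induction_on generalizing ξ with
  | _ k ih =>
    rcases Nat.eq_zero_or_pos k with h | h
    · subst h
      exact ⟨ξ, specializes_rfl, by omega, rfl⟩
    · obtain ⟨ξ', h1, h2, h3⟩ := exists_deform L D hrd (hs ξ) hj (by omega)
      have h4 := add_le_of_zero L D hrd (hs ξ') hj
      obtain ⟨ξ'', h5, h6, h7⟩ := ih (r - (ptF L ξ' j + ptG L ξ' j)) (by omega) ξ' (by omega)
      exact ⟨ξ'', h5.trans h1, h6, h7.trans h3⟩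

include D hrd in
theorem exists_full_deform_rev (ξ : X) (hs : ∀ ξ' : X, rx p ξ' s = 0) {j : ℕ} (hj : j < n) :
    ∃ ξ' : X, ξ' ⤳ ξ ∧ ptF L ξ' j + ptG L ξ' j = r ∧ ptF L ξ' j = ptF L ξ j := by
  have h1 : n - 1 - (n - 1 - j) = j := by omega
  obtain ⟨ξ', h2, h3, h4⟩ := exists_full_deform (rev L) D.rev hrd ξ hs (j := n - 1 - j) (by omega)
  rw [ptF_rev L ξ' (by omega), ptG_rev L ξ' (by omega), h1] at h3
  rw [ptG_rev L ξ (by omega), ptG_rev L ξ' (by omega), h1] at h4
  exact ⟨ξ', h2, by omega, h4⟩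

include D hrd in
/-- Maximal points are exact. -/
theorem Ex_of_maximal {ξ : X} (hmax : ∀ ξ' : X, ξ' ⤳ ξ → ξ' = ξ) : Ex L ξ := by
  intro j hj
  by_cases hs : rx p ξ s = 0
  · by_contra hcon
    obtain ⟨ξ', h1, h2, -⟩ := exists_deform L D hrd hs hj (by omega)
    rw [hmax ξ' h1] at h2
    exact lt_irrefl _ h2
  · have := eq_of_ne_zero L D hrd hs hj
    omega

end Deform

end K808.LS
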