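import Groth.Agent.W4c1limliniiii.K808.LS
import Groth.Agent.W4c1limliniiii.K808.LP

/-!
Types of exact points of a linked Grassmannian and the generic points of the strata.
-/

set_option autoImplicit false

universe u

open AlgebraicGeometry CategoryTheory

namespace K808.LT

open K808.LC K808.LN K808.LD K808.LR K808.LS K808.LP K808.LE

variable {R : Type u} [CommRing R] {d r n : ℕ} {F G : ℕ → Module.End R (Fin d → R)}
  {X : Scheme.{u}} {p : X ⟶ Spec (CommRingCat.of R)}

theorem typ_congr {a a' : ℕ → ℕ} (h : ∀ j < n, a j = a' j) {j : ℕ} (hj : j ≤ n) :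
    typ n r a j = typ n r a' j := by
  rw [typ, typ]
  congr 1
  · by_cases h1 : j < n
    · rw [if_pos h1, if_pos h1, h j h1]
    · rw [if_neg h1, if_neg h1]
  · by_cases h1 : j = 0
    · rw [if_pos h1, if_pos h1]
    · rw [if_neg h1, if_neg h1, h (j - 1) (by omega)]

section Ty

variable (L : LRep R d r n F G X p) {s : R} (D : LGd R d n F G s) (hrd : r ≤ d)

/-- The type of a point. -/
noncomputable def ty (ξ : X) : ℕ → ℕ := typ n r (fun j => if j < n then ptF L ξ j else 0)

theorem ty_congr {ξ ξ' : X} (h : ∀ j < n, ptF L ξ j = ptF L ξ' j) : ty L ξ = ty L ξ' := by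
  rw [ty, ty]
  congr 1
  funext j
  by_cases h1 : j < n
  · rw [if_pos h1, if_pos h1, h j h1]
  · rw [if_neg h1, if_neg h1]

include hrd in
theorem rkF_le {K : Type u} [Field K] (h : Spec (CommRingCat.of K) ⟶ X) {j : ℕ} (hj : j ≤ n) :
    rkF L h j ≤ r := by
  have h1 := finrank_map_add_finrank_ker_inf (lext (rh p h) (F j)) (L.ch h j)
  rw [(nice_iff_finrank hrd _).1 (L.nice h j hj)] at h1
  rw [rkF]
  omega

include D in
theorem rkF_mono {K : Type u} [Field K] (h : Spec (CommRingCat.of K) ⟶ X) {j : ℕ}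
    (hj : j + 1 < n) : rkF L h j ≤ rkF L h (j + 1) := by
  have h1 : (L.ch h j).map (lext (rh p h) (F j)) ⊓ LinearMap.ker (lext (rh p h) (F (j + 1))) = ⊥ := by
    rw [eq_bot_iff, ← D.hIIIF K (rh p h) j hj]
    refine inf_le_inf_right _ ?_
    rintro _ ⟨x, -, rfl⟩
    exact ⟨x, rfl⟩
  rw [inf_ker_eq_bot_iff] at h1
  rw [rkF, rkF, ← h1]
  exact Submodule.finrank_mono (Submodule.map_mono (L.fwd h j (by omega)))

include D hrd in
theorem card_ty (ξ : X) : Fintype.card (Ix n (ty L ξ)) = r := by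
  apply card_Ix
  refine sum_typ (fun j hj => ?_) (fun j hj => ?_)
  · rw [if_pos hj, if_pos (by omega)]
    exact rkF_mono L D (ik ξ) hj
  · rw [if_pos hj]
    exact rkF_le L hrd (ik ξ) hj.le

include D hrd in
/-- Exact field-valued points have generators. -/
theorem exists_gen {K : Type u} [Field K] (h : Spec (CommRingCat.of K) ⟶ X)
    (hex : ∀ j < n, r ≤ rkF L h j + rkG L h j) {m : ℕ → ℕ}
    (hm : ∀ j ≤ n, m j = typ n r (fun j => rkF L h j) j) (hmr : Fintype.card (Ix n m) = r) :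
    ∃ (w : Ix n m → Fin d → K) (l : Fin (n + 1) → Matrix (Ix n m) (Fin d) K),
      (∀ j, IsUnit (gd F G (rh p h) w l j)) ∧ ∀ j ≤ n, L.ch h j = vc F G (rh p h) w j := by
  have hr : ∀ j ≤ n, Module.finrank K (L.ch h j) = r := fun j hj =>
    (nice_iff_finrank hrd _).1 (L.nice h j hj)
  obtain ⟨W, hWV, hW, hS⟩ : ∃ W : ℕ → Submodule K (Fin d → K), (∀ j ≤ n, W j ≤ L.ch h j) ∧
      (∀ j ≤ n, Module.finrank K (W j) = typ n r (fun i => rkF L h i) j) ∧
      ∀ j ≤ n, L.ch h j ≤ Sp (fun i => lext (rh p h) (F i)) (fun i => lext (rh p h) (G i)) n W j := by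
    by_cases hs : rh p h s = 0
    · refine exists_generators_zero (n := n) (r := r)
        (F := fun i => lext (rh p h) (F i)) (G := fun i => lext (rh p h) (G i))
        (fun i hi => ?_) (fun i hi => ?_)
        (fun i hi => D.hIIIF K (rh p h) i hi) (L.ch h) hr (L.fwd h) (L.bwd h) (fun i hi => ?_)
      · rw [D.lFG (rh p h) hi, hs, zero_smul]
      · rw [D.lGF (rh p h) hi, hs, zero_smul]
      · have h1 := finrank_map_add_finrank_ker_inf (lext (rh p h) (F i)) (L.ch h i)
        rw [hr i hi.le] at h1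
        have h2 : (L.ch h (i + 1)).map (lext (rh p h) (G i)) ≤
            LinearMap.ker (lext (rh p h) (F i)) ⊓ L.ch h i := by
          refine le_inf ?_ (L.bwd h i hi)
          rintro _ ⟨x, -, rfl⟩
          have h3 := D.lFG (rh p h) hi
          rw [hs, zero_smul] at h3
          exact LinearMap.congr_fun h3 x
        have h3 := hex i hi
        rw [rkF, rkG] at h3
        have h4 := Submodule.finrank_mono h2
        exact (Submodule.eq_of_le_of_finrank_eq h2 (by omega)).ge
    · exact exists_generators_unit (n := n) (r := r) hs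
        (F := fun i => lext (rh p h) (F i)) (G := fun i => lext (rh p h) (G i))
        (fun i hi => D.lGF (rh p h) hi) (L.ch h) hr (L.fwd h)
  exact exists_gen_of_Sp (rh p h) (L.ch h) W hmr hr (L.fwd h) (L.bwd h) hWV
    (fun j hj => (hW j hj).trans (hm j hj).symm) hS

end Ty

section Theta

variable (L : LRep R d r n F G X p) {s : R} (D : LGd R d n F G s) (hrd : r ≤ d)

include D in
/-- The chain of the parameter ring. -/
theorem exists_hB {m : ℕ → ℕ} (hmr : Fintype.card (Ix n m) = r) :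
    ∃ h : Spec (CommRingCat.of (PB R d n F G m)) ⟶ X, rh p h = rB R d n F G m ∧
      ∀ j ≤ n, L.ch h j = vc F G (rB R d n F G m) (wB R d n F G m) j := by
  obtain ⟨h, h1, h2⟩ := L.surj (rB R d n F G m) (fun j => vc F G (rB R d n F G m) (wB R d n F G m) j)
    (fun j hj => vc_nice F G hmr _ _ _ (isUnit_gdB R d n F G m) hj)
    (fun j hj => vc_fwd D.hFG _ _ hj) (fun j hj => vc_bwd D.hGF _ _ hj)
  exact ⟨h, (rh_eq_iff p h _).2 h1, h2⟩

/-- Points with generators factor through the parameter space. -/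
theorem exists_factor {m : ℕ → ℕ}
    {hB : Spec (CommRingCat.of (PB R d n F G m)) ⟶ X} (h1 : rh p hB = rB R d n F G m)
    (h2 : ∀ j ≤ n, L.ch hB j = vc F G (rB R d n F G m) (wB R d n F G m) j)
    {A : Type u} [CommRing A] (h : Spec (CommRingCat.of A) ⟶ X) (w : Ix n m → Fin d → A)
    (l : Fin (n + 1) → Matrix (Ix n m) (Fin d) A) (hl : ∀ j, IsUnit (gd F G (rh p h) w l j))
    (hc : ∀ j ≤ n, L.ch h j = vc F G (rh p h) w j) :
    ∃ φ : PB R d n F G m →+* A, φ.comp (rB R d n F G m) = rh p h ∧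
      Spec.map (CommRingCat.ofHom φ) ≫ hB = h := by
  obtain ⟨φ, h3, h4⟩ := exists_hom (rh p h) w l hl
  refine ⟨φ, h3, ?_⟩
  refine L.inj _ _ ?_ ?_
  · rw [← map_rh, ← map_rh, rh_comp, h1, h3]
  · intro j hj
    rw [L.comp φ hB j hj, h2 j hj, ext_vc, h3, hc j hj]
    congr 1
    funext a
    exact h4 a

include D hrd in
/-- The generic point of the stratum of type `m`. -/
theorem exists_theta [IsDomain R] {m : ℕ → ℕ} (hmr : Fintype.card (Ix n m) = r)
    (hne : ∃ ξ : X, Ex L ξ ∧ ty L ξ = m) :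
    ∃ θ : X, (∀ x : PrimeSpectrum R, (p θ : PrimeSpectrum R) ⤳ x) ∧
      ∀ ξ : X, Ex L ξ → ty L ξ = m → θ ⤳ ξ := by
  obtain ⟨hB, h1, h2⟩ := exists_hB (r := r) L D hmr
  have key : ∀ ξ : X, Ex L ξ → ty L ξ = m → ∃ φ : PB R d n F G m →+* kap ξ,
      (Spec.map (CommRingCat.ofHom φ) ≫ hB) (IsLocalRing.closedPoint (kap ξ)) = ξ := by
    intro ξ hξ hty
    obtain ⟨w, l, hl, hc⟩ := exists_gen L D hrd (ik ξ)
      hξ (m := m) (fun j hj => by
        rw [← hty, ty]
        refine typ_congr (fun j hj => ?_) hj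
        rw [if_pos hj]; rfl) hmr
    obtain ⟨φ, -, hφ⟩ := exists_factor L h1 h2 (ik ξ)
      w l hl hc
    refine ⟨φ, ?_⟩
    rw [hφ]
    exact ik_closedPoint ξ
  obtain ⟨ξ0, hξ0, hty0⟩ := hne
  obtain ⟨φ0, -⟩ := key ξ0 hξ0 hty0
  have hnt : Nontrivial (PB R d n F G m) := φ0.domain_nontrivial
  obtain ⟨hdom, hinj⟩ := isDomain_PB (R := R) (d := d) (n := n) (F := F) (G := G) (m := m)
  let Q := FractionRing (PB R d n F G m)
  let ψ : PB R d n F G m →+* Q := algebraMap _ _
  have hψ : Function.Injective ψ := IsFractionRing.injective _ _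
  refine ⟨(Spec.map (CommRingCat.ofHom ψ) ≫ hB) (IsLocalRing.closedPoint Q), ?_, ?_⟩
  · intro x
    refine (PrimeSpectrum.le_iff_specializes _ _).1 ?_
    have h3 : p ((Spec.map (CommRingCat.ofHom ψ) ≫ hB) (IsLocalRing.closedPoint Q)) =
        (Spec.map (CommRingCat.ofHom (ψ.comp (rB R d n F G m)))) (IsLocalRing.closedPoint Q) := by
      have h4 : Spec.map (CommRingCat.ofHom (ψ.comp (rB R d n F G m))) =
          (Spec.map (CommRingCat.ofHom ψ) ≫ hB) ≫ p := by
        rw [← map_rh p, rh_comp, h1]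
      rw [h4]
      rfl
    rw [h3, map_closedPoint]
    change RingHom.ker _ ≤ x.asIdeal
    have h5 : Function.Injective (ψ.comp (rB R d n F G m)) := fun a b hab => hinj (hψ hab)
    rw [(RingHom.injective_iff_ker_eq_bot _).1 h5]
    exact bot_le
  · intro ξ hξ hty
    obtain ⟨φ, hφ⟩ := key ξ hξ hty
    have h3 := specializes_of_ring hB φ ψ hψ
    rw [hφ] at h3
    exact h3

end Theta

end K808.LT
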