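import Groth.Agent.W4c1limliniiii.K808.RamB

/-!
Pairs of polynomials over a field of characteristic `p`: pairs with vanishing Wronskian, reduction of
a pair at infinity, and the local conditions at the ramification points.
-/

set_option autoImplicit false

namespace K808.RamC

open Polynomial W4c1limliniiii K808.Ram K808.RamB

variable {k : Type*} [Field k] {p : ℕ}

/-- Two polynomials with vanishing Wronskian are proportional over polynomials in `X ^ p`. -/
theorem exists_of_wronskian_eq_zero [hp : Fact p.Prime] [CharP k p] {F G : k[X]}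
    (hW : wronskian F G = 0) :
    ∃ f g u v : k[X], u * f + v * g = 1 ∧ expand k p g * F = expand k p f * G := by
  by_cases hG : G = 0
  · subst hG
    exact ⟨1, 0, 1, 0, by ring, by simp⟩
  · classical
    obtain ⟨a, b, hab, hF, hG'⟩ : ∃ a b : k[X], IsCoprime a b ∧ F = gcd F G * a ∧
        G = gcd F G * b := by
      obtain ⟨a, ha⟩ := gcd_dvd_left F G
      obtain ⟨b, hb⟩ := gcd_dvd_right F G
      refine ⟨a, b, ?_, ha, hb⟩
      have hne : gcd F G ≠ 0 := fun h => hG ((gcd_eq_zero_iff F G).1 h).2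
      have h1 := gcd_isUnit_iff a b
      rw [← h1]
      have h2 : gcd F G * gcd a b ∣ gcd F G := by
        apply dvd_gcd
        · conv_rhs => rw [ha]
          exact mul_dvd_mul_left _ (gcd_dvd_left a b)
        · conv_rhs => rw [hb]
          exact mul_dvd_mul_left _ (gcd_dvd_right a b)
      obtain ⟨c, hc⟩ := h2
      have h3 : gcd F G * (gcd a b * c) = gcd F G * 1 := by
        rw [mul_one, ← mul_assoc]; exact hc.symm
      exact IsUnit.of_mul_eq_one _ (mul_left_cancel₀ hne h3)
    set h := gcd F G with hh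
    have hne : h ≠ 0 := fun h0 => hG ((gcd_eq_zero_iff F G).1 h0).2
    have hW' : h ^ 2 * wronskian a b = 0 := by
      rw [← hW]
      conv_rhs => rw [hF, hG']
      simp only [wronskian, derivative_mul]
      ring
    have hW2 : wronskian a b = 0 := (mul_eq_zero.1 hW').resolve_left (pow_ne_zero _ hne)
    obtain ⟨ha, hb⟩ := hab.wronskian_eq_zero_iff.1 hW2
    have ha' : expand k p (contract p a) = a := expand_contract p ha hp.1.ne_zero
    have hb' : expand k p (contract p b) = b := expand_contract p hb hp.1.ne_zero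
    have hcop : IsCoprime (contract p a) (contract p b) := by
      rw [← isCoprime_expand hp.1.ne_zero, ha', hb']
      exact hab
    obtain ⟨u, v, huv⟩ := hcop
    refine ⟨contract p a, contract p b, u, v, huv, ?_⟩
    rw [ha', hb']
    conv_lhs => rw [hF]
    conv_rhs => rw [hG']
    ring

/-- One step of the reduction at infinity. -/
theorem rel_step (F G : k[X]) (c : k) (l : ℕ) :
    Rel p (1 : k) F G (F - C c * X ^ (l * p) * G) G :=
  ⟨1, C c * X ^ (l * p), 0, 1, RamB.Con.one, (RamB.Con.C c).mul (RamB.Con.X_pow l), RamB.Con.zero, RamB.Con.one,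
    by ring, by ring, by simp⟩

theorem rel_swap (F G : k[X]) : Rel p (1 : k) F G (-G) F :=
  ⟨0, 1, -1, 0, RamB.Con.zero, RamB.Con.one, RamB.Con.one.neg, RamB.Con.zero, by ring, by ring, by simp⟩

/-- Degree drop. -/
theorem natDegree_sub_lt' {F G : k[X]} {l : ℕ} (hF : F ≠ 0) (hG : G ≠ 0)
    (h : F.natDegree = G.natDegree + l * p)
    (hne : F - C (F.leadingCoeff / G.leadingCoeff) * X ^ (l * p) * G ≠ 0) :
    (F - C (F.leadingCoeff / G.leadingCoeff) * X ^ (l * p) * G).natDegree < F.natDegree := by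
  have hq : F.leadingCoeff / G.leadingCoeff ≠ 0 :=
    div_ne_zero (leadingCoeff_ne_zero.2 hF) (leadingCoeff_ne_zero.2 hG)
  have hX : (X ^ (l * p) : k[X]) ≠ 0 := pow_ne_zero _ X_ne_zero
  have hd : degree (C (F.leadingCoeff / G.leadingCoeff) * X ^ (l * p) * G) = degree F := by
    rw [degree_mul, degree_C_mul_X_pow _ hq, degree_eq_natDegree hF, degree_eq_natDegree hG, h]
    push_cast
    ring
  have hl : leadingCoeff (C (F.leadingCoeff / G.leadingCoeff) * X ^ (l * p) * G) =
      leadingCoeff F := by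
    rw [leadingCoeff_mul, leadingCoeff_C_mul_X_pow, div_mul_cancel₀]
    exact leadingCoeff_ne_zero.2 hG
  have := degree_sub_lt_left hd.symm hF hl.symm
  exact natDegree_lt_natDegree hne this

/-- Reduction at infinity: after a unimodular change of basis over polynomials in `X ^ p`, the
degrees become incongruent modulo `p`. -/
theorem exists_reduced [hp : Fact p.Prime] [CharP k p] {F G : k[X]} (hW : wronskian F G ≠ 0) :
    ∃ F₀ G₀ : k[X], Rel p (1 : k) F G F₀ G₀ ∧ G₀.natDegree < F₀.natDegree ∧
      ¬ (p ∣ F₀.natDegree - G₀.natDegree) := by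
  -- minimise the sum of the degrees
  let P : ℕ → Prop := fun N => ∃ F₀ G₀ : k[X], Rel p (1 : k) F G F₀ G₀ ∧
    F₀.natDegree + G₀.natDegree = N
  have hP : ∃ N, P N := ⟨_, F, G, Rel.refl, rfl⟩
  classical
  obtain ⟨F₀, G₀, hrel, hN⟩ := Nat.find_spec hP
  have hmin : ∀ F₁ G₁ : k[X], Rel p (1 : k) F G F₁ G₁ →
      F₀.natDegree + G₀.natDegree ≤ F₁.natDegree + G₁.natDegree := by
    intro F₁ G₁ h
    rw [hN]
    exact Nat.find_min' hP ⟨F₁, G₁, h, rfl⟩
  have hne : ∀ F₁ G₁ : k[X], Rel p (1 : k) F G F₁ G₁ → F₁ ≠ 0 ∧ G₁ ≠ 0 := by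
    intro F₁ G₁ h
    have := h.wronskian
    constructor
    · rintro rfl; exact hW (by simpa using this)
    · rintro rfl; exact hW (by simpa using this)
  have key : ∀ F₁ G₁ : k[X], Rel p (1 : k) F G F₁ G₁ →
      F₁.natDegree + G₁.natDegree = F₀.natDegree + G₀.natDegree →
      ∀ l, F₁.natDegree ≠ G₁.natDegree + l * p := by
    intro F₁ G₁ h hd l hl
    have h2 : Rel p (1 : k) F G
        (F₁ - C (F₁.leadingCoeff / G₁.leadingCoeff) * X ^ (l * p) * G₁) G₁ := by
      have := h.trans (rel_step F₁ G₁ (F₁.leadingCoeff / G₁.leadingCoeff) l)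
      rwa [one_mul] at this
    have h3 := natDegree_sub_lt' (hne _ _ h).1 (hne _ _ h).2 hl (hne _ _ h2).1
    have h4 := hmin _ _ h2
    omega
  rcases lt_trichotomy G₀.natDegree F₀.natDegree with hlt | heq | hgt
  · refine ⟨F₀, G₀, hrel, hlt, ?_⟩
    rintro ⟨l, hl⟩
    exact key F₀ G₀ hrel rfl l (by rw [mul_comm] at hl; omega)
  · exact absurd (by simpa using heq.symm) (key F₀ G₀ hrel rfl 0)
  · have h2 : Rel p (1 : k) F G (-G₀) F₀ := by
      have := hrel.trans (rel_swap F₀ G₀)
      rwa [one_mul] at this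
    refine ⟨-G₀, F₀, h2, by rwa [natDegree_neg], ?_⟩
    rintro ⟨l, hl⟩
    rw [natDegree_neg] at hl
    refine key (-G₀) F₀ h2 (by rw [natDegree_neg]; ring) l ?_
    rw [natDegree_neg, mul_comm l p]
    omega

/-- Local conditions at a point where the Wronskian has order exactly `e - 1`. -/
theorem hasRamIdx_of_not_dvd {F G : k[X]} {a : k} {e : ℕ} (he : 1 ≤ e)
    (hW : ¬ (X - C a) ^ e ∣ wronskian F G) (hli : LinearIndependent k ![F, G]) {x y : k}
    (hxy : x ≠ 0 ∨ y ≠ 0) (hd : (X - C a) ^ e ∣ C x * F + C y * G) :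
    HasRamIdx (Submodule.span k {F, G}) a e ∧ ∃ s ∈ Submodule.span k {F, G}, s.eval a ≠ 0 := by
  have hli' := LinearIndependent.pair_iff.1 hli
  set t := x • F + y • G with ht
  have htd : (X - C a) ^ e ∣ t := by rw [ht, smul_eq_C_mul, smul_eq_C_mul]; exact hd
  have ht0 : t ≠ 0 := by
    intro h
    have := hli' x y h
    rcases hxy with h | h
    · exact h this.1
    · exact h this.2
  -- any member divisible by a power `e'` gives divisibility of the Wronskian by `e' - 1`
  have key : ∀ (s : k[X]), s ∈ Submodule.span k {F, G} → s ≠ 0 → ∀ u : k[X],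
      (∀ r : k[X], r ∈ Submodule.span k {F, G} → u ∣ wronskian r s) → u ∣ wronskian F G := by
    intro s hs hs0 u hu
    obtain ⟨b, c, hbc⟩ := Submodule.mem_span_pair.1 hs
    have hF : F ∈ Submodule.span k {F, G} := Submodule.subset_span (by simp)
    have hG : G ∈ Submodule.span k {F, G} := Submodule.subset_span (by simp)
    by_cases hc : c = 0
    · subst hc
      have hb : b ≠ 0 := by rintro rfl; apply hs0; rw [← hbc]; simp
      have h1 := hu G hG
      have h2 : wronskian F G = C (-b⁻¹) * wronskian G s := by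
        rw [← hbc, zero_smul, add_zero, smul_eq_C_mul]
        simp only [wronskian, derivative_mul, derivative_C, map_neg]
        have : C b⁻¹ * C b = (1 : k[X]) := by rw [← map_mul, inv_mul_cancel₀ hb, map_one]
        linear_combination (-(F * derivative G - derivative F * G)) * this
      rw [h2]
      exact h1.mul_left _
    · have h1 := hu F hF
      have h2 : wronskian F G = C c⁻¹ * wronskian F s := by
        rw [← hbc, smul_eq_C_mul, smul_eq_C_mul]
        simp only [wronskian, derivative_mul, derivative_C, derivative_add]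
        have : C c⁻¹ * C c = (1 : k[X]) := by rw [← map_mul, inv_mul_cancel₀ hc, map_one]
        linear_combination (-(F * derivative G - derivative F * G)) * this
      rw [h2]
      exact h1.mul_left _
  refine ⟨⟨⟨t, Submodule.mem_span_pair.2 ⟨x, y, rfl⟩, ht0, (le_rootMultiplicity_iff ht0).2 htd⟩,
    ?_⟩, ?_⟩
  · intro s hs hs0
    by_contra hlt
    push Not at hlt
    have hsd : (X - C a) ^ (e + 1) ∣ s := (le_rootMultiplicity_iff hs0).1 hlt
    exact hW (key s hs hs0 _ fun r _ => pow_dvd_wronskian r hsd)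
  · by_contra hcon
    push Not at hcon
    refine hW (key t (Submodule.mem_span_pair.2 ⟨x, y, rfl⟩) ht0 _ fun r hr => ?_)
    have hra : (X - C a) ∣ r := dvd_iff_isRoot.2 (hcon r hr)
    obtain ⟨r', rfl⟩ := hra
    obtain ⟨m, rfl⟩ : ∃ m, e = m + 1 := ⟨e - 1, by omega⟩
    obtain ⟨q, hq⟩ := htd
    rw [hq, wronskian_mul_pow, pow_succ]
    refine mul_dvd_mul_left _ (dvd_add ?_ (dvd_mul_right _ _))
    exact ⟨C ((m + 1 : ℕ) : k) * r' * q, by ring⟩

end K808.RamC
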